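import Cfsg.Agent.LFiveType.FactsBar

/-!
# The two sides: the action on A2 and on A3 modulo the centre
-/

set_option autoImplicit false
set_option maxRecDepth 100000
set_option Elab.async false

namespace Cfsg.Lib.LFiveType

/-- The data of a side: the mask, five basis codes, three codes acting as transvections, the classes moved out. -/
structure SideData where
  mask : ℕ
  low : ℕ
  width : ℕ
  high : ℕ
  tvs : List ℕ
  tw : List (ℕ × ℕ)
  reps : List ℕ

/-- The side of A2. -/
def sideTwo : SideData := ⟨118, 1, 2, 4, [256, 512, 768], [(16, 4), (16, 8), (16, 12)], [16, 20, 32, 34]⟩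

/-- The side of A3. -/
def sideThree : SideData := ⟨484, 2, 1, 5, [1, 2, 3], [(1, 2), (1, 8), (1, 10)], [128, 192, 288]⟩

/-- The code of a vector of five bits. -/
def embS5 (d : SideData) (k : ℕ) : ℕ :=
  ((k % 2 ^ d.width) <<< d.low) ||| ((k >>> d.width) <<< d.high)

/-- The vector of a code. -/
def idxS5 (d : SideData) (n : ℕ) : ℕ :=
  ((n >>> d.low) % 2 ^ d.width) ||| (((n >>> d.high) % 2 ^ (5 - d.width)) <<< d.width)

/-- The action of a code. -/
def actS5 (d : SideData) (s k : ℕ) : ℕ := idxS5 d (cjB s (embS5 d k))

/-- A transvection map from a centre and a functional mask. -/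
def tvS5 (a w k : ℕ) : ℕ :=
  bif Nat.testBit 2523490710 (k &&& w) then k ^^^ a else k

/-- All the finite facts of a side. -/
def sideOK (d : SideData) : Bool :=
  ((List.range 32).all fun k => Nat.beq (bn (embS5 d k)) (embS5 d k) && decide (embS5 d k < 1024) &&
      inMask d.mask (embS5 d k) && Nat.beq (idxS5 d (embS5 d k)) k &&
      (List.range 32).all fun l => Nat.beq (bm (embS5 d k) (embS5 d l)) (embS5 d (k ^^^ l))) &&
    (BL.all fun n => !inMask d.mask n || ((List.range 32).map (embS5 d)).contains n) &&
    ((List.range 32).all fun k =>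
      inV (embS5 d k) == d.tvs.all fun f => Nat.beq (actS5 d f k) k) &&
    (d.tvs.all fun f => decide (f < 1024) && d.tvs.all fun g =>
      (List.range 32).all fun k => Nat.beq (actS5 d f (actS5 d g k)) (actS5 d g (actS5 d f k))) &&
    (d.reps.all fun y => decide (y < 1024) && ((List.range 32).map (embS5 d)).contains y && !inV y &&
      (List.range 32).all fun k => (cbL y).contains (embS5 d k))

/-- The transvections of the Sylow subgroup are the three. -/
def sideTv (d : SideData) : Bool :=
  BL.all fun s =>
    !((List.range 5).all fun i => (List.range 5).all fun j =>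
        Nat.beq (actS5 d s (2 ^ i)) (2 ^ i) || Nat.beq (actS5 d s (2 ^ j)) (2 ^ j) ||
          Nat.beq (actS5 d s (2 ^ i) ^^^ 2 ^ i) (actS5 d s (2 ^ j) ^^^ 2 ^ j)) ||
      (List.range 5).all (fun i => Nat.beq (actS5 d s (2 ^ i)) (2 ^ i)) ||
      d.tvs.any fun f => (List.range 5).all fun i => Nat.beq (actS5 d s (2 ^ i)) (actS5 d f (2 ^ i))

/-- A transvection either commutes with the three or has a product of order four with one of them. -/
def sidePair (d : SideData) : Bool :=
  (List.range 32).all fun a => (List.range 32).all fun w =>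
    let b := tvS5 a w
    !((List.range 32).all fun k => Nat.beq (b (b k)) k) ||
    (d.tw.all fun f => (List.range 32).all fun k => Nat.beq (b (tvS5 f.1 f.2 k)) (tvS5 f.1 f.2 (b k))) ||
    d.tw.any fun f => (List.range 32).any (fun k => !Nat.beq (b (tvS5 f.1 f.2 k)) (tvS5 f.1 f.2 (b k))) &&
      (List.range 32).all fun k =>
        Nat.beq ((fun x => b (tvS5 f.1 f.2 (b (tvS5 f.1 f.2 (b (tvS5 f.1 f.2 (b (tvS5 f.1 f.2 x)))))))) k) k

/-- The three act as the listed transvections. -/
def sideLink (d : SideData) : Bool :=
  Nat.beq d.tw.length d.tvs.length && (d.tvs.zip d.tw).all fun p => (List.range 32).all fun k =>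
    Nat.beq (actS5 d p.1 k) (tvS5 p.2.1 p.2.2 k)

/-- The tvs act as transvections, distinct and not trivial. -/
def sideThreeTv (d : SideData) : Bool :=
  (d.tvs.all fun f => (List.range 32).all fun k => (List.range 32).all fun l =>
      Nat.beq (actS5 d f k) k || Nat.beq (actS5 d f l) l || Nat.beq (actS5 d f k ^^^ k) (actS5 d f l ^^^ l)) &&
    (d.tvs.all fun f => (List.range 32).all fun k => Nat.beq (actS5 d f (actS5 d f k)) k) &&
    Nat.beq d.tvs.length 3 &&
    (d.tvs.all fun f => (List.range 32).any fun k => !Nat.beq (actS5 d f k) k) &&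
    (d.tvs.all fun f => d.tvs.all fun g => Nat.beq f g ||
      (List.range 32).any fun k => !Nat.beq (actS5 d f k) (actS5 d g k))

theorem five_bits : ∀ k : Fin 32, k.val = (bif k.val.testBit 0 then 1 else 0) ^^^
    (bif k.val.testBit 1 then 2 else 0) ^^^ (bif k.val.testBit 2 then 4 else 0) ^^^
    (bif k.val.testBit 3 then 8 else 0) ^^^ (bif k.val.testBit 4 then 16 else 0) := by
  decide +kernel

theorem parity_xor : ∀ k l : Fin 32, Nat.testBit 2523490710 (k.val ^^^ l.val) =
    xor (Nat.testBit 2523490710 k.val) (Nat.testBit 2523490710 l.val) := by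
  decide +kernel

theorem parity_bits : ∀ w : Fin 32, ∀ i : Fin 5, Nat.testBit 2523490710 (2 ^ i.val &&& w.val) = w.val.testBit i.val := by
  decide +kernel

theorem sideTwo_ok : sideOK sideTwo = true ∧ sideTv sideTwo = true ∧ sideThreeTv sideTwo = true := by decide +kernel

theorem sideThree_ok : sideOK sideThree = true ∧ sideTv sideThree = true ∧ sideThreeTv sideThree = true := by
  decide +kernel

theorem side_link : sideLink sideTwo = true ∧ sideLink sideThree = true := by decide +kernel

theorem sideTwo_pair : sidePair sideTwo = true := by decide +kernel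

theorem sideThree_pair : sidePair sideThree = true := by decide +kernel

end Cfsg.Lib.LFiveType
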