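import Cfsg.Agent.LFiveType.FactsBar
import Cfsg.Agent.LFiveType.FactsSide
import Cfsg.Agent.InvolCalc.ZStarApps

/-!
# A group with the Sylow subgroup of the centraliser modulo the centre
-/

set_option autoImplicit false
set_option linter.unusedSectionVars false
set_option maxRecDepth 100000

namespace Cfsg.Lib.LFiveType

open Subgroup

/-- A code modulo the centre. -/
def IsB (n : ℕ) : Prop := n < 1024 ∧ bn n = n

theorem mem_BL {n : ℕ} : n ∈ BL ↔ IsB n := by simp [BL, IsB]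

theorem IsB.bn_of {n : ℕ} (h : n < 1024) : IsB (bn n) := ⟨(bn_bit ⟨n, h⟩).1, (bn_bit ⟨n, h⟩).2.1⟩

theorem IsB.bm_of {a b : ℕ} (ha : a < 1024) (hb : b < 1024) : IsB (bm a b) := IsB.bn_of (mulN_lt ha hb)

theorem mem_cbL {a b : ℕ} : b ∈ cbL a ↔ IsB b ∧ bm a b = bm b a := by simp [cbL, mem_BL]

theorem mem_cavL {p q : ℕ} :
    q ∈ cavL p ↔ IsB q ∧ bm p q = bm q p ∧ sqB q = true ∧ outB q = false ∧ outB (bm p q) = false := by
  simp [cavL, mem_cbL, and_assoc]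

theorem all_BL {f : ℕ → Bool} (h : BL.all f = true) {n : ℕ} (hn : IsB n) : f n = true :=
  List.all_eq_true.1 h n (mem_BL.2 hn)

/-- The data taken from the centraliser of the central involution. -/
structure BarGrp (X : Type*) [Group X] where
  σ : Mdl →* X
  ker : ∀ a, σ a = 1 ↔ a = 1 ∨ a = zM
  sylow : ∃ T : Sylow 2 X, (T : Subgroup X) = σ.range
  sq : ∀ (g : X) (a b : Mdl), g * σ a * g⁻¹ = σ b → a * a = 1 → b * b = 1
  wc : ∀ d ∈ [sideTwo, sideThree], ∀ g : X,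
    (∀ a : Mdl, inMask d.mask a.code.val = true → g * σ a * g⁻¹ ∈ σ.range) →
    ∀ a : Mdl, inMask d.mask a.code.val = true →
      ∃ b : Mdl, inMask d.mask (bn b.code.val) = true ∧ g * σ a * g⁻¹ = σ b

namespace BarGrp

variable {X : Type*} [Group X] [Finite X] (M : BarGrp X)

/-- The element of a code. -/
def s (n : ℕ) : X := M.σ (ofN n)

theorem s_zero : M.s 0 = 1 := map_one M.σ

theorem s_code (a : Mdl) : M.s a.code.val = M.σ a := by
  rw [s, code_inj.1 (ofN_code a.code.isLt)]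

theorem s_eight (a : Mdl) : M.σ (a * zM) = M.σ a := by
  rw [map_mul, (M.ker zM).2 (Or.inr rfl), mul_one]

theorem s_bn {n : ℕ} (hn : n < 1024) : M.s (bn n) = M.s n := by
  rcases (bn_bit ⟨n, hn⟩).2.2 with e | e
  · exact congrArg M.s e
  · rw [show bn n = _ from e, s, s]
    conv_rhs => rw [← M.s_eight]
    rw [code_inj.1 (show (ofN (mulN n 8)).code.val = (ofN n * zM).code.val by
      rw [code_mul, ofN_code hn, ofN_code (mulN_lt hn (by norm_num))]; rfl)]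

theorem s_bm {a b : ℕ} (ha : a < 1024) (hb : b < 1024) : M.s (bm a b) = M.s a * M.s b := by
  rw [bm, M.s_bn (mulN_lt ha hb), s, s, s, ← map_mul]
  rw [code_inj.1 (show (ofN (mulN a b)).code.val = (ofN a * ofN b).code.val by
    rw [code_mul, ofN_code ha, ofN_code hb, ofN_code (mulN_lt ha hb)])]

theorem s_inj {a b : ℕ} (ha : IsB a) (hb : IsB b) (h : M.s a = M.s b) : a = b := by
  have h1 : M.σ ((ofN a)⁻¹ * ofN b) = 1 := by rw [map_mul, map_inv, inv_mul_eq_one]; exact h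
  have h2 : b = a ∨ b = mulN a 8 := by
    rcases (M.ker _).1 h1 with e | e
    · left
      rw [inv_mul_eq_one] at e
      rw [← ofN_code hb.1, ← e, ofN_code ha.1]
    · right
      rw [inv_mul_eq_iff_eq_mul] at e
      rw [← ofN_code hb.1, e, code_mul, ofN_code ha.1]
      rfl
  rcases h2 with e | e
  · exact e.symm
  · rw [← hb.2, e, bn_mul_eight ⟨a, ha.1⟩]
    exact ha.2.symm

theorem s_bi {a : ℕ} (ha : a < 1024) : bi a < 1024 ∧ M.s (bi a) = (M.s a)⁻¹ := by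
  have h1 : bi a < 1024 := (IsB.bn_of (mulN_lt (mulN_lt ha (mulN_lt ha ha))
    (mulN_lt (mulN_lt ha ha) (mulN_lt ha ha)))).1
  refine ⟨h1, eq_inv_of_mul_eq_one_right ?_⟩
  rw [← M.s_bm ha h1, show bm a (bi a) = 0 from bi_spec ⟨a, ha⟩, M.s_zero]

theorem s_cjB {t a : ℕ} (ht : t < 1024) (ha : a < 1024) :
    IsB (cjB t a) ∧ M.s (cjB t a) = M.s t * M.s a * (M.s t)⁻¹ := by
  obtain ⟨h1, h2⟩ := M.s_bi ht
  have h3 := IsB.bm_of ht ha
  exact ⟨IsB.bm_of h3.1 h1, by rw [cjB, M.s_bm h3.1 h1, M.s_bm ht ha, h2]⟩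

theorem exists_bar {x : X} (hx : x ∈ M.σ.range) : ∃ n, IsB n ∧ M.s n = x := by
  obtain ⟨a, rfl⟩ := hx
  exact ⟨bn a.code.val, IsB.bn_of a.code.isLt, by rw [M.s_bn a.code.isLt, M.s_code]⟩

theorem s_mem (n : ℕ) : M.s n ∈ M.σ.range := ⟨_, rfl⟩

theorem comm_iff {a b : ℕ} (ha : IsB a) (hb : IsB b) : M.s a * M.s b = M.s b * M.s a ↔ bm a b = bm b a := by
  rw [← M.s_bm ha.1 hb.1, ← M.s_bm hb.1 ha.1]
  exact ⟨fun h => M.s_inj (IsB.bm_of ha.1 hb.1) (IsB.bm_of hb.1 ha.1) h, fun h => congrArg M.s h⟩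

theorem isB_zero : IsB 0 := ⟨by norm_num, rfl⟩

theorem sq_iff {a : ℕ} (ha : IsB a) : M.s a * M.s a = 1 ↔ sqB a = true := by
  rw [← M.s_bm ha.1 ha.1, ← M.s_zero, sqB, Nat.beq_eq]
  exact ⟨fun h => M.s_inj (IsB.bm_of ha.1 ha.1) isB_zero h, fun h => congrArg M.s h⟩

theorem inV_mul {a b : ℕ} (ha : IsB a) (hb : IsB b) (hva : inV a = true) (hvb : inV b = true) :
    inV (bm a b) = true := by
  have h1 := inMask_mul maskOK_all.2.2.2.2.1 (a := ofN a) (b := ofN b)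
    (by rw [ofN_code ha.1]; exact hva) (by rw [ofN_code hb.1]; exact hvb)
  rw [code_mul, ofN_code ha.1, ofN_code hb.1] at h1
  exact bn_inV ⟨_, mulN_lt ha.1 hb.1⟩ h1

theorem inV_comm {a b : ℕ} (ha : IsB a) (hb : IsB b) (hva : inV a = true) (hvb : inV b = true) :
    bm a b = bm b a ∧ sqB a = true := by
  have h1 := all_BL inV_facts ha
  rw [hva, Bool.not_true, Bool.false_or] at h1
  have h2 := all_BL h1 hb
  rw [hvb, Bool.not_true, Bool.false_or, Bool.and_eq_true, Nat.beq_eq] at h2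
  exact h2

/-- The centraliser in the Sylow subgroup. -/
def CT (v : ℕ) : Subgroup X := centralizer ({M.s v} : Set X) ⊓ M.σ.range

theorem mem_CT {v c : ℕ} (hv : IsB v) (hc : IsB c) : M.s c ∈ M.CT v ↔ c ∈ cbL v := by
  rw [CT, mem_inf, mem_centralizer_singleton_iff, mem_cbL, M.comm_iff hc hv]
  exact ⟨fun h => ⟨hc, h.1.symm⟩, fun h => ⟨h.2.symm, M.s_mem c⟩⟩

theorem cbL_nodup (v : ℕ) : (cbL v).Nodup := (List.nodup_range.filter _).filter _

theorem card_CT {v : ℕ} (hv : IsB v) : Nat.card (M.CT v) = (cbL v).length := by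
  classical
  have e : (M.CT v : Set X) = M.s '' ↑((cbL v).toFinset) := by
    ext x
    simp only [SetLike.mem_coe, Set.mem_image, List.coe_toFinset, Set.mem_ofPred_eq]
    constructor
    · intro hx
      obtain ⟨c, hc, rfl⟩ := M.exists_bar (mem_inf.1 hx).2
      exact ⟨c, (M.mem_CT hv hc).1 hx, rfl⟩
    · rintro ⟨c, hc, rfl⟩
      exact (M.mem_CT hv (mem_cbL.1 hc).1).2 hc
  rw [← SetLike.coe_sort_coe, Nat.card_coe_set_eq, e, Set.InjOn.ncard_image, Set.ncard_coe_finset,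
    List.toFinset_card_of_nodup (cbL_nodup v)]
  intro a ha b hb h
  simp only [List.coe_toFinset, Set.mem_ofPred_eq] at ha hb
  exact M.s_inj (mem_cbL.1 ha).1 (mem_cbL.1 hb).1 h

theorem isPGroup_range : IsPGroup 2 M.σ.range := by
  obtain ⟨T, hT⟩ := M.sylow
  exact hT ▸ T.isPGroup'

theorem isPGroup_CT (v : ℕ) : IsPGroup 2 (M.CT v) := M.isPGroup_range.to_le inf_le_right

theorem card_le_list {A : Subgroup X} {L : List ℕ} (h : ∀ x ∈ A, ∃ n ∈ L, M.s n = x) :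
    Nat.card A ≤ L.length := by
  classical
  have h1 : (A : Set X) ⊆ M.s '' ↑(L.toFinset) := fun x hx => by
    obtain ⟨n, hn, e⟩ := h x hx
    exact ⟨n, by simpa using hn, e⟩
  have h2 : (A : Set X).ncard ≤ L.toFinset.card :=
    (Set.ncard_le_ncard h1 ((Finset.finite_toSet _).image _)).trans
      ((Set.ncard_image_le (Finset.finite_toSet _)).trans (Set.ncard_coe_finset _).le)
  rw [← SetLike.coe_sort_coe, Nat.card_coe_set_eq]
  exact h2.trans L.toFinset_card_le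

/-- Q is the only elementary abelian subgroup of order 64. -/
theorem only_64 {A : Subgroup X} (hA : A ≤ M.σ.range) (hc : Nat.card A = 64) (hsq : ∀ x ∈ A, x * x = 1)
    (hcm : ∀ x ∈ A, ∀ y ∈ A, x * y = y * x) {n : ℕ} (hn : IsB n) (hnA : M.s n ∈ A) : inV n = true := by
  by_contra hV
  have h1 := all_BL outside_no_64 hn
  rw [Bool.eq_false_iff.2 hV, (M.sq_iff hn).1 (hsq _ hnA)] at h1
  simp only [Bool.false_or, Bool.not_true, List.any_eq_true, List.mem_filter, Bool.and_eq_true,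
    decide_eq_true_eq] at h1
  obtain ⟨b, ⟨hb, -⟩, hb1, hb2⟩ := h1
  have hmem : ∀ x ∈ A, ∃ q, IsB q ∧ M.s q = x ∧ q ∈ cbL n ∧ sqB q = true := fun x hx => by
    obtain ⟨q, hq, rfl⟩ := M.exists_bar (hA hx)
    exact ⟨q, hq, rfl, mem_cbL.2 ⟨hq, (M.comm_iff hn hq).1 (hcm _ hnA _ hx)⟩, (M.sq_iff hq).1 (hsq _ hx)⟩
  by_cases hbA : M.s b ∈ A
  · have := M.card_le_list (A := A) (L := (cbL n).filter fun q => sqB q && Nat.beq (bm b q) (bm q b)) fun x hx => by
      obtain ⟨q, hq, rfl, hqn, hqs⟩ := hmem x hx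
      refine ⟨q, List.mem_filter.2 ⟨hqn, ?_⟩, rfl⟩
      rw [hqs, Bool.true_and, Nat.beq_eq]
      exact (M.comm_iff (mem_cbL.1 hb).1 hq).1 (hcm _ hbA _ hx)
    omega
  · have := M.card_le_list (A := A) (L := (cbL n).filter fun q => sqB q && !Nat.beq q b) fun x hx => by
      obtain ⟨q, hq, rfl, hqn, hqs⟩ := hmem x hx
      refine ⟨q, List.mem_filter.2 ⟨hqn, ?_⟩, rfl⟩
      rw [hqs, Bool.true_and, Bool.not_eq_true', Bool.eq_false_iff, ne_eq, Nat.beq_eq]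
      exact fun e => hbA (e ▸ hx)
    omega

/-- A conjugate pair between Q and its complement can be chosen with the centraliser moved into the Sylow subgroup. -/
theorem exists_fused {y v : ℕ} (hy : IsB y) (hv : IsB v) (hys : sqB y = true) (hyV : inV y = false)
    (hvV : inV v = true) {g₀ : X} (hg : g₀ * M.s y * g₀⁻¹ = M.s v) :
    ∃ (w : ℕ) (g : X), IsB w ∧ inV w = true ∧ g * M.s y * g⁻¹ = M.s w ∧
      ∀ c ∈ cbL y, g * M.s c * g⁻¹ ∈ M.σ.range := by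
  obtain ⟨T, hT⟩ := M.sylow
  haveI : Fact (Nat.Prime 2) := ⟨Nat.prime_two⟩
  set H := centralizer ({M.s v} : Set X)
  have hCH : M.CT v ≤ H := inf_le_left
  obtain ⟨T₁, hT₁⟩ := ((M.isPGroup_CT v).of_injective (subgroupOfEquivOfLe hCH).toMonoidHom
    (subgroupOfEquivOfLe hCH).injective).exists_le_sylow
  set T₁' := (T₁ : Subgroup H).map H.subtype with hT₁'
  have hle : M.CT v ≤ T₁' := fun x hx => ⟨⟨x, hCH hx⟩, hT₁ hx, rfl⟩
  have hp1 : IsPGroup 2 T₁' := T₁.isPGroup'.map _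
  obtain ⟨c, -, hc⟩ := Cfsg.Lib.ZStarApps.exists_conj_mem_sylow T (H := ⊤) le_top hp1 le_top
  rw [hT] at hc
  have hsv : M.s v ∈ M.CT v := (M.mem_CT hv hv).2 (mem_cbL.2 ⟨hv, rfl⟩)
  obtain ⟨w, hw, hcw⟩ := M.exists_bar (hc _ (hle hsv))
  set V := (M.CT y).map (MulAut.conj g₀).toMonoidHom with hV
  have hVH : V ≤ H := by
    rintro _ ⟨x, hx, rfl⟩
    rw [mem_centralizer_singleton_iff, ← hg]
    show g₀ * x * g₀⁻¹ * (g₀ * M.s y * g₀⁻¹) = g₀ * M.s y * g₀⁻¹ * (g₀ * x * g₀⁻¹)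
    rw [show g₀ * x * g₀⁻¹ * (g₀ * M.s y * g₀⁻¹) = g₀ * (x * M.s y) * g₀⁻¹ by group,
      mem_centralizer_singleton_iff.1 (mem_inf.1 hx).1]
    group
  obtain ⟨⟨h, hhH⟩, -, hh⟩ := Cfsg.Lib.ZStarApps.exists_conj_mem_sylow T₁ (H := ⊤) le_top
    (((M.isPGroup_CT y).map _).of_injective (subgroupOfEquivOfLe hVH).toMonoidHom
      (subgroupOfEquivOfLe hVH).injective : IsPGroup 2 (V.subgroupOf H)) le_top
  have hmove : ∀ x ∈ cbL y, h * (g₀ * M.s x * g₀⁻¹) * h⁻¹ ∈ T₁' := fun x hx => by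
    have hxV : g₀ * M.s x * g₀⁻¹ ∈ V := ⟨M.s x, (M.mem_CT hy (mem_cbL.1 hx).1).2 hx, rfl⟩
    exact ⟨_, hh ⟨_, hVH hxV⟩ hxV, rfl⟩
  have hhv : h * M.s v * h⁻¹ = M.s v := by
    rw [mem_centralizer_singleton_iff.1 hhH, mul_inv_cancel_right]
  by_cases hwV : inV w = true
  · refine ⟨w, c * h * g₀, hw, hwV, ?_, fun x hx => ?_⟩
    · rw [hcw, show c * h * g₀ * M.s y * (c * h * g₀)⁻¹ = c * (h * (g₀ * M.s y * g₀⁻¹) * h⁻¹) * c⁻¹ by group,
        hg, hhv]
    · rw [show c * h * g₀ * M.s x * (c * h * g₀)⁻¹ = c * (h * (g₀ * M.s x * g₀⁻¹) * h⁻¹) * c⁻¹ by group]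
      exact hc _ (hmove x hx)
  · have hws : sqB w = true := (M.sq_iff hw).1 (by
      rw [hcw, show c * M.s v * c⁻¹ * (c * M.s v * c⁻¹) = c * (M.s v * M.s v) * c⁻¹ by group,
        (M.sq_iff hv).2 (inV_comm hv hv hvV hvV).2, mul_one, mul_inv_cancel])
    have himg : ∀ (B : Subgroup X), B ≤ T₁' → B.map (MulAut.conj c).toMonoidHom ≤ M.CT w := by
      rintro B hB _ ⟨x, hx, rfl⟩
      refine mem_inf.2 ⟨mem_centralizer_singleton_iff.2 ?_, hc x (hB hx)⟩
      rw [hcw]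
      show c * x * c⁻¹ * (c * M.s v * c⁻¹) = c * M.s v * c⁻¹ * (c * x * c⁻¹)
      rw [show c * x * c⁻¹ * (c * M.s v * c⁻¹) = c * (x * M.s v) * c⁻¹ by group,
        mem_centralizer_singleton_iff.1 (map_subtype_le _ (hB hx))]
      group
    have h128 : Nat.card T₁' ≤ 128 := by
      have h1 := card_le_of_le (himg T₁' le_rfl)
      rw [card_map_of_injective (MulAut.conj c).injective, M.card_CT hw] at h1
      have h2 := all_BL outside_size hw
      rw [Bool.eq_false_iff.2 hwV, hws] at h2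
      simp only [Bool.false_or, Bool.not_true, decide_eq_true_eq] at h2
      exact h1.trans h2
    have h3 := all_BL cbL_size hv
    rw [hvV] at h3
    simp only [Bool.not_true, Bool.false_or, Bool.or_eq_true, Bool.and_eq_true, List.all_eq_true,
      Nat.beq_eq, decide_eq_true_eq] at h3
    rcases h3 with ⟨hall, h64⟩ | h128'
    · exfalso
      set A := (M.CT v).map (MulAut.conj c).toMonoidHom
      have hel : ∀ x ∈ M.CT v, ∃ a, IsB a ∧ inV a = true ∧ M.s a = x := fun x hx => by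
        obtain ⟨a, ha, rfl⟩ := M.exists_bar (mem_inf.1 hx).2
        exact ⟨a, ha, hall a ((M.mem_CT hv ha).1 hx), rfl⟩
      refine hwV (M.only_64 (A := A) ((himg _ hle).trans inf_le_right) ?_ ?_ ?_ hw (hcw ▸ ⟨_, hsv, rfl⟩))
      · rw [card_map_of_injective (MulAut.conj c).injective, M.card_CT hv, h64]
      · rintro _ ⟨x, hx, rfl⟩
        obtain ⟨a, ha, hav, rfl⟩ := hel x hx
        rw [← map_mul, (M.sq_iff ha).2 (inV_comm ha ha hav hav).2, map_one]
      · rintro _ ⟨x, hx, rfl⟩ _ ⟨x', hx', rfl⟩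
        obtain ⟨a, ha, hav, rfl⟩ := hel x hx
        obtain ⟨b, hb, hbv, rfl⟩ := hel x' hx'
        rw [← map_mul, ← map_mul, (M.comm_iff ha hb).2 (inV_comm ha hb hav hbv).1]
    · have e : M.CT v = T₁' := eq_of_le_of_card_ge hle (by rw [M.card_CT hv]; omega)
      refine ⟨v, h * g₀, hv, hvV, ?_, fun x hx => ?_⟩
      · rw [show h * g₀ * M.s y * (h * g₀)⁻¹ = h * (g₀ * M.s y * g₀⁻¹) * h⁻¹ by group, hg, hhv]
      · rw [show h * g₀ * M.s x * (h * g₀)⁻¹ = h * (g₀ * M.s x * g₀⁻¹) * h⁻¹ by group]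
        exact (mem_inf.1 (show _ ∈ M.CT v from e.symm ▸ hmove x hx)).2

end BarGrp

end Cfsg.Lib.LFiveType
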