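import Cfsg.Agent.LFiveType.Kill

/-!
# The centraliser of the central involution modulo the centre
-/

set_option autoImplicit false
set_option linter.unusedSectionVars false
set_option linter.style.haveILetI false
set_option maxRecDepth 100000

namespace Cfsg.Lib.LFiveType

open Subgroup

theorem mask_sides : ∀ n : Fin 1024, (inMask mA2 n.val = inMask 118 (bn n.val)) ∧
    (inMask mA3 n.val = inMask 484 (bn n.val)) ∧ (inMask mQ n.val = inV (bn n.val)) ∧
    (inMask 118 n.val = true → inMask mA2 n.val = true) ∧ (inMask 484 n.val = true → inMask mA3 n.val = true) := by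
  decide +kernel

namespace Setting

variable {G : Type*} [Group G] [Finite G] (S : Setting G)

/-- The centraliser of the central involution. -/
abbrev CZ : Subgroup G := centralizer ({S.z} : Set G)

/-- The central involution in its centraliser. -/
def zK : S.CZ := ⟨S.z, mem_centralizer_singleton_iff.2 rfl⟩

instance zK_normal : (zpowers S.zK).Normal := ⟨fun n hn g => by
  obtain ⟨i, rfl⟩ := hn
  have h : Commute g S.zK := Subtype.ext (mem_centralizer_singleton_iff.1 g.2)
  show g * S.zK ^ i * g⁻¹ ∈ zpowers S.zK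
  rw [(h.zpow_right i).eq, mul_inv_cancel_right]
  exact ⟨i, rfl⟩⟩

theorem mem_zK {x : S.CZ} (h : x ∈ zpowers S.zK) : (x : G) = 1 ∨ (x : G) = S.z := by
  obtain ⟨i, rfl⟩ := h
  show S.z ^ i = 1 ∨ S.z ^ i = S.z
  have h2 : S.z ^ (2 : ℤ) = 1 := by rw [zpow_two]; exact S.z_sq
  rcases Int.even_or_odd i with ⟨j, rfl⟩ | ⟨j, rfl⟩
  · left; rw [← two_mul, zpow_mul, h2, one_zpow]
  · right; rw [zpow_add, zpow_mul, h2, one_zpow, one_mul, zpow_one]

theorem e_mem_CZ (a : Mdl) : S.e a ∈ S.CZ := mem_centralizer_singleton_iff.2 (S.z_central (S.e_mem a))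

/-- The Sylow subgroup in the centraliser modulo the centre. -/
def barHom : Mdl →* S.CZ ⧸ zpowers S.zK :=
  (QuotientGroup.mk' _).comp (S.e.codRestrict S.CZ S.e_mem_CZ)

/-- The weakly closed hypothesis on a subgroup. -/
def WeakClosed (A : Subgroup G) : Prop :=
  ∀ g : G, (∀ x ∈ A, g * x * g⁻¹ ∈ (S.syl : Subgroup G)) → ∀ x, x ∈ A ↔ g * x * g⁻¹ ∈ A

theorem barHom_eq {x : S.CZ} {a : Mdl} (h : QuotientGroup.mk' (zpowers S.zK) x = S.barHom a) :
    (x : G) = S.e a ∨ (x : G) = S.e (a * zM) := by
  have h' : QuotientGroup.mk' (zpowers S.zK) (S.e.codRestrict S.CZ S.e_mem_CZ a) =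
      QuotientGroup.mk' (zpowers S.zK) x := h.symm
  obtain ⟨w, hw, e⟩ := (QuotientGroup.mk'_eq_mk' _).1 h'
  have e' : S.e a * (w : G) = x := congrArg Subtype.val e
  rcases S.mem_zK hw with hw' | hw' <;> rw [hw'] at e'
  · left; rw [← e', mul_one]
  · right; rw [← e', map_mul]; rfl

/-- The quotient datum. -/
noncomputable def barGrp (h2 : S.WeakClosed S.A2) (h3 : S.WeakClosed S.A3) :
    BarGrp (S.CZ ⧸ zpowers S.zK) :=
  { σ := S.barHom
    ker := fun a => by
      constructor
      · intro h
        rcases S.mem_zK ((QuotientGroup.eq_one_iff (S.e.codRestrict S.CZ S.e_mem_CZ a)).1 h) with e | e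
        · exact Or.inl (S.inj (e.trans (map_one _).symm))
        · exact Or.inr (S.inj e)
      · rintro (rfl | rfl)
        · exact map_one _
        · exact (QuotientGroup.eq_one_iff _).2 ⟨1, (zpow_one _).trans (Subtype.ext rfl)⟩
    sylow := by
      haveI : Fact (Nat.Prime 2) := ⟨Nat.prime_two⟩
      have hle : (S.syl : Subgroup G) ≤ S.CZ := fun x hx => mem_centralizer_singleton_iff.2 (S.z_central hx)
      refine ⟨(S.syl.subtype hle).mapSurjective (QuotientGroup.mk'_surjective _), ?_⟩
      ext q
      constructor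
      · rintro ⟨x, hx, rfl⟩
        obtain ⟨a, ha⟩ := S.exists_code (show (x : G) ∈ (S.syl : Subgroup G) from hx)
        refine ⟨a, ?_⟩
        show QuotientGroup.mk' _ _ = _
        exact congrArg _ (Subtype.ext ha)
      · rintro ⟨a, rfl⟩
        exact ⟨_, S.e_mem a, rfl⟩
    sq := fun g a b h h1 => by
      obtain ⟨g, rfl⟩ := QuotientGroup.mk'_surjective _ g
      have h' := S.barHom_eq (x := g * S.e.codRestrict S.CZ S.e_mem_CZ a * g⁻¹) (a := b)
        (by rw [map_mul, map_mul, map_inv]; exact h)
      have hy : (g : G) * S.e a * (g : G)⁻¹ * ((g : G) * S.e a * (g : G)⁻¹) = 1 := by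
        rw [show (g : G) * S.e a * (g : G)⁻¹ * ((g : G) * S.e a * (g : G)⁻¹) =
          (g : G) * (S.e a * S.e a) * (g : G)⁻¹ by group, ← map_mul, h1, map_one, mul_one, mul_inv_cancel]
      apply S.inj
      rcases h' with e | e
      · rw [map_mul, map_one]
        change (g : G) * S.e a * (g : G)⁻¹ = _ at e
        rw [← e]; exact hy
      · rw [map_mul, map_one]
        change (g : G) * S.e a * (g : G)⁻¹ = _ at e
        rw [e, ← map_mul, show b * zM * (b * zM) = b * b by
          rw [mul_assoc, ← mul_assoc zM, ← Setting.zM_central b, mul_assoc b zM zM, Setting.zM_order.2, mul_one]] at hy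
        rw [← map_mul, hy]
    wc := fun d hd g hg a ha => by
      obtain ⟨g, rfl⟩ := QuotientGroup.mk'_surjective _ g
      have key : ∀ (m : ℕ) (hm : maskOK m = true) (dm : ℕ),
          (∀ n : Fin 1024, inMask m n.val = inMask dm (bn n.val)) →
          (∀ n : Fin 1024, inMask dm n.val = true → inMask m n.val = true) →
          S.WeakClosed ((maskSub m hm).map S.e) → d.mask = dm →
          ∃ b : Mdl, inMask d.mask (bn b.code.val) = true ∧
            QuotientGroup.mk' _ g * S.barHom a * (QuotientGroup.mk' _ g)⁻¹ = S.barHom b := by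
        intro m hm dm h1 h1' hwc hdm
        rw [hdm] at ha hg ⊢
        have hS : ∀ x ∈ (maskSub m hm).map S.e, (g : G) * x * (g : G)⁻¹ ∈ (S.syl : Subgroup G) := by
          rintro _ ⟨c, hc, rfl⟩
          have hc' : inMask dm (ofN (bn c.code.val)).code.val = true := by
            rw [ofN_code (bn_bit c.code).1, ← h1 c.code]
            exact hc
          obtain ⟨b, hb⟩ := hg _ hc'
          have e0 : S.barHom (ofN (bn c.code.val)) = S.barHom c := by
            rcases (bn_bit c.code).2.2 with e | e
            · rw [e, code_inj.1 (ofN_code c.code.isLt)]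
            · rw [e, code_inj.1 (show (ofN (mulN c.code.val 8)).code.val = (c * zM).code.val by
                rw [code_mul, ofN_code (mulN_lt c.code.isLt (by norm_num))]; rfl), map_mul,
                show S.barHom zM = 1 from (QuotientGroup.eq_one_iff _).2 ⟨1, (zpow_one _).trans (Subtype.ext rfl)⟩,
                mul_one]
          rw [e0] at hb
          rcases S.barHom_eq (x := g * S.e.codRestrict S.CZ S.e_mem_CZ c * g⁻¹) (a := b)
            (by rw [map_mul, map_mul, map_inv]; exact hb.symm) with e | e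
          all_goals
            change (g : G) * S.e c * (g : G)⁻¹ = _ at e
            rw [e]
            exact S.e_mem _
        obtain ⟨b, hb, hbe⟩ := (hwc g hS (S.e a)).1 (mem_map_of_mem _ (h1' a.code ha))
        refine ⟨b, (h1 b.code).symm.trans hb, ?_⟩
        show _ = QuotientGroup.mk' _ (S.e.codRestrict S.CZ S.e_mem_CZ b)
        rw [show S.e.codRestrict S.CZ S.e_mem_CZ b = g * S.e.codRestrict S.CZ S.e_mem_CZ a * g⁻¹ from
          Subtype.ext hbe, map_mul, map_mul, map_inv]
        rfl
      rcases List.mem_cons.1 hd with rfl | hd'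
      · exact key mA2 maskOK_all.1 118 (fun n => (mask_sides n).1) (fun n => (mask_sides n).2.2.2.1) h2 rfl
      · obtain rfl := List.mem_singleton.1 hd'
        exact key mA3 maskOK_all.2.1 484 (fun n => (mask_sides n).2.1) (fun n => (mask_sides n).2.2.2.2) h3 rfl }

/-- Q is strongly closed in the Sylow subgroup with respect to the centraliser of the central involution. -/
theorem Q_closed_of (h2 : S.WeakClosed S.A2) (h3 : S.WeakClosed S.A3) {g x : G} (hg : g * S.z = S.z * g)
    (hx : x ∈ S.Q) (hy : g * x * g⁻¹ ∈ (S.syl : Subgroup G)) : g * x * g⁻¹ ∈ S.Q := by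
  obtain ⟨a, ha, rfl⟩ := hx
  obtain ⟨b, hb⟩ := S.exists_code hy
  set gK : S.CZ := ⟨g, mem_centralizer_singleton_iff.2 hg⟩
  set M := S.barGrp h2 h3
  have e : QuotientGroup.mk' _ gK * M.σ a * (QuotientGroup.mk' _ gK)⁻¹ = M.σ b := by
    show QuotientGroup.mk' _ gK * QuotientGroup.mk' _ (S.e.codRestrict S.CZ S.e_mem_CZ a) * _ =
      QuotientGroup.mk' _ (S.e.codRestrict S.CZ S.e_mem_CZ b)
    rw [← map_inv, ← map_mul, ← map_mul]
    exact congrArg _ (Subtype.ext hb.symm)
  have h := M.closed_bar (IsB.bn_of b.code.isLt) (IsB.bn_of a.code.isLt) ((mask_sides a.code).2.2.1.symm.trans ha)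
    (g := (QuotientGroup.mk' _ gK)⁻¹) (by
      rw [M.s_bn b.code.isLt, M.s_bn a.code.isLt, M.s_code, M.s_code, ← e]
      group)
  rw [← hb]
  exact mem_map_of_mem _ ((mask_sides b.code).2.2.1.trans h)

end Setting

end Cfsg.Lib.LFiveType
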