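import Cfsg.Agent.LFiveType.Setting
import Cfsg.Agent.HeldType.Rep
import Cfsg.Agent.InvolCalc.Classes
import Cfsg.Agent.Components.PComponents
import Cfsg.Agent.InvolCalc.ZStarApps

/-!
# New coordinates on the Sylow subgroup compatible with the centraliser of a transvection
-/

set_option autoImplicit false
set_option linter.unusedSectionVars false
set_option linter.style.haveILetI false
set_option maxRecDepth 100000

namespace Cfsg.Lib.LFiveType

open Subgroup

/-- Congruent 2-elements modulo an odd normal subgroup are conjugate. -/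
theorem conj_mod_odd {X : Type*} [Group X] [Finite X] {N : Subgroup X} [N.Normal] (hN : Odd (Nat.card N))
    {a b : X} {i j : ℕ} (ha : a ^ 2 ^ i = 1) (hb : b ^ 2 ^ j = 1) (h : a * b⁻¹ ∈ N) :
    ∃ o ∈ N, o * a * o⁻¹ = b := by
  haveI : Fact (Nat.Prime 2) := ⟨Nat.prime_two⟩
  set H := N ⊔ zpowers b with hH
  have hpg : ∀ {c : X} {k : ℕ}, c ^ 2 ^ k = 1 → IsPGroup 2 (zpowers c) := fun {c k} hc ⟨y, hy⟩ => by
    obtain ⟨z, rfl⟩ := mem_zpowers_iff.1 hy
    refine ⟨k, Subtype.ext ?_⟩
    show (c ^ z) ^ 2 ^ k = 1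
    rw [← zpow_natCast, ← zpow_mul, mul_comm z, zpow_mul, zpow_natCast, hc, one_zpow]
  have hbH : b ∈ H := mem_sup_right (mem_zpowers b)
  have haH : a ∈ H := by
    rw [show a = a * b⁻¹ * b by group]
    exact mul_mem (mem_sup_left h) hbH
  have triv : ∀ {k : ℕ} {c : X}, c ∈ N → c ^ 2 ^ k = 1 → c = 1 := fun {k c} hc hk =>
    orderOf_eq_one_iff.1 (Nat.eq_one_of_dvd_coprimes ((Nat.coprime_two_left.2 hN).pow_left k)
      (orderOf_dvd_of_pow_eq_one hk) (Subgroup.orderOf_dvd_natCard _ hc))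
  obtain ⟨P, hP⟩ := ((hpg hb).of_equiv (subgroupOfEquivOfLe (zpowers_le.2 hbH)).symm).exists_le_sylow
  obtain ⟨Q, hQ⟩ := ((hpg ha).of_equiv (subgroupOfEquivOfLe (zpowers_le.2 haH)).symm).exists_le_sylow
  have hPb : ∀ p ∈ (P : Subgroup H), (p : X) ∈ zpowers b := fun p hp => by
    obtain ⟨n, hn, z, hz, e⟩ := mem_sup_of_normal_left.1 p.2
    have hzP : (⟨z, mem_sup_right hz⟩ : H) ∈ (P : Subgroup H) := hP (mem_subgroupOf.2 hz)
    obtain ⟨k, hk⟩ := P.2 ⟨p * ⟨z, mem_sup_right hz⟩⁻¹, mul_mem hp (inv_mem hzP)⟩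
    have hk' : ((p : X) * z⁻¹) ^ 2 ^ k = 1 := congrArg (fun y : (P : Subgroup H) => ((y : H) : X)) hk
    have : n = 1 := by
      refine triv hn (k := k) ?_
      rw [← hk', ← e, mul_inv_cancel_right]
    rw [← e, this, one_mul]
    exact hz
  obtain ⟨g, hg⟩ := MulAction.exists_smul_eq H Q P
  have hga : g * ⟨a, haH⟩ * g⁻¹ ∈ (P : Subgroup H) := by
    rw [← hg, Sylow.coe_subgroup_smul]
    exact ⟨⟨a, haH⟩, hQ (mem_subgroupOf.2 (mem_zpowers a)), rfl⟩
  obtain ⟨n, hn, z, hz, e⟩ := mem_sup_of_normal_left.1 g.2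
  obtain ⟨m, hm⟩ := mem_zpowers_iff.1 hz
  have hc : (g : X) * a * (g : X)⁻¹ * b⁻¹ = 1 := by
    obtain ⟨r, hr⟩ := mem_zpowers_iff.1 (hPb _ hga)
    have hN' : (g : X) * a * (g : X)⁻¹ * b⁻¹ ∈ N := by
      rw [← e, ← hm, show n * b ^ m * a * (n * b ^ m)⁻¹ * b⁻¹ =
        n * (b ^ m * (a * b⁻¹) * (b ^ m)⁻¹) * (b * n⁻¹ * b⁻¹) by group]
      exact mul_mem (mul_mem hn (Normal.conj_mem inferInstance _ h _)) (Normal.conj_mem inferInstance _ (inv_mem hn) _)
    refine triv hN' (k := j) ?_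
    rw [show (g : X) * a * (g : X)⁻¹ = b ^ r from hr.symm, ← zpow_sub_one, ← zpow_natCast, ← zpow_mul,
      mul_comm, zpow_mul, zpow_natCast, hb, one_zpow]
  have hc' := mul_inv_eq_one.1 hc
  refine ⟨(b ^ m)⁻¹ * n * b ^ m, by simpa using Normal.conj_mem (H := N) inferInstance n hn (b ^ m)⁻¹, ?_⟩
  calc (b ^ m)⁻¹ * n * b ^ m * a * ((b ^ m)⁻¹ * n * b ^ m)⁻¹
      = (b ^ m)⁻¹ * ((g : X) * a * (g : X)⁻¹) * b ^ m := by rw [← e, ← hm]; group
    _ = b := by rw [hc']; group

/-- The transposition of the second and fifth coordinates. -/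
def swapMat : Matrix (Fin 5) (Fin 5) (ZMod 2) :=
  !![1, 0, 0, 0, 0; 0, 0, 0, 0, 1; 0, 0, 1, 0, 0; 0, 0, 0, 1, 0; 0, 1, 0, 0, 0]

theorem swapMat_facts : swapMat.det = 1 ∧ swapMat * swapMat = 1 ∧
    swapMat * matM zM * swapMat = Matrix.transvection 0 1 1 := by
  refine ⟨?_, by decide +kernel, by decide +kernel⟩
  have h : swapMat.det * swapMat.det = 1 := by
    rw [← Matrix.det_mul, show swapMat * swapMat = 1 by decide +kernel, Matrix.det_one]
  revert h
  generalize swapMat.det = d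
  revert d
  decide

/-- The transposition as an element of the special linear group. -/
def swapEl : Matrix.SpecialLinearGroup (Fin 5) (ZMod 2) := ⟨swapMat, swapMat_facts.1⟩

theorem swapEl_inv : swapEl⁻¹ = swapEl :=
  inv_eq_of_mul_eq_one_right (Subtype.ext swapMat_facts.2.1)

theorem swap_z : swapEl * embS zM * swapEl⁻¹ = Cfsg.Lib.HeldType.sEl := by
  rw [swapEl_inv]
  exact Subtype.ext (swapMat_facts.2.2.trans Cfsg.Lib.HeldType.mat_z.symm)

theorem swap_mem {m : Matrix.SpecialLinearGroup (Fin 5) (ZMod 2)} (hm : m * embS zM = embS zM * m) :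
    swapEl * m * swapEl⁻¹ ∈ Cfsg.Lib.HeldType.cs := by
  rw [mem_centralizer_singleton_iff, ← swap_z]
  calc swapEl * m * swapEl⁻¹ * (swapEl * embS zM * swapEl⁻¹) = swapEl * (m * embS zM) * swapEl⁻¹ := by group
    _ = swapEl * (embS zM * m) * swapEl⁻¹ := by rw [hm]
    _ = _ := by group

attribute [local irreducible] swapEl embS Cfsg.Lib.HeldType.sEl

/-- The model inside the centraliser of the transvection. -/
def modCs : Mdl →* Cfsg.Lib.HeldType.cs :=
  MonoidHom.mk' (fun a => ⟨swapEl * embS a * swapEl⁻¹, swap_mem (by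
    rw [← map_mul, ← map_mul, Setting.zM_central])⟩) fun a b => Subtype.ext (by
      simp only [map_mul, Subgroup.coe_mul]
      group)

theorem modCs_val (a : Mdl) : (modCs a : Matrix.SpecialLinearGroup (Fin 5) (ZMod 2)) = swapEl * embS a * swapEl⁻¹ :=
  rfl

theorem modCs_injective : Function.Injective modCs := fun a b h => by
  have h1 : (modCs a : Matrix.SpecialLinearGroup (Fin 5) (ZMod 2)) = modCs b := by rw [h]
  rw [modCs_val, modCs_val] at h1
  exact embS_injective (mul_left_cancel (mul_right_cancel h1))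

theorem centre_codes : ((List.range 1024).all fun c => !([1, 16, 128, 512].all fun g =>
    Nat.beq (mulN c g) (mulN g c)) || Nat.beq c 0 || Nat.beq c 8) = true := by decide +kernel

namespace Setting

variable {G : Type*} [Group G] [Finite G] (S : Setting G)

/-- Coordinates in which the centraliser of the centre contains the fusion of the model. -/
theorem exists_coord (φ : (Subgroup.centralizer ({S.z} : Set G) ⧸ Cfsg.pPrimeCore 2 (Subgroup.centralizer ({S.z} : Set G))) ≃* Cfsg.Lib.HeldType.cs) :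
    ∃ S' : Setting G, S'.syl = S.syl ∧ S'.z = S.z ∧
      ∀ m : Matrix.SpecialLinearGroup (Fin 5) (ZMod 2), m * embS zM = embS zM * m →
        ∀ a b : Mdl, m * embS a * m⁻¹ = embS b → ∃ g, g * S'.z = S'.z * g ∧ g * S'.e a * g⁻¹ = S'.e b := by
  classical
  haveI : Fact (Nat.Prime 2) := ⟨Nat.prime_two⟩
  set C := centralizer ({S.z} : Set G) with hC
  set O := Cfsg.pPrimeCore 2 C with hO
  haveI : O.Normal := haveI : O.Characteristic := Cfsg.Lib.Components.pPrimeCore_characteristic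
    inferInstance
  have hodd : Odd (Nat.card O) := Cfsg.Lib.ZStarApps.odd_card_pPrimeCore
  set π := QuotientGroup.mk' O with hπ
  have hsC : (S.syl : Subgroup G) ≤ C := fun x hx => mem_centralizer_singleton_iff.2 (S.z_central hx)
  let P : Sylow 2 C := S.syl.subtype hsC
  let Pb : Sylow 2 (C ⧸ O) := P.mapSurjective (QuotientGroup.mk'_surjective O)
  have hres : ∀ x ∈ (P : Subgroup C), π x = 1 → x = 1 := by
    intro x hx h1
    obtain ⟨k, hk⟩ := P.2 ⟨x, hx⟩
    exact orderOf_eq_one_iff.1 (Nat.eq_one_of_dvd_coprimes ((Nat.coprime_two_left.2 hodd).pow_left k)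
      (orderOf_dvd_of_pow_eq_one (congrArg Subtype.val hk))
      (Subgroup.orderOf_dvd_natCard _ ((QuotientGroup.eq_one_iff x).1 h1)))
  have hcard : Nat.card (Pb : Subgroup (C ⧸ O)) = 1024 := by
    have h1 : Nat.card (P : Subgroup C) = 1024 := by
      rw [show (P : Subgroup C) = (S.syl : Subgroup G).subgroupOf C from rfl,
        Nat.card_congr (subgroupOfEquivOfLe hsC).toEquiv, ← S.range_eq,
        ← Nat.card_congr (MonoidHom.ofInjective S.inj).toEquiv, card_mdl]
    rw [show (Pb : Subgroup (C ⧸ O)) = (P : Subgroup C).map π from rfl, ← h1]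
    let f : ↥(P : Subgroup C) → ↥((P : Subgroup C).map π) := fun x => ⟨π (x : C), mem_map_of_mem π x.2⟩
    have hf : Function.Bijective f := by
      refine ⟨fun x y h => ?_, fun ⟨y, x, hx, e⟩ => ⟨⟨x, hx⟩, Subtype.ext e⟩⟩
      have h' : π (x : C) = π (y : C) := congrArg Subtype.val h
      have := hres _ (mul_mem x.2 (inv_mem y.2)) (by rw [map_mul, map_inv, h', mul_inv_cancel])
      exact Subtype.ext (mul_inv_eq_one.1 this)
    exact (Nat.card_eq_of_bijective f hf).symm
  -- the model lands in a conjugate of the image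
  let β : Mdl →* C ⧸ O := φ.symm.toMonoidHom.comp modCs
  have hβ : Function.Injective β := φ.symm.injective.comp modCs_injective
  have hβp : IsPGroup 2 β.range := by
    refine IsPGroup.of_card (n := 10) ?_
    rw [← Nat.card_congr (MonoidHom.ofInjective hβ).toEquiv, card_mdl]
    norm_num
  obtain ⟨P', hP'⟩ := hβp.exists_le_sylow
  obtain ⟨h, hh⟩ := MulAction.exists_smul_eq (C ⧸ O) P' Pb
  let α : Mdl →* C ⧸ O := (MulAut.conj h).toMonoidHom.comp β
  have hαP : ∀ a, α a ∈ (Pb : Subgroup (C ⧸ O)) := fun a => by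
    rw [← hh, Sylow.coe_subgroup_smul]
    exact ⟨β a, hP' ⟨a, rfl⟩, rfl⟩
  have hαi : Function.Injective α := (MulAut.conj h).injective.comp hβ
  have lift : ∀ a, ∃ x : C, x ∈ (P : Subgroup C) ∧ π x = α a := fun a => hαP a
  choose L hLP hLπ using lift
  have uniq : ∀ x y : C, x ∈ (P : Subgroup C) → y ∈ (P : Subgroup C) → π x = π y → x = y := fun x y hx hy h => by
    have := hres _ (mul_mem hx (inv_mem hy)) (by rw [map_mul, map_inv, h, mul_inv_cancel])
    exact mul_inv_eq_one.1 this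
  let e' : Mdl →* G := MonoidHom.mk' (fun a => (L a : G)) fun a b => by
    show ((L (a * b) : C) : G) = (L a * L b : C)
    rw [uniq _ _ (hLP _) (mul_mem (hLP a) (hLP b)) (by rw [map_mul π, hLπ, hLπ, hLπ, map_mul])]
  have hinj : Function.Injective e' := fun a b h => hαi (by rw [← hLπ, ← hLπ, show L a = L b from Subtype.ext h])
  have hle : e'.range ≤ (S.syl : Subgroup G) := by
    rintro _ ⟨a, rfl⟩
    exact mem_subgroupOf.1 (hLP a)
  have hrange : e'.range = (S.syl : Subgroup G) := Subgroup.eq_of_le_of_card_ge hle (by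
    rw [← S.range_eq, ← Nat.card_congr (MonoidHom.ofInjective S.inj).toEquiv,
      ← Nat.card_congr (MonoidHom.ofInjective hinj).toEquiv])
  have hz : e' zM = S.z := by
    obtain ⟨c, hc⟩ := S.exists_code (hle ⟨zM, rfl⟩)
    have hcomm : ∀ g : Mdl, c * g = g * c := fun g => by
      obtain ⟨b, hb⟩ : S.e g ∈ e'.range := hrange ▸ S.e_mem g
      refine S.inj ?_
      rw [map_mul, map_mul, hc, ← hb, ← map_mul, ← map_mul, zM_central]
    have hcc := List.all_eq_true.1 centre_codes _ (List.mem_range.2 c.code.isLt)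
    have hall : ([1, 16, 128, 512].all fun g => Nat.beq (mulN c.code.val g) (mulN g c.code.val)) = true :=
      List.all_eq_true.2 fun g hg => by
        have hg' : g < 1024 := by revert g; decide
        have := congrArg (fun m : Mdl => m.code.val) (hcomm (ofN g))
        simp only [code_mul, ofN_code hg'] at this
        rw [this]; exact Nat.beq_refl _
    rw [hall, Bool.not_true, Bool.false_or, Bool.or_eq_true, Nat.beq_eq, Nat.beq_eq] at hcc
    rcases hcc with h0 | h0
    · rw [show c = 1 from code_inj.1 h0, map_one, ← map_one e'] at hc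
      exact absurd (hinj hc.symm) zM_order.1
    · rw [← hc, show c = zM from code_inj.1 h0]
      rfl
  refine ⟨⟨e', hinj, S.syl, hrange⟩, rfl, hz, fun m hm a b hab => ?_⟩
  obtain ⟨g, hg⟩ := QuotientGroup.mk'_surjective O (h * φ.symm ⟨_, swap_mem hm⟩ * h⁻¹)
  have hq : π (g * L a * g⁻¹) = π (L b) := by
    rw [map_mul, map_mul, map_inv, hLπ, hLπ, hg]
    show _ * (h * β a * h⁻¹) * _ = h * β b * h⁻¹
    have : (⟨_, swap_mem hm⟩ : Cfsg.Lib.HeldType.cs) * modCs a * (⟨_, swap_mem hm⟩ : Cfsg.Lib.HeldType.cs)⁻¹ =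
        modCs b := Subtype.ext (by
      rw [Subgroup.coe_mul, Subgroup.coe_mul, Subgroup.coe_inv, modCs_val, modCs_val, ← hab]
      group)
    show _ = h * φ.symm (modCs b) * h⁻¹
    rw [← this, map_mul, map_mul, map_inv]
    show _ * (h * φ.symm (modCs a) * h⁻¹) * _ = _
    group
  obtain ⟨i, hi⟩ := P.2 ⟨L a, hLP a⟩
  obtain ⟨j, hj⟩ := P.2 ⟨L b, hLP b⟩
  have hi' : L a ^ 2 ^ i = 1 := congrArg Subtype.val hi
  obtain ⟨o, -, ho⟩ := conj_mod_odd hodd (a := g * L a * g⁻¹) (b := L b) (i := i) (j := j)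
    (by rw [conj_pow, hi', mul_one, mul_inv_cancel]) (congrArg Subtype.val hj)
    (by rw [← QuotientGroup.eq_one_iff, ← QuotientGroup.mk'_apply, map_mul, map_inv, ← hπ, hq, mul_inv_cancel])
  refine ⟨((o * g : C) : G), ?_, ?_⟩
  · show _ * e' zM = e' zM * _
    rw [hz]
    exact mem_centralizer_singleton_iff.1 (o * g).2
  · show _ * (L a : G) * _ = (L b : G)
    rw [← ho]
    simp only [Subgroup.coe_mul, Subgroup.coe_inv]
    group

end Setting

end Cfsg.Lib.LFiveType
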