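import Cfsg.Agent.LFiveType.FactsCent

/-!
# Finite facts about A2, A3, R and W in the model
-/

set_option autoImplicit false
set_option maxRecDepth 100000
set_option Elab.async false

namespace Cfsg.Lib.LFiveType

/-- The square of a product. -/
def sqN (a b : ℕ) : ℕ := mulN (mulN a b) (mulN a b)

/-- The codes of a mask commuting with a code. -/
def centList (m i : ℕ) : List ℕ := (maskList m).filter fun c => Nat.beq (mulN i c) (mulN c i)

theorem mem_maskList {m : ℕ} {a : Mdl} (h : inMask m a.code.val = true) : a.code.val ∈ maskList m :=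
  List.mem_filter.2 ⟨List.mem_range.2 a.code.isLt, h⟩

theorem code_sq (a b : Mdl) : (a * b * (a * b)).code.val = sqN a.code.val b.code.val := by
  simp only [code_mul, sqN]

theorem card_maskSub (m : ℕ) (h : maskOK m = true) : Nat.card ↥(maskSub m h) = (maskList m).length := by
  classical
  have hn : (maskList m).Nodup := List.Nodup.filter _ List.nodup_range
  rw [← List.toFinset_card_of_nodup hn, ← Nat.card_eq_finsetCard]
  refine Nat.card_congr (Equiv.ofBijective
    (fun a => ⟨a.1.code.val, List.mem_toFinset.2 (mem_maskList a.2)⟩) ⟨fun a b e => ?_, fun c => ?_⟩)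
  · exact Subtype.ext (code_inj.1 (congrArg Subtype.val e))
  · obtain ⟨h1, h2⟩ := List.mem_filter.1 (List.mem_toFinset.1 c.2)
    have h1 : c.1 < 1024 := List.mem_range.1 h1
    refine ⟨⟨ofN c.1, ?_⟩, Subtype.ext (ofN_code h1)⟩
    rw [mem_maskSub, ofN_code h1]
    exact h2

theorem len_A2 : (maskList mA2).length = 64 := by decide +kernel

theorem len_A3 : (maskList mA3).length = 64 := by decide +kernel

theorem len_R : (maskList mR).length = 256 := by decide +kernel

theorem cent_A2 : ((List.range 1024).all fun i => inMask mR i ||
    (Nat.ble (centList mA2 i).length 16 && (!i.testBit 0 || Nat.ble (centList mA2 i).length 8))) = true := by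
  decide +kernel

theorem cent_A3 : ((List.range 1024).all fun i => inMask mR i ||
    (Nat.ble (centList mA3 i).length 16 && (!i.testBit 9 || Nat.ble (centList mA3 i).length 8))) = true := by
  decide +kernel

theorem rmask_bits : ((List.range 1024).all fun i => inMask mR i == (!i.testBit 0 && !i.testBit 9)) = true := by
  decide +kernel

theorem invol_R : ((maskList mR).all fun i => !Nat.beq (mulN i i) 0 || inMask mA2 i || inMask mA3 i) = true := by
  decide +kernel

theorem normal_A2 : ((List.range 1024).all fun i =>
    (maskList mA2).all fun c => inMask mA2 (mulN (mulN i c) (invN i))) = true := by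
  decide +kernel

theorem normal_A3 : ((List.range 1024).all fun i =>
    (maskList mA3).all fun c => inMask mA3 (mulN (mulN i c) (invN i))) = true := by
  decide +kernel

theorem split_R : ((maskList mR).all fun i => inMask mA2 (i &&& 18) && inMask mA3 (mulN (i &&& 18) i) &&
    Nat.beq (mulN (i &&& 18) (mulN (i &&& 18) i)) i) = true := by
  decide +kernel

theorem mask_le : ((List.range 1024).all fun i => (!inMask mA2 i || (inMask mR i && Nat.beq (mulN i i) 0)) &&
    (!inMask mA3 i || (inMask mR i && Nat.beq (mulN i i) 0))) = true := by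
  decide +kernel

theorem W_central_R : ((maskList mW).all fun i => inMask mA2 i &&
    (maskList mR).all fun j => Nat.beq (mulN i j) (mulN j i)) = true := by
  decide +kernel

theorem comm_not_nonsing : ((maskList mA2).all fun a =>
    (maskList mA3).all fun b => !nonsing (sqN a b)) = true := by
  decide +kernel

theorem sq_mod : ((maskList mA2).all fun a =>
    (maskList mA3).all fun b => Nat.beq (sqN a b) (sqN (a &&& 18) (b &&& 384))) = true := by
  decide +kernel

theorem and18 : ((List.range 1024).all fun i =>
    [0, 2, 16, 18].contains (i &&& 18) && [0, 128, 256, 384].contains (i &&& 384)) = true := by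
  decide +kernel

/-- The four squares spanning W. -/
theorem basis_sq : sqN 2 128 = 4 ∧ sqN 2 256 = 8 ∧ sqN 16 128 = 32 ∧ sqN 16 256 = 64 := by decide +kernel

theorem W_span : ((maskList mW).all fun i => Nat.beq
    (mulN (mulN (bif i.testBit 2 then 4 else 0) (bif i.testBit 3 then 8 else 0))
      (mulN (bif i.testBit 5 then 32 else 0) (bif i.testBit 6 then 64 else 0))) i) = true := by
  decide +kernel

/-- A map fixing the square of the central pair acts on W as a Sylow element. -/
theorem cent_action : ([0, 2, 16, 18].all fun a1 => [0, 2, 16, 18].all fun a2 =>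
    [0, 128, 256, 384].all fun b1 => [0, 128, 256, 384].all fun b2 =>
      !Nat.beq (sqN a1 b2) 8 || Nat.beq (sqN a2 b2) 0 || Nat.beq (sqN a2 b2) 8 || Nat.beq (sqN a1 b1) 0 ||
        Nat.beq (sqN a1 b1) 8 ||
      [0, 1, 512, 513].any fun s => Nat.beq (mulN s s) 0 &&
        Nat.beq (mulN (mulN s 4) s) (sqN a1 b1) && Nat.beq (mulN (mulN s 8) s) (sqN a1 b2) &&
        Nat.beq (mulN (mulN s 32) s) (sqN a2 b1) && Nat.beq (mulN (mulN s 64) s) (sqN a2 b2)) = true := by
  decide +kernel

end Cfsg.Lib.LFiveType
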