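import Cfsg.Agent.LFiveType.RecData
import Cfsg.Agent.LFiveType.FactsLocal

/-!
# Finite facts for the fusion of the involutions

The classes of the involutions under the centraliser of z in L5(2), and three counting conditions on the set
of conjugates of z.
-/

set_option autoImplicit false
set_option maxRecDepth 100000
set_option Elab.async false

namespace Cfsg.Lib.LFiveType

open Matrix

/-- The class of 14. -/
def cl4 : ℕ := 65278
/-- The class of 25. -/
def cl64 : ℕ := 7360198307048065029934624620675715688448774695782720856767472279892934478438496306637611739022585347226921189513538692173538890349043220028432234595970058455175466566938600632472622955853726689965328492416804285577517086559555032040718730477905414979584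
/-- The class of 24. -/
def cl32 : ℕ := 12789803810644620171970403850624032374038634771831094032360254449344559705735676680631478262328321352785162849174593138593624011392195114221481295872
/-- The class of 13+24. -/
def cl34 : ℕ := 109111355330644560471249586376075043448669097241782965917224308950254779776973775027429471102041521575222844486010751142798541509450209384528343990272
/-- The class of 24+35. -/
def cl288 : ℕ := 134661257059040648510654434158150240155291143295981570497666783098780796702795535198932616406820299176846961185650416322069448976215420509477965841922872566175613138501457121790137567948914162567261986448335181279606775487301158828820253545853252596897943408638001414144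

/-- The representatives of the involution classes of the Sylow group. -/
def sReps : List ℕ := [1, 2, 4, 8, 16, 20, 24, 32, 34, 40, 64, 66, 68, 128, 129, 136, 192, 256, 257, 260, 288, 512, 513, 514, 528]

/-- A step towards the class representative of the centraliser of z. -/
def parN : ℕ → ℕ
  | 1 => 2
  | 2 => 4
  | 16 => 32
  | 20 => 34
  | 24 => 40
  | 66 => 68
  | 128 => 32
  | 129 => 34
  | 136 => 40
  | 192 => 288
  | 256 => 64
  | 257 => 66
  | 260 => 68
  | 512 => 256
  | 513 => 257
  | 514 => 260
  | 528 => 288
  | n => n

/-- The involutions: element, conjugator, representative. -/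
def invTab : List (ℕ × ℕ × ℕ) := [
  (1, 0, 1), (2, 0, 2), (3, 16, 1), (4, 0, 4), (5, 32, 1), (6, 128, 2), (7, 48, 1), (8, 0, 8),
  (9, 64, 1), (10, 256, 2), (11, 80, 1), (12, 512, 4), (13, 96, 1), (14, 384, 2), (15, 112, 1), (16, 0, 16),
  (18, 1, 16), (20, 0, 20), (22, 1, 20), (24, 0, 24), (26, 1, 24), (28, 512, 20), (30, 513, 20), (32, 0, 32),
  (34, 0, 34), (36, 1, 32), (38, 1, 34), (40, 0, 40), (42, 256, 34), (44, 1, 40), (46, 257, 34), (48, 128, 16),
  (50, 129, 20), (52, 128, 20), (54, 129, 16), (56, 128, 24), (58, 641, 20), (60, 640, 20), (62, 129, 24), (64, 0, 64),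
  (66, 0, 66), (68, 0, 68), (70, 128, 66), (72, 1, 64), (74, 1, 66), (76, 1, 68), (78, 129, 66), (80, 256, 16),
  (82, 257, 24), (84, 256, 20), (86, 769, 20), (88, 256, 24), (90, 257, 16), (92, 768, 20), (94, 257, 20), (96, 512, 32),
  (98, 512, 34), (100, 513, 40), (102, 640, 34), (104, 512, 40), (106, 641, 34), (108, 513, 32), (110, 513, 34), (112, 384, 16),
  (114, 897, 20), (116, 384, 20), (118, 385, 24), (120, 384, 24), (122, 385, 20), (124, 896, 20), (126, 385, 16), (128, 0, 128),
  (129, 0, 129), (132, 2, 128), (133, 2, 129), (136, 0, 136), (137, 64, 129), (140, 2, 136), (141, 66, 129), (160, 16, 128),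
  (163, 16, 129), (164, 17, 128), (167, 17, 129), (168, 16, 136), (171, 80, 129), (172, 17, 136), (175, 81, 129), (192, 0, 192),
  (196, 2, 192), (200, 1, 192), (204, 3, 192), (224, 16, 192), (228, 18, 192), (232, 19, 192), (236, 17, 192), (256, 0, 256),
  (257, 0, 257), (260, 0, 260), (261, 32, 257), (264, 2, 256), (265, 2, 257), (268, 2, 260), (269, 34, 257), (288, 0, 288),
  (292, 1, 288), (296, 2, 288), (300, 3, 288), (320, 16, 256), (323, 16, 257), (324, 16, 260), (327, 48, 257), (328, 17, 256),
  (331, 17, 257), (332, 17, 260), (335, 49, 257), (352, 16, 288), (356, 19, 288), (360, 18, 288), (364, 17, 288), (384, 512, 128),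
  (385, 512, 129), (388, 514, 136), (389, 544, 129), (392, 512, 136), (393, 546, 129), (396, 514, 128), (397, 514, 129), (416, 528, 192),
  (420, 529, 192), (424, 531, 192), (428, 530, 192), (448, 512, 192), (452, 515, 192), (456, 513, 192), (460, 514, 192), (480, 528, 128),
  (483, 528, 129), (484, 529, 136), (487, 560, 129), (488, 528, 136), (491, 561, 129), (492, 529, 128), (495, 529, 129), (512, 0, 512),
  (513, 0, 513), (514, 0, 514), (515, 16, 513), (520, 4, 512), (521, 4, 513), (522, 4, 514), (523, 20, 513), (528, 0, 528),
  (530, 1, 528), (536, 4, 528), (538, 5, 528), (576, 32, 512), (578, 32, 514), (581, 32, 513), (583, 48, 513), (584, 33, 512),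
  (586, 33, 514), (589, 33, 513), (591, 49, 513), (592, 32, 528), (594, 37, 528), (600, 36, 528), (602, 33, 528), (768, 128, 512),
  (769, 128, 513), (774, 128, 514), (775, 176, 513), (776, 130, 512), (777, 130, 513), (782, 130, 514), (783, 178, 513), (816, 128, 528),
  (822, 129, 528), (824, 130, 528), (830, 131, 528), (832, 144, 512), (835, 144, 513), (837, 160, 513), (838, 144, 514), (840, 145, 512),
  (843, 145, 513), (845, 161, 513), (846, 145, 514), (880, 144, 528), (886, 147, 528), (888, 146, 528), (894, 145, 528)]

/-- The class representative. -/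
def rootN (s : ℕ) : ℕ := parN (parN (parN s))

/-- The five open choices: 14, 25, 24, 13+24, 24+35. -/
abbrev Pat := Bool × Bool × Bool × Bool × Bool

/-- The candidate set of conjugates of z. -/
def omCode (p : Pat) (n : ℕ) : Bool := Nat.beq n 8 || (p.1 && cl4.testBit n) || (p.2.1 && cl64.testBit n) ||
  (p.2.2.1 && cl32.testBit n) || (p.2.2.2.1 && cl34.testBit n) || (p.2.2.2.2 && cl288.testBit n)

/-- The permutation matrix of (23). -/
def permA : Matrix (Fin 5) (Fin 5) (ZMod 2) :=
  !![1, 0, 0, 0, 0; 0, 0, 1, 0, 0; 0, 1, 0, 0, 0; 0, 0, 0, 1, 0; 0, 0, 0, 0, 1]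

/-- The permutation matrix of (34). -/
def permB : Matrix (Fin 5) (Fin 5) (ZMod 2) :=
  !![1, 0, 0, 0, 0; 0, 1, 0, 0, 0; 0, 0, 0, 1, 0; 0, 0, 1, 0, 0; 0, 0, 0, 0, 1]

theorem perm_det : permA.det = 1 ∧ permB.det = 1 := by decide +kernel

theorem perm_z : permA * matM zM = matM zM * permA ∧ permB * matM zM = matM zM * permB := by decide +kernel

theorem tab_ok : (invTab.all fun r => Nat.blt r.1 1024 && Nat.blt r.2.1 1024 &&
    Nat.beq (mulN (mulN r.2.1 r.1) (invN r.2.1)) r.2.2 && sReps.contains r.2.2 &&
    (Nat.beq r.1 8 == Nat.beq (rootN r.2.2) 8) && (cl4.testBit r.1 == Nat.beq (rootN r.2.2) 4) &&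
    (cl64.testBit r.1 == Nat.beq (rootN r.2.2) 64) && (cl32.testBit r.1 == Nat.beq (rootN r.2.2) 32) &&
    (cl34.testBit r.1 == Nat.beq (rootN r.2.2) 34) && (cl288.testBit r.1 == Nat.beq (rootN r.2.2) 288)) = true := by
  decide +kernel

theorem tab_cover : ((List.range 1024).all fun n => (invTab.any fun r => Nat.beq r.1 n) ||
    ((Nat.beq n 0 || !Nat.beq (mulN n n) 0) && !omCode (true, true, true, true, true) n)) = true := by
  decide +kernel

theorem roots_ok : (sReps.all fun s => [8, 4, 64, 32, 34, 288, 68, 40].contains (rootN s) && Nat.blt (parN s) 1024 &&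
    Nat.blt (parN (parN s)) 1024 && (sReps.contains (parN s)) && (Nat.beq (parN s) s ||
      decide (permA * matN s = matN (parN s) * permA) || decide (permB * matN s = matN (parN s) * permB))) = true := by
  decide +kernel

theorem roots_class : ([4, 64, 32, 34, 288].all fun r => Nat.beq (rootN r) r && invTab.any fun e => Nat.beq e.1 r) =
    true := by
  decide +kernel

theorem nonsing_roots : nonsing 68 = true ∧ nonsing 40 = true := by decide +kernel

theorem sq_sing : ([0, 2, 16, 18].all fun a => [0, 128, 256, 384].all fun b =>
    inMask mW (sqN a b) && !nonsing (sqN a b)) = true := by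
  decide +kernel

theorem sing_sq : ((maskList mW).all fun u => nonsing u || [0, 2, 16, 18].any fun a =>
    [0, 128, 256, 384].any fun b => Nat.beq (sqN a b) u) = true := by
  decide +kernel

theorem cent_R_W : ((maskList mR).all fun i => inMask mW i ||
    [2, 16, 128, 256].any fun g => !Nat.beq (mulN i g) (mulN g i)) = true := by
  decide +kernel

/-- The first count: conjugates of z in W joined to v by a singular vector. -/
def predW (p : Pat) (v a : ℕ) : Bool := omCode p a && !Nat.beq a v && !nonsing (mulN a v)

/-- The other counts: conjugates of z in a 64 whose product with v is one. -/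
def predA (p : Pat) (v a : ℕ) : Bool := omCode p a && omCode p (mulN a v)

/-- The size of a count. -/
def cnt (m : ℕ) (q : ℕ → Bool) : ℕ := ((maskList m).filter q).length

/-- The count takes two values on the conjugates of z among the witnesses. -/
def uneven (m : ℕ) (q : Pat → ℕ → ℕ → Bool) (p : Pat) (ws : List (ℕ × ℕ)) : Bool := ws.any fun w =>
  inMask m w.1 && inMask m w.2 && omCode p w.1 && omCode p w.2 &&
    !Nat.beq (cnt m (q p w.1)) (cnt m (q p w.2))

/-- A pattern excluded by the counts. -/
def badPat (p : Pat) : Bool := uneven mW predW p [(32, 8), (64, 8), (4, 8), (8, 4)] ||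
  uneven mA2 predA p [(8, 20), (8, 2)] || uneven mA3 predA p [(8, 192), (8, 64), (4, 192)]

theorem sieve : ∀ p : Pat, badPat p = true ∨ p = (false, false, false, false, false) ∨
    p = (true, false, false, false, false) ∨ p = (false, true, false, false, false) ∨
    (p.1 = true ∧ p.2.1 = true ∧ p.2.2.1 = true) := by
  decide +kernel

/-- The last column: 15, 25, 35, 45. -/
theorem maskOK_col : maskOK 840 = true ∧ maskOK 8 = true := by decide +kernel

/-- The three small patterns: the conjugates of z and 1 form an elementary abelian subgroup. -/
theorem small_pat : ([((false, false, false, false, false), 8), ((true, false, false, false, false), mE),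
    ((false, true, false, false, false), 840)].all fun e : Pat × ℕ =>
      ((List.range 1024).all fun n => (Nat.beq n 0 || omCode e.1 n) == inMask e.2 n) &&
        (maskList e.2).all (fun a => (maskList e.2).all fun b => Nat.beq (mulN a b) (mulN b a))) = true := by
  decide +kernel

theorem zCode_eq : ((List.range 1024).all fun n => [false, true].all fun b1 => [false, true].all fun b2 =>
    zCode b1 b2 n == omCode (true, true, true, b1, b2) n) = true := by
  decide +kernel

theorem rep_zCode : (invTab.all fun r => [false, true].all fun b1 => [false, true].all fun b2 =>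
    zCode b1 b2 (rootN r.2.2) == zCode b1 b2 r.1) = true := by
  decide +kernel

theorem tangent_Q : ([false, true].all fun b =>
    ((maskList mA2).all fun a => !(omCode (true, true, true, false, b) a &&
      omCode (true, true, true, false, b) (mulN a 8)) || inMask mQ a) &&
    ((maskList mA3).all fun a => !(omCode (true, true, true, b, false) a &&
      omCode (true, true, true, b, false) (mulN a 8)) || inMask mQ a)) = true := by
  decide +kernel

theorem tangent_split : ([false, true].all fun b =>
    omCode (true, true, true, false, b) 2 && omCode (true, true, true, false, b) 32 &&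
    omCode (true, true, true, false, b) (mulN 2 4) && omCode (true, true, true, false, b) (mulN 32 4) &&
    omCode (true, true, true, b, false) 32 && omCode (true, true, true, b, false) 256 &&
    omCode (true, true, true, b, false) (mulN 32 64) && omCode (true, true, true, b, false) (mulN 256 64)) = true ∧
    mulN 2 32 = 34 ∧ mulN 32 256 = 288 := by
  decide +kernel

end Cfsg.Lib.LFiveType
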