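import Cfsg.Agent.LFiveType.Local
import Cfsg.Agent.LFiveType.FactsFusion
import Cfsg.Agent.InvolCalc.StronglyEmbedded
import Cfsg.Agent.S1169

/-!
# The conjugates of z

In a simple group, given the fusion of L5(2) inside C(z), the conjugates of z in the Sylow subgroup are one of
four sets; in the smaller ones an element of N(A2) or N(A3) moves the tangent class into Q.
-/

set_option autoImplicit false
set_option maxRecDepth 100000
set_option Elab.async false

namespace Cfsg.Lib.LFiveType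

theorem pick_A2 {a : ℕ} (h : a ∈ [0, 2, 16, 18]) : a < 1024 ∧ inMask mA2 a = true := by
  fin_cases h <;> exact ⟨by norm_num, by decide⟩

theorem pick_A3 {b : ℕ} (h : b ∈ [0, 128, 256, 384]) : b < 1024 ∧ inMask mA3 b = true := by
  fin_cases h <;> exact ⟨by norm_num, by decide⟩

theorem ofN_mem {m : ℕ} {hm : maskOK m = true} {n : ℕ} (hn : n < 1024) (h : inMask m n = true) :
    ofN n ∈ maskSub m hm := by
  rw [mem_maskSub, ofN_code hn]
  exact h

namespace Setting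

variable {G : Type*} [Group G] (S : Setting G)

theorem cent_tab {r : ℕ × ℕ × ℕ} (hr : r ∈ invTab) :
    ∃ g : G, g * S.z = S.z * g ∧ g * S.e (ofN r.1) * g⁻¹ = S.e (ofN r.2.2) := by
  have h := List.all_eq_true.1 tab_ok r hr
  simp only [Bool.and_eq_true] at h
  obtain ⟨⟨⟨⟨⟨⟨⟨⟨⟨h1, h2⟩, h3⟩, -⟩, -⟩, -⟩, -⟩, -⟩, -⟩, -⟩ := h
  have h1 : r.1 < 1024 := Nat.le_of_ble_eq_true h1
  have h2 : r.2.1 < 1024 := Nat.le_of_ble_eq_true h2
  refine ⟨S.e (ofN r.2.1), S.z_central (S.e_mem _), ?_⟩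
  rw [← map_inv, ← map_mul, ← map_mul]
  refine congrArg S.e (code_inj.1 ?_)
  rw [code_mul, code_mul, code_inv, ofN_code h1, ofN_code h2, ofN_code]
  · exact Nat.eq_of_beq_eq_true h3
  · rw [← Nat.eq_of_beq_eq_true h3]
    refine mulN_lt (mulN_lt h2 h1) ?_
    have := code_inv (ofN r.2.1)
    rw [ofN_code h2] at this
    exact this ▸ Fin.isLt _

variable [Finite G]

omit [Finite G] in
theorem cent_perm {P : Matrix (Fin 5) (Fin 5) (ZMod 2)} (hd : P.det = 1) (hz : P * matM zM = matM zM * P)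
    (hfus : ∀ m : Matrix.SpecialLinearGroup (Fin 5) (ZMod 2), m * embS zM = embS zM * m →
      ∀ a b : Mdl, m * embS a * m⁻¹ = embS b → ∃ g : G, g * S.z = S.z * g ∧ g * S.e a * g⁻¹ = S.e b)
    {a b : Mdl} (h : P * matM a = matM b * P) : ∃ g : G, g * S.z = S.z * g ∧ g * S.e a * g⁻¹ = S.e b := by
  set m : Matrix.SpecialLinearGroup (Fin 5) (ZMod 2) := ⟨P, hd⟩ with hm
  have hme : (m : Matrix (Fin 5) (Fin 5) (ZMod 2)) = P := rfl
  have he : ∀ c : Mdl, ((embS c : Matrix.SpecialLinearGroup (Fin 5) (ZMod 2)) : Matrix (Fin 5) (Fin 5) (ZMod 2)) =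
      matM c := fun _ => rfl
  have h1 : m * embS zM = embS zM * m := Subtype.ext (by
    rw [Matrix.SpecialLinearGroup.coe_mul, Matrix.SpecialLinearGroup.coe_mul, he, hme]; exact hz)
  have h2 : m * embS a = embS b * m := Subtype.ext (by
    rw [Matrix.SpecialLinearGroup.coe_mul, Matrix.SpecialLinearGroup.coe_mul, he, he, hme]; exact h)
  exact hfus m h1 a b (by rw [h2, mul_inv_cancel_right])

omit [Finite G] in
theorem cent_trans {z x y w : G} (h1 : ∃ g : G, g * z = z * g ∧ g * x * g⁻¹ = y)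
    (h2 : ∃ g : G, g * z = z * g ∧ g * y * g⁻¹ = w) : ∃ g : G, g * z = z * g ∧ g * x * g⁻¹ = w := by
  obtain ⟨g, hg, e1⟩ := h1
  obtain ⟨k, hk, e2⟩ := h2
  exact ⟨k * g, by rw [mul_assoc, hg, ← mul_assoc, hk, mul_assoc], by rw [← e2, ← e1]; group⟩

omit [Finite G] in
theorem cent_root
    (hfus : ∀ m : Matrix.SpecialLinearGroup (Fin 5) (ZMod 2), m * embS zM = embS zM * m →
      ∀ a b : Mdl, m * embS a * m⁻¹ = embS b → ∃ g : G, g * S.z = S.z * g ∧ g * S.e a * g⁻¹ = S.e b)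
    {s : ℕ} (hs : s ∈ sReps) : ∃ g : G, g * S.z = S.z * g ∧ g * S.e (ofN s) * g⁻¹ = S.e (ofN (rootN s)) := by
  have lt : ∀ s ∈ sReps, s < 1024 := by decide
  have step : ∀ s ∈ sReps, parN s ∈ sReps ∧ ∃ g : G, g * S.z = S.z * g ∧ g * S.e (ofN s) * g⁻¹ = S.e (ofN (parN s)) := by
    intro s hs
    have h := List.all_eq_true.1 roots_ok s hs
    simp only [Bool.and_eq_true, Bool.or_eq_true, decide_eq_true_eq] at h
    obtain ⟨⟨⟨⟨-, hp⟩, -⟩, hmem⟩, hedge⟩ := h
    have hp : parN s < 1024 := Nat.le_of_ble_eq_true hp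
    refine ⟨List.elem_iff.1 hmem, ?_⟩
    have em : ∀ {n : ℕ}, n < 1024 → matM (ofN n) = matN n := fun hn => by rw [matM, ofN_code hn]
    rcases hedge with (h | h) | h
    · exact ⟨1, by simp, by rw [Nat.eq_of_beq_eq_true h]; simp⟩
    · exact S.cent_perm perm_det.1 perm_z.1 hfus (by rw [em (lt s hs), em hp]; exact h)
    · exact S.cent_perm perm_det.2 perm_z.2 hfus (by rw [em (lt s hs), em hp]; exact h)
  obtain ⟨m1, c1⟩ := step s hs
  obtain ⟨m2, c2⟩ := step _ m1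
  exact cent_trans (cent_trans c1 c2) (step _ m2).2

/-- The conjugates of z are given by five choices. -/
theorem exists_pattern
    (hfus : ∀ m : Matrix.SpecialLinearGroup (Fin 5) (ZMod 2), m * embS zM = embS zM * m →
      ∀ a b : Mdl, m * embS a * m⁻¹ = embS b → ∃ g : G, g * S.z = S.z * g ∧ g * S.e a * g⁻¹ = S.e b) :
    ∃ p : Pat, ∀ a : Mdl, IsConj S.z (S.e a) ↔ omCode p a.code.val = true := by
  classical
  refine ⟨(decide (IsConj S.z (S.e (ofN 4))), decide (IsConj S.z (S.e (ofN 64))),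
    decide (IsConj S.z (S.e (ofN 32))), decide (IsConj S.z (S.e (ofN 34))),
    decide (IsConj S.z (S.e (ofN 288)))), fun a => ?_⟩
  have hc := List.all_eq_true.1 tab_cover _ (List.mem_range.2 a.code.isLt)
  rw [Bool.or_eq_true] at hc
  rcases hc with hc | hc
  · obtain ⟨r, hr, hra⟩ := List.any_eq_true.1 hc
    have hra := Nat.eq_of_beq_eq_true hra
    have h := List.all_eq_true.1 tab_ok r hr
    simp only [Bool.and_eq_true, beq_iff_eq] at h
    obtain ⟨⟨⟨⟨⟨⟨⟨-, hmem⟩, e8⟩, e4⟩, e64⟩, e32⟩, e34⟩, e288⟩ := h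
    have ha : a = ofN r.1 := code_inj.1 (by rw [hra, ofN_code a.code.isLt])
    obtain ⟨g0, -, hg0⟩ := cent_trans (S.cent_tab hr) (S.cent_root hfus (List.elem_iff.1 hmem))
    have hcon : IsConj (S.e a) (S.e (ofN (rootN r.2.2))) := ha ▸ isConj_iff.2 ⟨g0, hg0⟩
    have hiff : IsConj S.z (S.e a) ↔ IsConj S.z (S.e (ofN (rootN r.2.2))) :=
      ⟨fun h => h.trans hcon, fun h => h.trans hcon.symm⟩
    rw [hiff, ← hra, omCode, e8, e4, e64, e32, e34, e288]
    have hroot := List.all_eq_true.1 roots_ok _ (List.elem_iff.1 hmem)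
    simp only [Bool.and_eq_true] at hroot
    have hroot := List.elem_iff.1 hroot.1.1.1.1
    generalize rootN r.2.2 = k at hroot
    have bad : ∀ n : ℕ, n < 1024 → nonsing n = true → ¬ IsConj S.z (S.e (ofN n)) := fun n hn hns hc => by
      obtain ⟨g, hg⟩ := isConj_iff.1 hc
      exact S.z_not_nonsing (w := ofN n) (by rw [ofN_code hn]; exact hns) hg
    fin_cases hroot
    · simpa [show S.z = S.e (ofN 8) from rfl] using IsConj.refl S.z
    · simp
    · simp
    · simp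
    · simp
    · simp
    · simpa using bad 68 (by norm_num) nonsing_roots.1
    · simpa using bad 40 (by norm_num) nonsing_roots.2
  · simp only [Bool.and_eq_true, Bool.or_eq_true, Bool.not_eq_true', omCode, Bool.or_eq_false_iff,
      Bool.true_and] at hc
    obtain ⟨hn, ⟨⟨⟨⟨h8, h4⟩, h64⟩, h32⟩, h34⟩, h288⟩ := hc
    simp only [omCode, h8, h4, h64, h32, h34, h288, Bool.and_false, Bool.or_false, Bool.false_eq_true,
      iff_false]
    intro hc
    obtain ⟨g, hg⟩ := isConj_iff.1 hc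
    have hsq : a * a = 1 := S.inj (by
      rw [map_mul, map_one, ← hg, show g * S.z * g⁻¹ * (g * S.z * g⁻¹) = g * (S.z * S.z) * g⁻¹ by group,
        S.z_sq, mul_one, mul_inv_cancel])
    rcases hn with hn | hn
    · have ha : a = 1 := code_inj.1 (by rw [Nat.eq_of_beq_eq_true hn, code_one])
      rw [ha, map_one] at hg
      exact S.z_ne_one (conj_eq_one_iff.1 hg)
    · rw [← code_mul, hsq, code_one] at hn
      exact absurd hn (by decide)

omit [Finite G] in
/-- An involution moves to one of eight representatives inside the centraliser of z. -/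
theorem exists_rep
    (hfus : ∀ m : Matrix.SpecialLinearGroup (Fin 5) (ZMod 2), m * embS zM = embS zM * m →
      ∀ a b : Mdl, m * embS a * m⁻¹ = embS b → ∃ g : G, g * S.z = S.z * g ∧ g * S.e a * g⁻¹ = S.e b)
    {a : Mdl} (h1 : a ≠ 1) (h2 : a * a = 1) :
    ∃ r ∈ [8, 4, 64, 32, 34, 288, 68, 40], (∀ b1 b2, zCode b1 b2 r = zCode b1 b2 a.code.val) ∧
      ∃ g : G, g * S.z = S.z * g ∧ g * S.e a * g⁻¹ = S.e (ofN r) := by
  have hc := List.all_eq_true.1 tab_cover _ (List.mem_range.2 a.code.isLt)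
  rw [Bool.or_eq_true] at hc
  rcases hc with hc | hc
  · obtain ⟨r, hr, hra⟩ := List.any_eq_true.1 hc
    have hra := Nat.eq_of_beq_eq_true hra
    have h := List.all_eq_true.1 tab_ok r hr
    simp only [Bool.and_eq_true, beq_iff_eq] at h
    obtain ⟨⟨⟨⟨⟨⟨⟨-, hmem⟩, -⟩, -⟩, -⟩, -⟩, -⟩, -⟩ := h
    have ha : a = ofN r.1 := code_inj.1 (by rw [hra, ofN_code a.code.isLt])
    have hroot := List.all_eq_true.1 roots_ok _ (List.elem_iff.1 hmem)
    simp only [Bool.and_eq_true] at hroot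
    refine ⟨_, List.elem_iff.1 hroot.1.1.1.1, fun b1 b2 => ?_,
      ha ▸ cent_trans (S.cent_tab hr) (S.cent_root hfus (List.elem_iff.1 hmem))⟩
    have hz := List.all_eq_true.1 rep_zCode r hr
    rw [hra] at hz
    cases b1 <;> cases b2 <;> simp only [List.all_cons, List.all_nil, Bool.and_true, Bool.and_eq_true,
      beq_iff_eq] at hz <;> simp only [hz]
  · simp only [Bool.and_eq_true, Bool.or_eq_true, Bool.not_eq_true'] at hc
    rcases hc.1 with h | h
    · exact absurd (code_inj.1 ((Nat.eq_of_beq_eq_true h).trans code_one.symm)) h1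
    · rw [← code_mul, h2, code_one] at h
      exact absurd h (by decide)

omit [Finite G] in
theorem cnt_le {m : ℕ} {h : G} {q q' : ℕ → Bool}
    (him : ∀ a : Mdl, inMask m a.code.val = true → q a.code.val = true →
      ∃ a' : Mdl, inMask m a'.code.val = true ∧ q' a'.code.val = true ∧ S.e a' = h * S.e a * h⁻¹) :
    cnt m q ≤ cnt m q' := by
  classical
  have nd : ∀ r : ℕ → Bool, ((maskList m).filter r).Nodup := fun r =>
    List.Nodup.filter _ (List.Nodup.filter _ List.nodup_range)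
  rw [cnt, cnt, ← List.toFinset_card_of_nodup (nd q), ← List.toFinset_card_of_nodup (nd q')]
  let f : ℕ → ℕ := fun n => if hn : ∃ a' : Mdl, S.e a' = h * S.e (ofN n) * h⁻¹ then hn.choose.code.val else 0
  have key : ∀ n ∈ ((maskList m).filter q).toFinset, f n ∈ ((maskList m).filter q').toFinset ∧
      S.e (ofN (f n)) = h * S.e (ofN n) * h⁻¹ ∧ n < 1024 := by
    intro n hn
    obtain ⟨h1, h2⟩ := List.mem_filter.1 (List.mem_toFinset.1 hn)
    obtain ⟨h1, h3⟩ := List.mem_filter.1 h1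
    have h1 : n < 1024 := List.mem_range.1 h1
    obtain ⟨a', ha, hq, he⟩ := him (ofN n) (by rw [ofN_code h1]; exact h3) (by rw [ofN_code h1]; exact h2)
    have hex : ∃ a' : Mdl, S.e a' = h * S.e (ofN n) * h⁻¹ := ⟨a', he⟩
    have hfa : f n = a'.code.val := by
      simp only [f, dif_pos hex]
      exact code_inj.2 (S.inj (hex.choose_spec.trans he.symm))
    rw [hfa, show ofN a'.code.val = a' from code_inj.1 (ofN_code a'.code.isLt)]
    exact ⟨List.mem_toFinset.2 (List.mem_filter.2 ⟨mem_maskList ha, hq⟩), he, h1⟩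
  refine Finset.card_le_card_of_injOn f (fun n hn => Finset.mem_coe.2 (key n (Finset.mem_coe.1 hn)).1)
    fun n hn k hk e => ?_
  obtain ⟨-, e1, l1⟩ := key n (Finset.mem_coe.1 hn)
  obtain ⟨-, e2, l2⟩ := key k (Finset.mem_coe.1 hk)
  rw [e, e2] at e1
  have := code_inj.2 (S.inj (mul_left_cancel (mul_right_cancel e1)))
  rwa [ofN_code l1, ofN_code l2, eq_comm] at this

/-- An element normalising R maps W to itself, singular vectors to singular vectors. -/
theorem image_W {h : G} (hR : ∀ r, r ∈ S.R ↔ h * r * h⁻¹ ∈ S.R) {a : Mdl} (ha : a ∈ WM) :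
    ∃ a' ∈ WM, S.e a' = h * S.e a * h⁻¹ ∧ (nonsing a.code.val = false → nonsing a'.code.val = false) := by
  have haW : S.e a ∈ S.W := S.mem_map_iff.2 ha
  have haR : S.e a ∈ S.R := by
    have h' := List.all_eq_true.1 W_central_R _ (mem_maskList ha)
    rw [Bool.and_eq_true] at h'
    exact S.A2_le_R (S.mem_map_iff.2 (show inMask mA2 a.code.val = true from h'.1))
  obtain ⟨a', ha', he⟩ := S.mem_e.1 ((hR _).1 haR)
  refine ⟨a', ?_, he, fun hns => ?_⟩
  · have hc := List.all_eq_true.1 cent_R_W _ (mem_maskList ha')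
    rw [Bool.or_eq_true] at hc
    refine hc.resolve_right fun h2 => ?_
    obtain ⟨g, hg, hne⟩ := List.any_eq_true.1 h2
    have hg' : g < 1024 ∧ inMask mR g = true := by fin_cases hg <;> exact ⟨by norm_num, by decide⟩
    have hgR : S.e (ofN g) ∈ S.R := S.mem_map_iff.2 (ofN_mem hg'.1 hg'.2)
    have hpre : h⁻¹ * S.e (ofN g) * h ∈ S.R := by
      rw [hR]
      simpa [mul_assoc] using hgR
    have hcomm : S.e a' * S.e (ofN g) = S.e (ofN g) * S.e a' := by
      rw [he]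
      calc h * S.e a * h⁻¹ * S.e (ofN g) = h * (S.e a * (h⁻¹ * S.e (ofN g) * h)) * h⁻¹ := by group
        _ = h * ((h⁻¹ * S.e (ofN g) * h) * S.e a) * h⁻¹ := by rw [S.W_central haW hpre]
        _ = S.e (ofN g) * (h * S.e a * h⁻¹) := by group
    rw [← map_mul, ← map_mul] at hcomm
    have := code_inj.2 (S.inj hcomm)
    rw [code_mul, code_mul, ofN_code hg'.1] at this
    rw [this, Nat.beq_refl] at hne
    exact absurd hne (by decide)
  · have hs := List.all_eq_true.1 sing_sq _ (mem_maskList ha)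
    rw [hns, Bool.false_or] at hs
    obtain ⟨x, hx, hs⟩ := List.any_eq_true.1 hs
    obtain ⟨y, hy, hs⟩ := List.any_eq_true.1 hs
    obtain ⟨x', hx', ex⟩ := S.image_A2 hR (a := ofN x) (ofN_mem (pick_A2 hx).1 (pick_A2 hx).2)
    obtain ⟨y', hy', ey⟩ := S.image_A3 hR (b := ofN y) (ofN_mem (pick_A3 hy).1 (pick_A3 hy).2)
    have e0 : ofN x * ofN y * (ofN x * ofN y) = a := code_inj.1 (by
      rw [code_sq, ofN_code (pick_A2 hx).1, ofN_code (pick_A3 hy).1, Nat.eq_of_beq_eq_true hs])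
    have e1 := S.sq_image ex ey
    rw [e0, ← he] at e1
    have hmod := Nat.eq_of_beq_eq_true
      (List.all_eq_true.1 (List.all_eq_true.1 sq_mod _ (mem_maskList hx')) _ (mem_maskList hy'))
    have hm := List.all_eq_true.1 and18 _ (List.mem_range.2 x'.code.isLt)
    have hm' := List.all_eq_true.1 and18 _ (List.mem_range.2 y'.code.isLt)
    rw [Bool.and_eq_true] at hm hm'
    have h0 := List.all_eq_true.1 (List.all_eq_true.1 sq_sing _ (List.elem_iff.1 hm.1)) _ (List.elem_iff.1 hm'.2)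
    rw [Bool.and_eq_true, Bool.not_eq_true'] at h0
    rw [← S.inj e1, code_sq, hmod]
    exact h0.2

theorem cntW_le {p : Pat} (hp : ∀ a : Mdl, IsConj S.z (S.e a) ↔ omCode p a.code.val = true) {v v' : ℕ}
    (hv : v < 1024) (hv' : v' < 1024) (hm : inMask mW v = true) (hm' : inMask mW v' = true)
    (ho : omCode p v = true) (ho' : omCode p v' = true) : cnt mW (predW p v) ≤ cnt mW (predW p v') := by
  obtain ⟨g, hg⟩ := isConj_iff.1 (((hp (ofN v)).2 (by rw [ofN_code hv]; exact ho)).symm.trans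
    ((hp (ofN v')).2 (by rw [ofN_code hv']; exact ho')))
  have hvW : S.e (ofN v) ∈ S.W := S.mem_map_iff.2 (ofN_mem hv hm)
  obtain ⟨h, hR, hh⟩ := S.fusion_R hvW (by rw [hg]; exact S.mem_map_iff.2 (ofN_mem hv' hm'))
  rw [hg] at hh
  refine S.cnt_le (h := h) fun a ha hq => ?_
  simp only [predW, Bool.and_eq_true, Bool.not_eq_true'] at hq
  obtain ⟨a', ha', he, -⟩ := S.image_W hR ha
  obtain ⟨c, hc, hce, hcs⟩ := S.image_W hR (a := a * ofN v) (inMask_mul maskOK_all.2.2.2.1 ha (show inMask mW (ofN v).code.val = true by rw [ofN_code hv]; exact hm))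
  have hcv : c = a' * ofN v' := S.inj (by
    rw [hce, map_mul, map_mul, he, ← hh]
    group)
  refine ⟨a', ha', ?_, he⟩
  simp only [predW, Bool.and_eq_true, Bool.not_eq_true']
  refine ⟨⟨(hp a').1 (((hp a).2 hq.1.1).trans (isConj_iff.2 ⟨h, he.symm⟩)), ?_⟩, ?_⟩
  · refine Bool.eq_false_iff.2 fun e => ?_
    have e' : a' = ofN v' := code_inj.1 (by rw [Nat.eq_of_beq_eq_true e, ofN_code hv'])
    rw [e', ← hh] at he
    rw [← S.inj (mul_left_cancel (mul_right_cancel he)), ofN_code hv, Nat.beq_refl] at hq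
    exact absurd hq.1.2 (by decide)
  · have := hcs (by rw [code_mul, ofN_code hv]; exact hq.2)
    rwa [hcv, code_mul, ofN_code hv'] at this

/-- Burnside for a weakly closed abelian subgroup. -/
theorem fusion_abelian {A : Subgroup G} (hA : A ≤ (S.syl : Subgroup G)) (hab : ∀ a ∈ A, ∀ b ∈ A, a * b = b * a)
    (wc : ∀ k : G, (∀ x ∈ A, k * x * k⁻¹ ∈ (S.syl : Subgroup G)) → ∀ x, x ∈ A ↔ k * x * k⁻¹ ∈ A)
    {g x : G} (hx : x ∈ A) (hy : g * x * g⁻¹ ∈ A) :
    ∃ h : G, (∀ r, r ∈ A ↔ h * r * h⁻¹ ∈ A) ∧ h * x * h⁻¹ = g * x * g⁻¹ := by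
  set N : Subgroup G := Subgroup.centralizer {g * x * g⁻¹} with hN
  have hAN : A ≤ N := fun r hr => Subgroup.mem_centralizer_singleton_iff.2 (hab r hr _ hy)
  have hgN : cjSub g A ≤ N := by
    rintro _ ⟨r, hr, rfl⟩
    refine Subgroup.mem_centralizer_singleton_iff.2 ?_
    show g * r * g⁻¹ * (g * x * g⁻¹) = g * x * g⁻¹ * (g * r * g⁻¹)
    calc g * r * g⁻¹ * (g * x * g⁻¹) = g * (r * x) * g⁻¹ := by group
      _ = g * (x * r) * g⁻¹ := by rw [hab r hr x hx]
      _ = g * x * g⁻¹ * (g * r * g⁻¹) := by group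
  have hpA : IsPGroup 2 ↥A := S.syl.isPGroup'.to_le hA
  obtain ⟨P, hP⟩ := (hpA.comap_of_injective N.subtype N.subtype_injective).exists_le_sylow
  obtain ⟨Q, hQ⟩ := ((hpA.map (MulAut.conj g).toMonoidHom).comap_of_injective N.subtype
    N.subtype_injective).exists_le_sylow
  obtain ⟨c, hc⟩ := MulAction.exists_smul_eq N Q P
  obtain ⟨T, hT⟩ := (P.isPGroup'.map N.subtype).exists_le_sylow
  obtain ⟨k, hk⟩ := MulAction.exists_smul_eq G S.syl T
  have inT : ∀ u : N, u ∈ (P : Subgroup N) → k⁻¹ * (u : G) * k ∈ (S.syl : Subgroup G) := fun u hu => by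
    have := hT ⟨u, hu, rfl⟩
    rwa [← hk, mem_smul_sylow] at this
  have hc2 : (c : G) * (g * x * g⁻¹) = g * x * g⁻¹ * (c : G) := Subgroup.mem_centralizer_singleton_iff.1 c.2
  refine ⟨c * g, ?_, ?_⟩
  · have hA : ∀ r, r ∈ A ↔ k⁻¹ * r * k⁻¹⁻¹ ∈ A := wc _ fun r hr => by
      rw [inv_inv]
      exact inT ⟨r, hAN hr⟩ (hP (Subgroup.mem_comap.2 hr))
    have hB : ∀ r, r ∈ A ↔ k⁻¹ * (c * g) * r * (k⁻¹ * (c * g))⁻¹ ∈ A := wc _ fun r hr => by
      have hq : (⟨g * r * g⁻¹, hgN (conj_mem_cjSub hr)⟩ : N) ∈ (Q : Subgroup N) :=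
        hQ (Subgroup.mem_comap.2 (conj_mem_cjSub hr))
      have hp : c * ⟨g * r * g⁻¹, hgN (conj_mem_cjSub hr)⟩ * c⁻¹ ∈ (P : Subgroup N) := by
        rw [← hc, mem_smul_sylow]
        simpa [mul_assoc] using hq
      have := inT _ hp
      simpa [mul_assoc] using this
    intro r
    rw [hB r, hA ((c : G) * g * r * ((c : G) * g)⁻¹)]
    simp [mul_assoc]
  · calc (c : G) * g * x * ((c : G) * g)⁻¹ = (c : G) * (g * x * g⁻¹) * (c : G)⁻¹ := by group
      _ = g * x * g⁻¹ := by rw [hc2, mul_inv_cancel_right]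

omit [Finite G] in
theorem A2_comm : ∀ a ∈ S.A2, ∀ b ∈ S.A2, a * b = b * a := fun a ha b hb => by
  have h1 := S.A2_sq _ (mul_mem ha hb)
  rw [← inv_eq_of_mul_eq_one_right h1, mul_inv_rev, inv_eq_of_mul_eq_one_right (S.A2_sq a ha),
    inv_eq_of_mul_eq_one_right (S.A2_sq b hb)]

omit [Finite G] in
theorem A3_comm : ∀ a ∈ S.A3, ∀ b ∈ S.A3, a * b = b * a := fun a ha b hb => by
  have h1 := S.A3_sq _ (mul_mem ha hb)
  rw [← inv_eq_of_mul_eq_one_right h1, mul_inv_rev, inv_eq_of_mul_eq_one_right (S.A3_sq a ha),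
    inv_eq_of_mul_eq_one_right (S.A3_sq b hb)]

theorem fusion_A2 {g x : G} (hx : x ∈ S.A2) (hy : g * x * g⁻¹ ∈ S.A2) :
    ∃ h : G, (∀ r, r ∈ S.A2 ↔ h * r * h⁻¹ ∈ S.A2) ∧ h * x * h⁻¹ = g * x * g⁻¹ :=
  S.fusion_abelian S.A2_le_syl S.A2_comm (fun _ h => S.wc_A2 h) hx hy

theorem fusion_A3 {g x : G} (hx : x ∈ S.A3) (hy : g * x * g⁻¹ ∈ S.A3) :
    ∃ h : G, (∀ r, r ∈ S.A3 ↔ h * r * h⁻¹ ∈ S.A3) ∧ h * x * h⁻¹ = g * x * g⁻¹ :=
  S.fusion_abelian S.A3_le_syl S.A3_comm (fun _ h => S.wc_A3 h) hx hy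

omit [Finite G] in
theorem cntA_le {p : Pat} (hp : ∀ a : Mdl, IsConj S.z (S.e a) ↔ omCode p a.code.val = true) {m : ℕ}
    {hm : maskOK m = true}
    (hfu : ∀ {g x : G}, x ∈ (maskSub m hm).map S.e → g * x * g⁻¹ ∈ (maskSub m hm).map S.e →
      ∃ h : G, (∀ r, r ∈ (maskSub m hm).map S.e ↔ h * r * h⁻¹ ∈ (maskSub m hm).map S.e) ∧
        h * x * h⁻¹ = g * x * g⁻¹)
    {v v' : ℕ} (hv : v < 1024) (hv' : v' < 1024) (hvm : inMask m v = true) (hvm' : inMask m v' = true)
    (ho : omCode p v = true) (ho' : omCode p v' = true) : cnt m (predA p v) ≤ cnt m (predA p v') := by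
  obtain ⟨g, hg⟩ := isConj_iff.1 (((hp (ofN v)).2 (by rw [ofN_code hv]; exact ho)).symm.trans
    ((hp (ofN v')).2 (by rw [ofN_code hv']; exact ho')))
  obtain ⟨h, hA, hh⟩ := hfu (g := g) (S.mem_map_iff.2 (ofN_mem (hm := hm) hv hvm))
    (by rw [hg]; exact S.mem_map_iff.2 (ofN_mem hv' hvm'))
  rw [hg] at hh
  refine S.cnt_le (h := h) fun a ha hq => ?_
  simp only [predA, Bool.and_eq_true] at hq
  obtain ⟨a', ha', he⟩ := S.mem_e.1 ((hA _).1 (S.mem_map_iff.2 (show a ∈ maskSub m hm from ha)))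
  refine ⟨a', ha', ?_, he⟩
  simp only [predA, Bool.and_eq_true]
  refine ⟨(hp a').1 (((hp a).2 hq.1).trans (isConj_iff.2 ⟨h, he.symm⟩)), ?_⟩
  have h1 := (hp (a' * ofN v')).1 (((hp (a * ofN v)).2 (by rw [code_mul, ofN_code hv]; exact hq.2)).trans
    (isConj_iff.2 ⟨h, by rw [map_mul, map_mul, he, ← hh]; group⟩))
  rwa [code_mul, ofN_code hv'] at h1

theorem not_badPat {p : Pat} (hp : ∀ a : Mdl, IsConj S.z (S.e a) ↔ omCode p a.code.val = true) :
    badPat p = false := by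
  refine Bool.eq_false_iff.2 fun hb => ?_
  simp only [badPat, uneven, Bool.or_eq_true, List.any_eq_true, Bool.and_eq_true, Bool.not_eq_true'] at hb
  rcases hb with (⟨w, hw, ⟨⟨⟨m1, m2⟩, o1⟩, o2⟩, hne⟩ | ⟨w, hw, ⟨⟨⟨m1, m2⟩, o1⟩, o2⟩, hne⟩) |
    ⟨w, hw, ⟨⟨⟨m1, m2⟩, o1⟩, o2⟩, hne⟩
  · have l : w.1 < 1024 ∧ w.2 < 1024 := by fin_cases hw <;> norm_num
    rw [le_antisymm (S.cntW_le hp l.1 l.2 m1 m2 o1 o2) (S.cntW_le hp l.2 l.1 m2 m1 o2 o1), Nat.beq_refl] at hne
    exact absurd hne (by decide)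
  · have l : w.1 < 1024 ∧ w.2 < 1024 := by fin_cases hw <;> norm_num
    rw [le_antisymm (S.cntA_le hp (hm := maskOK_all.1) S.fusion_A2 l.1 l.2 m1 m2 o1 o2)
      (S.cntA_le hp (hm := maskOK_all.1) S.fusion_A2 l.2 l.1 m2 m1 o2 o1), Nat.beq_refl] at hne
    exact absurd hne (by decide)
  · have l : w.1 < 1024 ∧ w.2 < 1024 := by fin_cases hw <;> norm_num
    rw [le_antisymm (S.cntA_le hp (hm := maskOK_all.2.1) S.fusion_A3 l.1 l.2 m1 m2 o1 o2)
      (S.cntA_le hp (hm := maskOK_all.2.1) S.fusion_A3 l.2 l.1 m2 m1 o2 o1), Nat.beq_refl] at hne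
    exact absurd hne (by decide)

/-- The three small patterns give a strongly closed abelian subgroup. -/
theorem not_small [IsSimpleGroup G] {p : Pat} (hp : ∀ a : Mdl, IsConj S.z (S.e a) ↔ omCode p a.code.val = true)
    {m : ℕ} (hm : maskOK m = true) (h8 : inMask m 8 = true) (h32 : omCode p 32 = false)
    (hset : ((List.range 1024).all fun n => (Nat.beq n 0 || omCode p n) == inMask m n) = true)
    (hab : ((maskList m).all fun a => (maskList m).all fun b => Nat.beq (mulN a b) (mulN b a)) = true) : False := by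
  have hset' : ∀ a : Mdl, a ∈ maskSub m hm ↔ a = 1 ∨ IsConj S.z (S.e a) := by
    intro a
    have h := beq_iff_eq.1 (List.all_eq_true.1 hset _ (List.mem_range.2 a.code.isLt))
    rw [mem_maskSub, ← h, Bool.or_eq_true, hp a, ← code_inj (b := 1), code_one]
    exact or_congr_left ⟨Nat.eq_of_beq_eq_true, fun e => by rw [e]; rfl⟩
  have hne : (maskSub m hm).map S.e ≠ ⊥ := fun e => S.z_ne_one (by
    have hz : S.z ∈ (maskSub m hm).map S.e := S.mem_map_iff.2 (show inMask m zM.code.val = true from h8)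
    rwa [e, Subgroup.mem_bot] at hz)
  have hcomm : IsMulCommutative ↥((maskSub m hm).map S.e) := ⟨⟨by
    rintro ⟨_, a, ha, rfl⟩ ⟨_, b, hb, rfl⟩
    refine Subtype.ext ?_
    show S.e a * S.e b = S.e b * S.e a
    rw [← map_mul, ← map_mul]
    refine congrArg S.e (code_inj.1 ?_)
    rw [code_mul, code_mul]
    exact Nat.eq_of_beq_eq_true (List.all_eq_true.1 (List.all_eq_true.1 hab _ (mem_maskList ha)) _ (mem_maskList hb))⟩⟩
  have hsc : Cfsg.IsStronglyClosed ((maskSub m hm).map S.e) (S.syl : Subgroup G) := by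
    refine ⟨S.map_le_syl _, ?_⟩
    rintro _ ⟨a, ha, rfl⟩ g hg
    obtain ⟨b, hb⟩ := S.exists_code hg
    rw [← hb]
    refine S.mem_map_iff.2 ((hset' b).2 ?_)
    rcases (hset' a).1 ha with rfl | hc
    · left
      exact S.inj (by rw [hb]; simp)
    · exact Or.inr (hc.trans (isConj_iff.2 ⟨g, hb.symm⟩))
  rcases Cfsg.Agent.S1169.result S.syl _ hne hcomm hsc with hc | ⟨H, hH⟩
  · have h := hc.is_comm.comm ⟨S.e (ofN 1), S.e_mem _⟩ ⟨S.e (ofN 16), S.e_mem _⟩
    have h' := congrArg Subtype.val h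
    change S.e (ofN 1) * S.e (ofN 16) = S.e (ofN 16) * S.e (ofN 1) at h'
    rw [← map_mul, ← map_mul] at h'
    exact absurd (S.inj h') (by decide +kernel)
  · have ord : ∀ a : Mdl, a ≠ 1 → a * a = 1 → orderOf (S.e a) = 2 := fun a h1 h2 => by
      rw [orderOf_injective S.e S.inj]
      exact orderOf_eq_prime (by rw [pow_two, h2]) h1
    have h := (hp (ofN 32)).1 (Cfsg.Lib.StrongEmb.all_conj hH (ord zM zM_order.1 zM_order.2)
      (ord (ofN 32) (by decide +kernel) (by decide +kernel)))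
    rw [ofN_code (by norm_num), h32] at h
    exact absurd h (by decide)

/-- The conjugates of z form one of four sets. -/
theorem fusion_type [IsSimpleGroup G]
    (hfus : ∀ m : Matrix.SpecialLinearGroup (Fin 5) (ZMod 2), m * embS zM = embS zM * m →
      ∀ a b : Mdl, m * embS a * m⁻¹ = embS b → ∃ g : G, g * S.z = S.z * g ∧ g * S.e a * g⁻¹ = S.e b) :
    ∃ b1 b2 : Bool, ∀ a : Mdl, IsConj S.z (S.e a) ↔ zCode b1 b2 a.code.val = true := by
  obtain ⟨p, hp⟩ := S.exists_pattern hfus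
  have hk := small_pat
  simp only [List.all_cons, List.all_nil, Bool.and_true, Bool.and_eq_true] at hk
  rcases sieve p with h | rfl | rfl | rfl | h
  · rw [S.not_badPat hp] at h
    exact absurd h (by decide)
  · exact (S.not_small hp maskOK_col.2 (by decide) (by decide +kernel) hk.1.1 hk.1.2).elim
  · exact (S.not_small hp maskOK_all.2.2.2.2.2 (by decide) (by decide +kernel) hk.2.1.1 hk.2.1.2).elim
  · exact (S.not_small hp maskOK_col.1 (by decide) (by decide +kernel) hk.2.2.1 hk.2.2.2).elim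
  · obtain ⟨p1, p2, p3, b1, b2⟩ := p
    obtain ⟨rfl, rfl, rfl⟩ := h
    refine ⟨b1, b2, fun a => ?_⟩
    have hz := List.all_eq_true.1 (List.all_eq_true.1 (List.all_eq_true.1 zCode_eq _ (List.mem_range.2 a.code.isLt))
      b1 (by cases b1 <;> decide)) b2 (by cases b2 <;> decide)
    rw [hp a, beq_iff_eq.1 hz]

omit [Finite G] in
theorem tangent_aux {p : Pat} (hp : ∀ a : Mdl, IsConj S.z (S.e a) ↔ omCode p a.code.val = true) {m : ℕ}
    {hm : maskOK m = true}
    (hfu : ∀ {g x : G}, x ∈ (maskSub m hm).map S.e → g * x * g⁻¹ ∈ (maskSub m hm).map S.e →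
      ∃ h : G, (∀ r, r ∈ (maskSub m hm).map S.e ↔ h * r * h⁻¹ ∈ (maskSub m hm).map S.e) ∧
        h * x * h⁻¹ = g * x * g⁻¹)
    {l t x y : ℕ} (hlt : ∀ n ∈ [l, x, y], n < 1024 ∧ inMask m n = true) (h8 : inMask m 8 = true)
    (hl : omCode p l = true)
    (hxy : omCode p x = true ∧ omCode p y = true ∧ omCode p (mulN x l) = true ∧ omCode p (mulN y l) = true)
    (ht : mulN x y = t)
    (hQ : ((maskList m).all fun a => !(omCode p a && omCode p (mulN a 8)) || inMask mQ a) = true) :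
    ∃ h : G, (∀ r, r ∈ (maskSub m hm).map S.e ↔ h * r * h⁻¹ ∈ (maskSub m hm).map S.e) ∧
      h * S.e (ofN l) * h⁻¹ = S.z ∧ h * S.e (ofN t) * h⁻¹ ∈ S.Q := by
  obtain ⟨⟨l1, l2⟩, ⟨x1, x2⟩, ⟨y1, y2⟩⟩ : (l < 1024 ∧ inMask m l = true) ∧ (x < 1024 ∧ inMask m x = true) ∧
      (y < 1024 ∧ inMask m y = true) := ⟨hlt l (by simp), hlt x (by simp), hlt y (by simp)⟩
  obtain ⟨g, hg⟩ := isConj_iff.1 ((hp (ofN l)).2 (by rw [ofN_code l1]; exact hl)).symm
  obtain ⟨h, hA, hh⟩ := hfu (g := g) (S.mem_map_iff.2 (ofN_mem (hm := hm) l1 l2))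
    (by rw [hg]; exact S.mem_map_iff.2 (show inMask m zM.code.val = true from h8))
  rw [hg] at hh
  have inQ : ∀ n, n < 1024 → inMask m n = true → omCode p n = true → omCode p (mulN n l) = true →
      h * S.e (ofN n) * h⁻¹ ∈ S.Q := by
    intro n n1 n2 o1 o2
    obtain ⟨a', ha', he⟩ := S.mem_e.1 ((hA _).1 (S.mem_map_iff.2 (ofN_mem (hm := hm) n1 n2)))
    have c1 := (hp a').1 (((hp (ofN n)).2 (by rw [ofN_code n1]; exact o1)).trans (isConj_iff.2 ⟨h, he.symm⟩))
    have c2 := (hp (a' * zM)).1 (((hp (ofN n * ofN l)).2 (by rw [code_mul, ofN_code n1, ofN_code l1]; exact o2)).trans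
      (isConj_iff.2 ⟨h, by rw [map_mul, map_mul, he, show S.e zM = S.z from rfl, ← hh]; group⟩))
    have hq := List.all_eq_true.1 hQ _ (mem_maskList ha')
    rw [code_mul] at c2
    change omCode p (mulN a'.code.val 8) = true at c2
    rw [c1, c2, Bool.and_self, Bool.not_true, Bool.false_or] at hq
    rw [← he]
    exact S.mem_map_iff.2 (show inMask mQ a'.code.val = true from hq)
  refine ⟨h, hA, hh, ?_⟩
  have e : ofN t = ofN x * ofN y := code_inj.1 (by
    rw [code_mul, ofN_code x1, ofN_code y1, ht, ofN_code (ht ▸ mulN_lt x1 y1)])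
  rw [e, map_mul, show h * (S.e (ofN x) * S.e (ofN y)) * h⁻¹ =
    (h * S.e (ofN x) * h⁻¹) * (h * S.e (ofN y) * h⁻¹) by group]
  exact mul_mem (inQ x x1 x2 hxy.1 hxy.2.2.1) (inQ y y1 y2 hxy.2.1 hxy.2.2.2)

/-- Without the class of 13+24 (or 24+35) an element of N(A2) (or N(A3)) moves it into Q. -/
theorem tangent (b1 b2 : Bool) (hZ : ∀ a : Mdl, IsConj S.z (S.e a) ↔ zCode b1 b2 a.code.val = true) :
    (b1 = false → ∃ h : G, (∀ x, x ∈ S.A2 ↔ h * x * h⁻¹ ∈ S.A2) ∧ h * S.e (ofN 4) * h⁻¹ = S.z ∧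
      h * S.e (ofN 34) * h⁻¹ ∈ S.Q) ∧
    (b2 = false → ∃ h : G, (∀ x, x ∈ S.A3 ↔ h * x * h⁻¹ ∈ S.A3) ∧ h * S.e (ofN 64) * h⁻¹ = S.z ∧
      h * S.e (ofN 288) * h⁻¹ ∈ S.Q) := by
  have hp : ∀ a : Mdl, IsConj S.z (S.e a) ↔ omCode (true, true, true, b1, b2) a.code.val = true := fun a => by
    have hz := List.all_eq_true.1 (List.all_eq_true.1 (List.all_eq_true.1 zCode_eq _ (List.mem_range.2 a.code.isLt))
      b1 (by cases b1 <;> decide)) b2 (by cases b2 <;> decide)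
    rw [hZ a, beq_iff_eq.1 hz]
  obtain ⟨hs, ht2, ht3⟩ := tangent_split
  refine ⟨?_, ?_⟩ <;> rintro rfl
  · have hs := List.all_eq_true.1 hs b2 (by cases b2 <;> decide)
    have hQ := List.all_eq_true.1 tangent_Q b2 (by cases b2 <;> decide)
    simp only [Bool.and_eq_true] at hs hQ
    exact S.tangent_aux hp (hm := maskOK_all.1) S.fusion_A2 (l := 4) (x := 2) (y := 32) (by decide) (by decide)
      (by cases b2 <;> decide +kernel)
      ⟨hs.1.1.1.1.1.1.1, hs.1.1.1.1.1.1.2, hs.1.1.1.1.1.2, hs.1.1.1.1.2⟩ ht2 hQ.1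
  · have hs := List.all_eq_true.1 hs b1 (by cases b1 <;> decide)
    have hQ := List.all_eq_true.1 tangent_Q b1 (by cases b1 <;> decide)
    simp only [Bool.and_eq_true] at hs hQ
    exact S.tangent_aux hp (hm := maskOK_all.2.1) S.fusion_A3 (l := 64) (x := 32) (y := 256) (by decide) (by decide)
      (by cases b1 <;> decide +kernel)
      ⟨hs.1.1.1.2, hs.1.1.2, hs.1.2, hs.2⟩ ht3 hQ.2

end Setting

end Cfsg.Lib.LFiveType
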