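import Cfsg.Agent.LFiveType.FactsCent

/-!
# Finite facts about Q: normality, shifts into the coset of 24, data of the three lines
-/

set_option autoImplicit false
set_option maxRecDepth 100000

namespace Cfsg.Lib.LFiveType

theorem shift_ok : ((List.range 1024).all fun n => !Nat.beq (n &&& 176) 32 || inMask mQ (mulN n 32)) = true := by
  decide +kernel

theorem lines_fixed : (span3 2 64).all (fun c => Nat.beq (bz (cmN 32 c)) 0) = true ∧
    (span3 6 64).all (fun c => Nat.beq (bz (cmN 32 c)) 0) = true := by decide +kernel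

theorem mid_data : inMask mQ 4 = true ∧ inMask mQ 64 = true ∧ inMask mQ 2 = true ∧ inMask mQ 256 = true ∧
    inMask mQ 512 = true ∧ inMask mQ 6 = true ∧ inMask mQ 768 = true ∧ inMask mQ 1 = true ∧
    ((∀ c ∈ [2, 256], cmN c 4 = 0 ∧ cmN c 64 = 0 ∧ mulN c c = 0) ∧
    (∀ c ∈ [4, 512], cmN c 2 = 0 ∧ cmN c 64 = 0 ∧ mulN c c = 0) ∧
    (∀ c ∈ [4, 768], cmN c 6 = 0 ∧ cmN c 64 = 0 ∧ mulN c c = 0)) := by decide +kernel

theorem QM_normal_ok : ((List.range 1024).all fun g => (maskList mQ).all fun q =>
    inMask mQ (mulN (mulN g q) (invN g))) = true := by decide +kernel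

theorem QM_normal (g : Mdl) {q : Mdl} (hq : inMask mQ q.code.val = true) :
    inMask mQ (g * q * g⁻¹).code.val = true := by
  rw [code_mul, code_mul, code_inv]
  exact List.all_eq_true.1 (List.all_eq_true.1 QM_normal_ok _ (List.mem_range.2 g.code.isLt)) _ (maskList_mem' hq)
where
  maskList_mem' {a : Mdl} (h : inMask mQ a.code.val = true) : a.code.val ∈ maskList mQ :=
    List.mem_filter.2 ⟨List.mem_range.2 a.code.isLt, h⟩

theorem self_codes : ∀ q ∈ [1, 2, 4, 64, 256, 512], inMask mQ q = true := by decide +kernel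

end Cfsg.Lib.LFiveType
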