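import Cfsg.Agent.LFiveType.HatBasic
import Cfsg.Agent.LFiveType.FactsQ
import Cfsg.Agent.Goldschmidt.Final
import Cfsg.Agent.Ree.Field.Final
import Cfsg.Agent.Goldschmidt.Consequences.ThmA.Thm
import Cfsg.Agent.InvolCalc.ZStarApps
import Cfsg.Agent.InvolCalc.Classes
import Cfsg.Agent.TwoFusion.Product.Split
import Cfsg.Agent.Components.Cores

/-!
# In the centraliser modulo its odd core Q is normal and contains its centraliser
-/

set_option autoImplicit false
set_option linter.unusedSectionVars false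
set_option linter.style.haveILetI false
set_option maxRecDepth 100000

namespace Cfsg.Lib.LFiveType

open Subgroup

namespace Hat

universe u

variable {H : Type u} [Group H] [Finite H] (S : Hat H)

theorem z_order : orderOf S.z = 2 := orderOf_eq_prime (by rw [pow_two, S.zz]) S.toSetting.z_ne_one

theorem card_zpowers_z : Nat.card (zpowers S.z) = 2 := by rw [Nat.card_zpowers, S.z_order]

theorem Zs_normal : (zpowers S.z).Normal := ⟨fun x hx g => by
  obtain ⟨i, rfl⟩ := mem_zpowers_iff.1 hx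
  have : Commute g (S.z ^ i) := (show Commute g S.z from S.z_comm g).zpow_right i
  rw [this.eq, mul_inv_cancel_right]
  exact zpow_mem (mem_zpowers _) _⟩

theorem mem_Zs {x : H} : x ∈ zpowers S.z ↔ S.Eqz 1 x := by
  constructor
  · intro h
    obtain ⟨i, rfl⟩ := mem_zpowers_iff.1 h
    rcases Int.even_or_odd i with ⟨k, rfl⟩ | ⟨k, rfl⟩
    · exact Or.inl (by rw [zpow_add, ← (Commute.refl S.z).mul_zpow, S.zz, one_zpow])
    · exact Or.inr (by rw [zpow_add_one, two_mul, zpow_add, ← (Commute.refl S.z).mul_zpow, S.zz, one_zpow])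
  · rintro (h | h) <;> rw [h]
    · exact one_mem _
    · rw [one_mul]; exact mem_zpowers _

include S in
theorem core_bot (N : Subgroup H) [hN : N.Normal] : Cfsg.pPrimeCore 2 ↥N = ⊥ := by
  haveI : (Cfsg.pPrimeCore 2 ↥N).Characteristic := Cfsg.Lib.Components.pPrimeCore_characteristic
  refine (map_eq_bot_iff_of_injective _ N.subtype_injective).1 (S.odd_free _ inferInstance ?_)
  rw [card_map_of_injective N.subtype_injective]
  exact Cfsg.Lib.ZStarApps.odd_card_pPrimeCore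

/-- A normal subgroup in which the centre is a Sylow subgroup is the centre. -/
theorem eq_Zs (N : Subgroup H) [hN : N.Normal] (hz : zpowers S.z ≤ N) (hodd : Odd ((zpowers S.z).relIndex N)) :
    N = zpowers S.z := by
  haveI : Fact (Nat.Prime 2) := ⟨Nat.prime_two⟩
  set Z' := (zpowers S.z).subgroupOf N with hZ'
  have hp : IsPGroup 2 Z' := IsPGroup.of_card (n := 1)
    (by rw [Nat.card_congr (subgroupOfEquivOfLe hz).toEquiv, S.card_zpowers_z, pow_one])
  let P : Sylow 2 N := hp.toSylow (by rw [← relIndex]; exact hodd.not_two_dvd_nat)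
  have hP : normalizer ((P : Subgroup N) : Set N) ≤ centralizer ((P : Subgroup N) : Set N) := by
    intro n _
    refine mem_centralizer_iff.2 fun p hp => Subtype.ext ?_
    obtain ⟨i, hi⟩ := mem_zpowers_iff.1 (mem_subgroupOf.1 hp)
    show (p : H) * n = n * p
    rw [← hi]
    exact ((show Commute (n : H) S.z from S.z_comm n).zpow_right i).symm
  have hcomp := MonoidHom.ker_transferSylow_isComplement' P hP
  have hk : Odd (Nat.card (MonoidHom.transferSylow P hP).ker) :=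
    Nat.not_even_iff_odd.1 fun h => MonoidHom.not_dvd_card_ker_transferSylow P hP (even_iff_two_dvd.1 h)
  have hle : (MonoidHom.transferSylow P hP).ker = ⊥ := le_bot_iff.1 (S.core_bot N ▸
    Cfsg.Lib.Components.le_pPrimeCore (Nat.coprime_two_right.2 hk))
  refine le_antisymm (fun x hx => ?_) hz
  have htop : (P : Subgroup N) = ⊤ := by
    have := hcomp.sup_eq_top
    rwa [hle, bot_sup_eq] at this
  have hxP : (⟨x, hx⟩ : N) ∈ (P : Subgroup N) := htop ▸ mem_top _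
  exact mem_subgroupOf.1 hxP

variable {t u v : ℕ}

/-- Commutators with an involution lie on its line. -/
theorem line_mem {xu xv : ℕ} (hl : lineChk t u v xu xv = true) (ht : t < 1024) {x : H} (hx : x ∈ S.Q) :
    ∃ c : Mdl, (span3 u v).contains c.code.val = true ∧ S.e c = x * S.e (ofN t) * x⁻¹ * (S.e (ofN t))⁻¹ := by
  obtain ⟨a, ha, rfl⟩ := S.exists_Q hx
  refine ⟨a * ofN t * a⁻¹ * (ofN t)⁻¹, ?_, by simp only [map_mul, map_inv]⟩
  rw [code_comm]
  simp only [lineChk, Bool.and_eq_true, List.all_eq_true] at hl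
  rw [ofN_code ht]
  exact hl.1.1.1.1.1.1 _ (maskList_mem ha)

theorem L_conj_Q {g x : H} (hg : g ∈ S.L) (hx : x ∈ S.Q) : g * x * g⁻¹ ∈ S.Q := S.eqz_mem_Q hx (hg x hx)

theorem L_comm {l y : H} (hl : l ∈ S.L) (hy : y ∈ S.Q) : S.Eqz 1 (y * l * y⁻¹ * l⁻¹) := by
  have h := (hl _ (inv_mem hy)).conj y
  rw [show y * y⁻¹ * y⁻¹ = y⁻¹ by group, show y * (l * y⁻¹ * l⁻¹) * y⁻¹ = y * l * y⁻¹ * l⁻¹ * y⁻¹ by group] at h
  have h2 := h.mul (Eqz.refl (S := S) y)
  rwa [inv_mul_cancel, inv_mul_cancel_right] at h2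

/-- An element normalising Q and commuting with an involution modulo L maps its line to itself. -/
theorem line_img {xu xv : ℕ} (hl : lineChk t u v xu xv = true) {g : H} (hg : ∀ x ∈ S.Q, g * x * g⁻¹ ∈ S.Q)
    (hc : g * S.e (ofN t) * g⁻¹ * (S.e (ofN t))⁻¹ ∈ S.L) {w xw : ℕ}
    (hw : Nat.beq (bz (cmN xw t)) (bz w) = true) (hxw : inMask mQ xw = true) (hwQ : inMask mQ w = true)
    (ht : t < 1024) :
    ∃ c : Mdl, (span3 u v).contains c.code.val = true ∧ S.Eqz (S.e c) (g * S.e (ofN w) * g⁻¹) := by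
  set T := S.e (ofN t) with hT
  set X := S.e (ofN xw) with hX
  have hXQ : X ∈ S.Q := S.mem_Q.2 (by rw [ofN_code (mem_maskQ_lt hxw)]; exact hxw)
  set l := g * T * g⁻¹ * T⁻¹ with hlv
  set y := g * X * g⁻¹ with hy
  have hyQ : y ∈ S.Q := hg X hXQ
  obtain ⟨c, hc', hce⟩ := S.line_mem hl ht hyQ
  have e1 : S.Eqz (X * T * X⁻¹ * T⁻¹) (S.e (ofN w)) := by
    rw [hX, hT, ← map_mul, ← map_inv, ← map_mul, ← map_inv, ← map_mul, S.eqz_e, code_comm,
      ofN_code (mem_maskQ_lt hxw), ofN_code ht, ofN_code (mem_maskQ_lt hwQ)]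
    exact Nat.eq_of_beq_eq_true hw
  refine ⟨c, hc', ?_⟩
  have hcQ : S.e c ∈ S.Q := by
    rw [hce, show y * T * y⁻¹ * T⁻¹ = y * (T * y⁻¹ * T⁻¹) by group]
    refine mul_mem hyQ ?_
    obtain ⟨a, ha, e⟩ := S.exists_Q hyQ
    rw [← e, hT, ← map_inv, ← map_mul, ← map_inv, ← map_mul, S.mem_Q]
    exact QM_normal (ofN t) (QM.inv_mem (show a ∈ QM from ha))
  have e2 : g * (X * T * X⁻¹ * T⁻¹) * g⁻¹ = y * l * y⁻¹ * l⁻¹ * (l * S.e c * l⁻¹) := by
    rw [hce, ← hT, hlv, hy]; group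
  have e3 : S.Eqz (S.e c) (g * (X * T * X⁻¹ * T⁻¹) * g⁻¹) := by
    rw [e2]
    have := (S.L_comm hc hyQ).mul (hc _ hcQ)
    rwa [one_mul] at this
  exact e3.trans (e1.conj g)

theorem conj_mem_Q_of_finite {g : H} (hg : ∀ x ∈ S.Q, g * x * g⁻¹ ∈ S.Q) :
    g ∈ normalizer (S.Q : Set H) := Cfsg.Lib.ZStarApps.mem_normalizer_of_maps hg

/-- Elements of `span3` are named by the line. -/
theorem span_fixed {k : H} {p q : ℕ} (hp : inMask mQ p = true) (hq : inMask mQ q = true)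
    (hfix : (span3 p q).all (fun c => Nat.beq (bz (cmN 32 c)) 0) = true) {c : Mdl}
    (hc : (span3 p q).contains c.code.val = true) (hk : k = S.e (ofN 32)) :
    S.Eqz (S.e c) (k * S.e c * k⁻¹) := by
  have h := Nat.eq_of_beq_eq_true (List.all_eq_true.1 hfix c.code.val (by simpa using hc))
  have h1 : S.Eqz 1 (k * S.e c * k⁻¹ * (S.e c)⁻¹) := by
    rw [hk, ← map_inv, ← map_inv, ← map_mul, ← map_mul, ← map_mul, ← map_one S.e, S.eqz_e, code_comm,
      ofN_code (show 32 < 1024 by norm_num), h]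
    rfl
  have h2 := h1.mul (Eqz.refl (S := S) (S.e c))
  rwa [one_mul, inv_mul_cancel_right] at h2

/-- The odd elements commuting with 24 fix the line of 24. -/
theorem mem_L_24 {g : H} (hg : ∀ x ∈ S.Q, g * x * g⁻¹ ∈ S.Q)
    (hc : g * S.e (ofN 32) * g⁻¹ * (S.e (ofN 32))⁻¹ ∈ S.L) {n : ℕ} (hn : Odd n) (hgn : g ^ n ∈ S.L) : g ∈ S.L := by
  obtain ⟨hl, -, -, -, -, -⟩ := line_ok
  obtain ⟨m4, m64, m2, m256, m512, -, -, m1, hab, -, -⟩ := mid_data
  have hl' := hl
  simp only [lineChk, Bool.and_eq_true] at hl'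
  have fix : ∀ {w xw : ℕ}, Nat.beq (bz (cmN xw 32)) (bz w) = true → inMask mQ xw = true → inMask mQ w = true →
      (span3 4 64).contains w = true → S.Eqz (S.e (ofN w)) (g * S.e (ofN w) * g⁻¹) := by
    intro w xw hw hxw hwQ hwl
    obtain ⟨c, hc', hce⟩ := S.line_img hl hg hc hw hxw hwQ (by norm_num)
    refine Eqz.trans ?_ hce
    rcases hce with h | h
    · exact S.eqz_e.2 (S.line_fusion g _ c (by rwa [ofN_code (mem_maskQ_lt hwQ)]) hc' h)
    · have hcz : (span3 4 64).contains (c * zM).code.val = true := by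
        have cl : ∀ x ∈ span3 4 64, x ^^^ 8 ∈ span3 4 64 := by decide +kernel
        rw [code_mul_z]
        simpa using cl _ (by simpa using hc')
      have := S.line_fusion g _ _ (by rwa [ofN_code (mem_maskQ_lt hwQ)]) hcz (by rw [h, Setting.z, map_mul])
      exact (S.eqz_e.2 this).trans (Eqz.symm (Or.inr (by rw [Setting.z, map_mul])))
  refine S.mem_L_of_line perp_ok.1 m4 m64 m2 m256 (fun {c} hc => hab c ?_) hg hn hgn ?_ ?_
  · rcases hc with rfl | rfl <;> simp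
  · exact fix hl'.1.1.1.1.1.2 hl'.1.1.1.2 m4 rfl
  · exact fix hl'.1.1.1.1.2 hl'.1.1.2 m64 rfl

/-- The odd elements commuting with an involution above Q and inverted by 24 fix its line. -/
theorem mem_L_inverted {t p xu xv a b : ℕ} (ht : t < 1024) (hl : lineChk t p 64 xu xv = true)
    (hchk : perpChk p 64 a b = true) (hp : inMask mQ p = true) (ha : inMask mQ a = true) (hb : inMask mQ b = true)
    (hab : ∀ c ∈ [a, b], cmN c p = 0 ∧ cmN c 64 = 0 ∧ mulN c c = 0)
    (hfix : (span3 p 64).all (fun c => Nat.beq (bz (cmN 32 c)) 0) = true)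
    {g : H} (hg : ∀ x ∈ S.Q, g * x * g⁻¹ ∈ S.Q) (hc : g * S.e (ofN t) * g⁻¹ * (S.e (ofN t))⁻¹ ∈ S.L)
    (hinv : S.e (ofN 32) * g * (S.e (ofN 32))⁻¹ * g ∈ S.L) {n : ℕ} (hn : Odd n) (hgn : g ^ n ∈ S.L) : g ∈ S.L := by
  set T := S.e (ofN 32) with hT
  have m64 := mid_data.2.1
  have hl' := hl
  simp only [lineChk, Bool.and_eq_true] at hl'
  have fix : ∀ {w xw : ℕ}, Nat.beq (bz (cmN xw t)) (bz w) = true → inMask mQ xw = true → inMask mQ w = true →
      (span3 p 64).contains w = true → S.Eqz (S.e (ofN w)) (g * S.e (ofN w) * g⁻¹) := by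
    intro w xw hw hxw hwQ hwl
    set U := S.e (ofN w) with hU
    have hUQ : U ∈ S.Q := S.mem_Q.2 (by rw [ofN_code (mem_maskQ_lt hwQ)]; exact hwQ)
    obtain ⟨c, hc', hce⟩ := S.line_img hl hg hc hw hxw hwQ ht
    have f1 : S.Eqz U (T * U * T⁻¹) := S.span_fixed hp m64 hfix (by rwa [ofN_code (mem_maskQ_lt hwQ)]) rfl
    have f2 : S.Eqz (g * U * g⁻¹) (T * (g * U * g⁻¹) * T⁻¹) :=
      hce.symm.trans ((S.span_fixed hp m64 hfix hc' rfl).trans (hce.conj T))
    have gi : g⁻¹ * U * g ∈ S.Q := by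
      have := (mem_normalizer_iff.1 (inv_mem (S.conj_mem_Q_of_finite hg)) U).1 hUQ
      rwa [inv_inv] at this
    have e1 : T * (g * U * g⁻¹) * T⁻¹ =
        T * g * T⁻¹ * g * (g⁻¹ * (T * U * T⁻¹) * g) * (T * g * T⁻¹ * g)⁻¹ := by group
    have e2 : S.Eqz (g⁻¹ * U * g) (T * (g * U * g⁻¹) * T⁻¹) := by
      rw [e1]
      refine (hinv _ gi).trans ?_
      have := (f1.conj g⁻¹).conj (T * g * T⁻¹ * g)
      rwa [inv_inv] at this
    have e3 : S.Eqz U (g * g * U * (g * g)⁻¹) := by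
      have := (e2.trans f2.symm).conj g
      rwa [show g * (g⁻¹ * U * g) * g⁻¹ = U by group, show g * (g * U * g⁻¹) * g⁻¹ = g * g * U * (g * g)⁻¹ by group]
        at this
    -- g is in the subgroup generated by its square and its odd power
    obtain ⟨m, rfl⟩ := hn
    have hn' : S.Eqz U (g ^ (2 * m + 1) * U * (g ^ (2 * m + 1))⁻¹) := hgn U hUQ
    have he : ∀ k : ℕ, S.Eqz U ((g * g) ^ k * U * ((g * g) ^ k)⁻¹) := by
      intro k
      induction k with
      | zero => simp [Eqz.refl]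
      | succ k ih =>
        have := e3.trans (ih.conj (g * g))
        rwa [pow_succ', mul_inv_rev, mul_assoc (g * g), mul_assoc (g * g), ← mul_assoc ((g * g) ^ k * U),
          ← mul_assoc (g * g)]
    have hm := (he m).conj g
    rw [show g * ((g * g) ^ m * U * ((g * g) ^ m)⁻¹) * g⁻¹ = g * (g * g) ^ m * U * (g * (g * g) ^ m)⁻¹ by group,
      show g * (g * g) ^ m = g ^ (2 * m + 1) by rw [← pow_two, ← pow_mul, ← pow_succ']] at hm
    exact hn'.trans hm.symm
  refine S.mem_L_of_line hchk hp m64 ha hb (fun {c} hc => hab c ?_) hg ⟨_, hn.choose_spec⟩ hgn ?_ ?_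
  · rcases hc with rfl | rfl <;> simp
  · exact fix hl'.1.1.1.1.1.2 hl'.1.1.1.2 hp (by simp [span3])
  · exact fix hl'.1.1.1.1.2 hl'.1.1.2 m64 (by simp [span3])

/-- An element of an odd normal subgroup of the normaliser of Q lies in L. -/
theorem core_le_L {K' : Subgroup H} [hK : K'.Normal] (hQK : S.Q ≤ K') (hodd : Odd (S.Q.relIndex K')) {g : H}
    (hgK : g ∈ K') (hg : ∀ x ∈ S.Q, g * x * g⁻¹ ∈ S.Q) : g ∈ S.L := by
  classical
  set Y := normalizer (S.Q : Set H) with hY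
  have hgY : g ∈ Y := S.conj_mem_Q_of_finite hg
  have hQY : S.Q ≤ Y := le_normalizer
  have yQ : ∀ {y x : H}, y ∈ Y → x ∈ S.Q → y * x * y⁻¹ ∈ S.Q := fun hy hx => (mem_normalizer_iff.1 hy _).1 hx
  haveI hLn : (S.L.subgroupOf Y).Normal := ⟨fun l hl y => by
    rw [mem_subgroupOf] at hl ⊢
    intro x hx
    have h := (hl _ (yQ (inv_mem y.2) hx)).conj (y : H)
    simp only [Subgroup.coe_mul, Subgroup.coe_inv]
    rwa [show (y : H) * ((y : H)⁻¹ * x * (y : H)⁻¹⁻¹) * (y : H)⁻¹ = x by group,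
      show (y : H) * ((l : H) * ((y : H)⁻¹ * x * (y : H)⁻¹⁻¹) * (l : H)⁻¹) * (y : H)⁻¹ =
        (y : H) * l * (y : H)⁻¹ * x * ((y : H) * l * (y : H)⁻¹)⁻¹ by group] at h⟩
  set q := QuotientGroup.mk' (S.L.subgroupOf Y) with hq
  have qL : ∀ {y : Y}, q y = 1 ↔ (y : H) ∈ S.L := fun {y} => by
    rw [hq, QuotientGroup.mk'_apply, QuotientGroup.eq_one_iff, mem_subgroupOf]
  set M := (K'.subgroupOf Y).map q with hM
  haveI hMn : M.Normal := (normal_subgroupOf (H := Y) (N := K')).map q (QuotientGroup.mk'_surjective _)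
  have hModd : Odd (Nat.card M) := by
    have h1 : (S.L.subgroupOf Y).relIndex (K'.subgroupOf Y) ∣ (S.Q.subgroupOf Y).relIndex (K'.subgroupOf Y) :=
      relIndex_dvd_of_le_left _ (fun x hx => mem_subgroupOf.2 (S.Q_le_L (mem_subgroupOf.1 hx)))
    have h2 : (S.Q.subgroupOf Y).relIndex (K'.subgroupOf Y) = S.Q.relIndex (K' ⊓ Y) := by
      rw [← relIndex_map_map_of_injective _ _ Y.subtype_injective, subgroupOf_map_subtype, subgroupOf_map_subtype,
        inf_eq_left.2 hQY]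
    have h3 : S.Q.relIndex (K' ⊓ Y) ∣ S.Q.relIndex K' := by
      rw [← relIndex_mul_relIndex S.Q (K' ⊓ Y) K' (le_inf hQK hQY) inf_le_left]
      exact Dvd.intro _ rfl
    rw [hM, ← relIndex_ker (K'.subgroupOf Y) q, hq, QuotientGroup.ker_mk']
    exact hodd.of_dvd_nat (h1.trans (h2 ▸ h3))
  have hsyl : ∀ a : Mdl, S.e a ∈ Y := fun a => S.conj_mem_Q_of_finite fun x hx => by
    obtain ⟨c, hc, rfl⟩ := S.exists_Q hx
    rw [← map_inv, ← map_mul, ← map_mul, S.mem_Q]
    exact QM_normal a hc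
  let τ : ℕ → Y ⧸ S.L.subgroupOf Y := fun t => q ⟨S.e (ofN t), hsyl _⟩
  have τsq : ∀ {t : ℕ}, ofN t * ofN t = 1 → τ t * τ t = 1 := fun {t} h => by
    show q _ * q _ = 1
    rw [← map_mul, show (⟨S.e (ofN t), hsyl _⟩ : Y) * ⟨S.e (ofN t), hsyl _⟩ = 1 from
      Subtype.ext (by show S.e _ * S.e _ = 1; rw [← map_mul, h, map_one]), map_one]
  have invol : ofN 32 * ofN 32 = 1 ∧ ofN 16 * ofN 16 = 1 ∧ ofN (mulN 16 32) = ofN 16 * ofN 32 ∧
      mulN 16 32 < 1024 := by decide +kernel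
  have lift : ∀ {m : Y ⧸ S.L.subgroupOf Y}, m ∈ M → ∃ y : Y, q y = m ∧ ∃ n, Odd n ∧ (y : H) ^ n ∈ S.L := by
    rintro m hm
    obtain ⟨y, hy⟩ := QuotientGroup.mk'_surjective _ m
    refine ⟨y, hy, orderOf m, hModd.of_dvd_nat (Subgroup.orderOf_dvd_natCard M hm), ?_⟩
    exact (qL (y := y ^ orderOf m)).1 (by rw [map_pow, hy, pow_orderOf_eq_one])
  have yQ' : ∀ (y : Y), ∀ x ∈ S.Q, (y : H) * x * (y : H)⁻¹ ∈ S.Q := fun y x hx => yQ y.2 hx
  have comm24 : ∀ m ∈ M, τ 32 * m * (τ 32)⁻¹ = m → m = 1 := by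
    intro m hm hc
    obtain ⟨y, hy, n, hn, hyn⟩ := lift hm
    rw [← hy, qL]
    refine S.mem_L_24 (yQ' y) ?_ hn hyn
    refine (qL (y := y * ⟨S.e (ofN 32), hsyl _⟩ * y⁻¹ * ⟨S.e (ofN 32), hsyl _⟩⁻¹)).1 ?_
    rw [map_mul, map_mul, map_mul, map_inv, map_inv, hy]
    show m * τ 32 * m⁻¹ * (τ 32)⁻¹ = 1
    rw [mul_inv_eq_one, mul_inv_eq_iff_eq_mul, ← mul_inv_eq_iff_eq_mul.1 hc]
  let φ : M →* M :=
    { toFun := fun m => ⟨τ 32 * m * (τ 32)⁻¹, hMn.conj_mem _ m.2 _⟩
      map_one' := Subtype.ext (by simp)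
      map_mul' := fun a b => Subtype.ext (by simp only [Subgroup.coe_mul]; group) }
  have hfpf : MonoidHom.FixedPointFree φ := fun m hm => Subtype.ext (comm24 m m.2 (congrArg Subtype.val hm))
  have hinvol : Function.Involutive φ := fun m => Subtype.ext (by
    show τ 32 * (τ 32 * (m : Y ⧸ _) * (τ 32)⁻¹) * (τ 32)⁻¹ = (m : Y ⧸ S.L.subgroupOf Y)
    rw [show τ 32 * (τ 32 * (m : Y ⧸ S.L.subgroupOf Y) * (τ 32)⁻¹) * (τ 32)⁻¹ =
      τ 32 * τ 32 * (m : Y ⧸ S.L.subgroupOf Y) * (τ 32 * τ 32)⁻¹ by group,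
      τsq invol.1]
    group)
  have inv24 : ∀ m ∈ M, τ 32 * m * (τ 32)⁻¹ = m⁻¹ := fun m hm =>
    congrArg Subtype.val (congrFun (hfpf.coe_eq_inv_of_involutive hinvol) ⟨m, hm⟩)
  have comt : ∀ {t p xu xv a b : ℕ}, t < 1024 → lineChk t p 64 xu xv = true → perpChk p 64 a b = true →
      inMask mQ p = true → inMask mQ a = true → inMask mQ b = true →
      (∀ c ∈ [a, b], cmN c p = 0 ∧ cmN c 64 = 0 ∧ mulN c c = 0) →
      (span3 p 64).all (fun c => Nat.beq (bz (cmN 32 c)) 0) = true →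
      ∀ m ∈ M, τ t * m * (τ t)⁻¹ = m → m = 1 := by
    intro t p xu xv a b ht hl hchk hp ha hb hab hfix m hm hc
    obtain ⟨y, hy, n, hn, hyn⟩ := lift hm
    rw [← hy, qL]
    refine S.mem_L_inverted ht hl hchk hp ha hb hab hfix (yQ' y) ?_ ?_ hn hyn
    · refine (qL (y := y * ⟨S.e (ofN t), hsyl _⟩ * y⁻¹ * ⟨S.e (ofN t), hsyl _⟩⁻¹)).1 ?_
      rw [map_mul, map_mul, map_mul, map_inv, map_inv, hy]
      show m * τ t * m⁻¹ * (τ t)⁻¹ = 1
      rw [mul_inv_eq_one, mul_inv_eq_iff_eq_mul, ← mul_inv_eq_iff_eq_mul.1 hc]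
    · refine (qL (y := ⟨S.e (ofN 32), hsyl _⟩ * y * ⟨S.e (ofN 32), hsyl _⟩⁻¹ * y)).1 ?_
      rw [map_mul, map_mul, map_mul, map_inv, hy]
      show τ 32 * m * (τ 32)⁻¹ * m = 1
      rw [inv24 m hm, inv_mul_cancel]
  obtain ⟨-, m64, m2, -, m512, m6, m768, -, -, hab23, hab48⟩ := mid_data
  have m4 := mid_data.1
  have c23 := comt (by norm_num) line_ok.2.1 perp_ok.2.1 m2 m4 m512 hab23 lines_fixed.1
  have c48 := comt invol.2.2.2 line_ok.2.2.1 perp_ok.2.2 m6 m4 m768 hab48 lines_fixed.2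
  have main : ∀ m ∈ M, m = 1 := by
    intro m hm
    have i23 : τ 16 * m * (τ 16)⁻¹ = m⁻¹ := by
      have hm' : τ 16 * m * (τ 16)⁻¹ ∈ M := hMn.conj_mem _ hm _
      have hcomm := hfpf.commute_all_of_involutive hinvol ⟨_, hm⟩ ⟨_, hm'⟩
      have hc : m * (τ 16 * m * (τ 16)⁻¹) = τ 16 * m * (τ 16)⁻¹ * m := congrArg Subtype.val hcomm.eq
      refine (eq_inv_of_mul_eq_one_right ?_)
      refine c23 _ (mul_mem hm hm') ?_
      rw [show τ 16 * (m * (τ 16 * m * (τ 16)⁻¹)) * (τ 16)⁻¹ =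
        τ 16 * m * (τ 16)⁻¹ * (τ 16 * τ 16 * m * (τ 16 * τ 16)⁻¹) by group, τsq invol.2.1, one_mul, inv_one, mul_one,
        hc]
    refine c48 m hm ?_
    have e : τ (mulN 16 32) = τ 16 * τ 32 := by
      show q _ = q _ * q _
      rw [← map_mul]
      exact congrArg q (Subtype.ext (by show S.e _ = S.e _ * S.e _; rw [invol.2.2.1, map_mul]))
    rw [e, show τ 16 * τ 32 * m * (τ 16 * τ 32)⁻¹ = τ 16 * (τ 32 * m * (τ 32)⁻¹) * (τ 16)⁻¹ by group, inv24 m hm,
      show τ 16 * m⁻¹ * (τ 16)⁻¹ = (τ 16 * m * (τ 16)⁻¹)⁻¹ by group, i23, inv_inv]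
  exact (qL (y := (⟨g, hgY⟩ : Y))).1 (main _ ⟨⟨g, hgY⟩, mem_subgroupOf.2 hgK, rfl⟩)

theorem syl_code {g : H} (h : g ∈ (S.syl : Subgroup H)) : ∃ a : Mdl, S.e a = g := S.toSetting.exists_code h

theorem z_syl : S.z ∈ (S.syl : Subgroup H) := S.toSetting.e_mem zM

/-- Q is normal. -/
theorem Q_normal : S.Q.Normal := by
  classical
  haveI : Fact (Nat.Prime 2) := ⟨Nat.prime_two⟩
  haveI := S.Zs_normal
  set Zs := zpowers S.z with hZs
  set π := QuotientGroup.mk' Zs with hπ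
  have hπs : Function.Surjective π := QuotientGroup.mk'_surjective _
  have hker : π.ker = Zs := QuotientGroup.ker_mk' Zs
  have hπ1 : ∀ {x y : H}, π x = π y ↔ S.Eqz x y := fun {x y} => by
    rw [hπ, QuotientGroup.mk'_apply, QuotientGroup.mk'_apply, QuotientGroup.eq, S.mem_Zs]
    constructor
    · intro h
      have := (Eqz.refl (S := S) x).mul h
      rwa [mul_one, mul_inv_cancel_left] at this
    · intro h
      have := (Eqz.refl (S := S) x⁻¹).mul h
      rwa [inv_mul_cancel] at this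
  set P := S.syl.mapSurjective hπs with hP
  set A := S.Q.map π with hA
  have hZP : ∀ {x y : H}, x ∈ (S.syl : Subgroup H) → S.Eqz x y → y ∈ (S.syl : Subgroup H) := by
    rintro x y hx (rfl | rfl)
    exacts [hx, mul_mem hx S.z_syl]
  have memP : ∀ {x : H}, π x ∈ (P : Subgroup (H ⧸ Zs)) ↔ x ∈ (S.syl : Subgroup H) := fun {x} => by
    refine ⟨?_, fun h => ⟨x, h, rfl⟩⟩
    rintro ⟨y, hy, hyx⟩
    exact hZP hy (hπ1.1 hyx)
  have memA : ∀ {x : H}, π x ∈ A ↔ x ∈ S.Q := fun {x} => by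
    refine ⟨?_, fun h => ⟨x, h, rfl⟩⟩
    rintro ⟨y, hy, hyx⟩
    exact S.eqz_mem_Q hy (hπ1.1 hyx)
  have hsc : Cfsg.IsStronglyClosed A (P : Subgroup (H ⧸ Zs)) := by
    refine ⟨?_, ?_⟩
    · rintro _ ⟨x, hx, rfl⟩
      exact memP.2 (S.toSetting.map_le_syl _ hx)
    · rintro _ ⟨x, hx, rfl⟩ g hg
      obtain ⟨h, rfl⟩ := hπs g
      rw [← map_inv, ← map_mul, ← map_mul] at hg ⊢
      obtain ⟨c, hc, rfl⟩ := S.exists_Q hx
      obtain ⟨r, hr, e⟩ := S.Q_closed h c hc (memP.1 hg)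
      rw [← e]
      exact memA.2 (S.mem_Q.2 hr)
  have hcomm : IsMulCommutative A := ⟨⟨fun a b => Subtype.ext (by
    obtain ⟨x, hx, hxa⟩ := a.2
    obtain ⟨y, hy, hyb⟩ := b.2
    show (a : H ⧸ Zs) * b = b * a
    rw [← hxa, ← hyb, ← map_mul, ← map_mul, hπ1]
    obtain ⟨c, hc, rfl⟩ := S.exists_Q hx
    obtain ⟨d, hd, rfl⟩ := S.exists_Q hy
    have := ((S.Q_facts hd hc).2).mul (Eqz.refl (S := S) (S.e c * S.e d))
    rwa [one_mul, show S.e d * S.e c * (S.e d)⁻¹ * (S.e c)⁻¹ * (S.e c * S.e d) = S.e d * S.e c by group] at this)⟩⟩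
  -- no odd normal subgroups
  have hodd : ∀ N : Subgroup (H ⧸ Zs), N.Normal → Odd (Nat.card N) → N = ⊥ := by
    intro N hN hNo
    haveI := hN
    have hz : Zs ≤ N.comap π := fun x hx => by
      show π x ∈ N
      rw [show π x = 1 from (QuotientGroup.eq_one_iff x).2 hx]
      exact one_mem N
    have hN' : (N.comap π).map π = N := map_comap_eq_self_of_surjective hπs N
    have e := S.eq_Zs (N.comap π) hz (by
      rw [show zpowers S.z = π.ker from hker.symm, relIndex_ker, hN']; exact hNo)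
    rw [← hN', e, Subgroup.map_eq_bot_iff, hker]
  set K := normalClosure (A : Set (H ⧸ Zs)) with hK
  haveI : K.Normal := normalClosure_normal
  have hAK : A ≤ K := le_normalClosure
  have hKcore : Cfsg.pPrimeCore 2 K = ⊥ := by
    haveI : (Cfsg.pPrimeCore 2 K).Characteristic := Cfsg.Lib.Components.pPrimeCore_characteristic
    refine (map_eq_bot_iff_of_injective _ K.subtype_injective).1 (hodd _ inferInstance ?_)
    rw [card_map_of_injective K.subtype_injective]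
    exact Cfsg.Lib.ZStarApps.odd_card_pPrimeCore
  obtain ⟨-, -, ⟨T, hAT, hTeq⟩, -⟩ := Cfsg.Lib.Goldschmidt.ThmA.closure_structure Cfsg.Lib.Goldschmidt.goldProp
    Cfsg.Lib.Ree.Field.noFieldProp P A hcomm hsc K hK K (MonoidHom.id K) Function.surjective_id
    (by rw [hKcore]; exact (MonoidHom.ker_eq_bot_iff _).2 fun _ _ h => h)
  rw [Subgroup.map_id] at hAT hTeq
  have hinvK : ∀ x : H ⧸ Zs, x ∈ K → x ∈ (P : Subgroup (H ⧸ Zs)) → x * x = 1 → x ∈ A := by
    intro x hxK hxP hx2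
    set k : K := ⟨x, hxK⟩
    have hp : IsPGroup 2 (zpowers k) := by
      rintro ⟨_, i, rfl⟩
      refine ⟨1, Subtype.ext ?_⟩
      show (k ^ i) ^ (2 ^ 1) = 1
      rw [pow_one, ← zpow_natCast, ← zpow_mul, mul_comm, zpow_mul, zpow_natCast, pow_two,
        show k * k = 1 from Subtype.ext hx2, one_zpow]
    obtain ⟨a, ha⟩ := Cfsg.Lib.InvolCalc.exists_conj_le T hp
    have h1 : a⁻¹ * k * a ∈ Cfsg.omegaOne 2 (T : Subgroup K) := subset_closure ⟨ha k (mem_zpowers k), by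
      rw [pow_two, show a⁻¹ * k * a * (a⁻¹ * k * a) = a⁻¹ * (k * k) * a by group,
        show k * k = 1 from Subtype.ext hx2, mul_one, inv_mul_cancel]⟩
    have h2 : a⁻¹ * k * a ∈ A.subgroupOf K := by rw [hTeq]; exact mem_sup_right h1
    have := hsc.2 _ (mem_subgroupOf.1 h2) (a : H ⧸ Zs) (by
      simp only [Subgroup.coe_mul, Subgroup.coe_inv]
      rwa [show (a : H ⧸ Zs) * ((a : H ⧸ Zs)⁻¹ * x * a) * (a : H ⧸ Zs)⁻¹ = x by group])
    simp only [Subgroup.coe_mul, Subgroup.coe_inv] at this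
    rwa [show (a : H ⧸ Zs) * ((a : H ⧸ Zs)⁻¹ * x * a) * (a : H ⧸ Zs)⁻¹ = x by group] at this
  set K' := K.comap π with hK'
  haveI : K'.Normal := inferInstance
  have hQK : S.Q ≤ K' := fun x hx => hAK ⟨x, hx, rfl⟩
  have h24 : S.e (ofN 32) ∉ K' := fun h => by
    have h32 : ofN 32 * ofN 32 = 1 ∧ inMask mQ (ofN 32).code.val = false := by decide +kernel
    have := memA.1 (hinvK _ h (memP.2 (S.toSetting.e_mem _)) (by rw [← map_mul, ← map_mul, h32.1, map_one, map_one]))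
    rw [S.mem_Q, h32.2] at this
    exact Bool.false_ne_true this
  have hinf : (S.syl : Subgroup H) ⊓ K' = S.Q := by
    refine le_antisymm ?_ (le_inf (S.toSetting.map_le_syl _) hQK)
    intro x hx
    obtain ⟨hxS, hxK⟩ := mem_inf.1 hx
    obtain ⟨a, rfl⟩ := S.syl_code hxS
    by_contra hQ
    rw [S.mem_Q, Bool.not_eq_true] at hQ
    refine h24 ?_
    obtain ⟨d, hd, hdK⟩ : ∃ d : Mdl, d.code.val &&& 176 = 32 ∧ S.e d ∈ K' := by
      have h := List.all_eq_true.1 escape_ok _ (List.mem_range.2 a.code.isLt)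
      simp only [hQ, Bool.false_or, Bool.or_eq_true, List.any_eq_true, List.mem_range, Nat.beq_eq] at h
      rcases h with h | ⟨b, hb, h⟩
      · exact ⟨a, h, hxK⟩
      · refine ⟨a * ofN b * a⁻¹ * (ofN b)⁻¹, by rw [code_comm, ofN_code hb]; exact h, ?_⟩
        rw [map_mul, map_mul, map_mul, map_inv, map_inv, mul_assoc (S.e a), mul_assoc (S.e a)]
        exact mul_mem hxK ((inferInstance : K'.Normal).conj_mem _ (inv_mem hxK) _)
    have hs := List.all_eq_true.1 shift_ok _ (List.mem_range.2 d.code.isLt)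
    rw [hd] at hs
    simp only [Nat.beq_refl, Bool.not_true, Bool.false_or] at hs
    have : S.e (d * ofN 32) ∈ S.Q := S.mem_Q.2 (by rw [code_mul, ofN_code (by norm_num)]; exact hs)
    have := mul_mem (inv_mem hdK) (hQK this)
    rwa [map_mul, inv_mul_cancel_left] at this
  have hrel : Odd (S.Q.relIndex K') := by
    rw [← hinf, inf_relIndex_right]
    exact Cfsg.Lib.ProdFusion.odd_relIndex_normal S.syl K'
  -- Burnside in the normal closure
  have hpA : IsPGroup 2 (A.subgroupOf K) :=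
    (P.2.to_le hsc.1).of_equiv (subgroupOfEquivOfLe hAK).symm
  have hKK : K'.map π = K := map_comap_eq_self_of_surjective hπs K
  have hidx : A.relIndex K = S.Q.relIndex K' := by
    rw [hA, ← hKK, relIndex_map_map, hker, sup_eq_left.2 ?_, sup_eq_left.2 ?_]
    · exact fun x hx => hQK (S.eqz_mem_Q (one_mem _) (S.mem_Zs.1 hx))
    · exact fun x hx => S.eqz_mem_Q (one_mem _) (S.mem_Zs.1 hx)
  let PA : Sylow 2 K := hpA.toSylow (by rw [← relIndex, hidx]; exact hrel.not_two_dvd_nat)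
  have hPA : (PA : Subgroup K) = A.subgroupOf K := rfl
  have hcent : normalizer ((PA : Subgroup K) : Set K) ≤ centralizer ((PA : Subgroup K) : Set K) := by
    intro k hk
    obtain ⟨g, hg⟩ := hπs (k : H ⧸ Zs)
    have hgK : g ∈ K' := by show π g ∈ K; rw [hg]; exact k.2
    have hgQ : ∀ x ∈ S.Q, g * x * g⁻¹ ∈ S.Q := fun x hx => by
      have h1 : (⟨π x, hAK ⟨x, hx, rfl⟩⟩ : K) ∈ (PA : Subgroup K) := mem_subgroupOf.2 ⟨x, hx, rfl⟩
      have h2 := mem_subgroupOf.1 ((mem_normalizer_iff.1 hk _).1 h1)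
      refine memA.1 ?_
      rw [map_mul, map_mul, map_inv, hg]
      exact h2
    have hgL := S.core_le_L hQK hrel hgK hgQ
    refine mem_centralizer_iff.2 fun a ha => Subtype.ext ?_
    obtain ⟨x, hx, hxa⟩ := mem_subgroupOf.1 ha
    show (a : H ⧸ Zs) * k = k * a
    rw [← hxa, ← hg, ← map_mul, ← map_mul, hπ1]
    have := (hgL x hx).mul (Eqz.refl (S := S) g)
    rwa [inv_mul_cancel_right] at this
  have hk : Odd (Nat.card (MonoidHom.transferSylow PA hcent).ker) :=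
    Nat.not_even_iff_odd.1 fun h => MonoidHom.not_dvd_card_ker_transferSylow PA hcent (even_iff_two_dvd.1 h)
  have hle : (MonoidHom.transferSylow PA hcent).ker = ⊥ := le_bot_iff.1 (hKcore ▸
    Cfsg.Lib.Components.le_pPrimeCore (Nat.coprime_two_right.2 hk))
  have htop : (PA : Subgroup K) = ⊤ := by
    have := (MonoidHom.ker_transferSylow_isComplement' PA hcent).sup_eq_top
    rwa [hle, bot_sup_eq] at this
  have hKA : K ≤ A := fun x hx => mem_subgroupOf.1 (hPA ▸ htop ▸ mem_top (⟨x, hx⟩ : K))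
  refine ⟨fun x hx g => ?_⟩
  have h1 : π (g * x * g⁻¹) ∈ K := by
    rw [map_mul, map_mul, map_inv]
    exact (inferInstance : K.Normal).conj_mem _ (hAK ⟨x, hx, rfl⟩) _
  exact memA.1 (hKA h1)

/-- Q is the centraliser of itself modulo the centre. -/
theorem L_eq_Q : S.L = S.Q := by
  classical
  haveI : Fact (Nat.Prime 2) := ⟨Nat.prime_two⟩
  haveI := S.Q_normal
  haveI hLn : S.L.Normal := ⟨fun l hl g x hx => by
    have h := (hl _ (S.Q_normal.conj_mem x hx g⁻¹)).conj g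
    rwa [show g * (g⁻¹ * x * g⁻¹⁻¹) * g⁻¹ = x by group,
      show g * (l * (g⁻¹ * x * g⁻¹⁻¹) * l⁻¹) * g⁻¹ = g * l * g⁻¹ * x * (g * l * g⁻¹)⁻¹ by group] at h⟩
  have lift : ∀ q ∈ [1, 2, 4, 64, 256, 512], S.e (ofN q) ∈ S.Q := fun q hq =>
    S.mem_Q.2 (by rw [ofN_code (mem_maskQ_lt (self_codes q hq))]; exact self_codes q hq)
  have hself : ∀ a : Mdl, ((∀ x ∈ S.Q, S.Eqz x (S.e a * x * (S.e a)⁻¹)) → inMask mQ a.code.val = true) ∧
      ((∀ x ∈ S.Q, Commute (S.e a) x) → inMask 8 a.code.val = true) := by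
    intro a
    have h := List.all_eq_true.1 selfChk_ok _ (List.mem_range.2 a.code.isLt)
    simp only [Bool.and_eq_true, Bool.or_eq_true, Bool.not_eq_true', List.all_eq_false] at h
    constructor
    · intro hx
      rcases h.1 with ⟨q, hq, hne⟩ | h1
      · refine absurd ?_ hne
        have h1 := (hx _ (lift q hq)).mul (Eqz.refl (S := S) (S.e (ofN q))⁻¹)
        rw [mul_inv_cancel, ← map_inv, ← map_inv, ← map_mul, ← map_mul, ← map_mul, ← map_one S.e, S.eqz_e, code_comm,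
          ofN_code (mem_maskQ_lt (self_codes q hq))] at h1
        rw [Nat.beq_eq, ← h1]
        rfl
      · exact h1
    · intro hx
      rcases h.2 with ⟨q, hq, hne⟩ | h1
      · refine absurd ?_ hne
        have e1 : a * ofN q * a⁻¹ * (ofN q)⁻¹ = 1 := S.inj (by
          rw [map_mul, map_mul, map_mul, map_inv, map_inv, (hx _ (lift q hq)).eq, mul_inv_cancel_right, mul_inv_cancel,
            map_one])
        have h1 := congrArg (fun m : Mdl => m.code.val) e1
        simp only [code_comm, ofN_code (mem_maskQ_lt (self_codes q hq)), code_one] at h1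
        rw [h1]; rfl
      · exact h1
  have hLS : (S.syl : Subgroup H) ⊓ S.L = S.Q := by
    refine le_antisymm (fun x hx => ?_) (le_inf (S.toSetting.map_le_syl _) S.Q_le_L)
    obtain ⟨a, rfl⟩ := S.syl_code (mem_inf.1 hx).1
    exact S.mem_Q.2 ((hself a).1 (mem_inf.1 hx).2)
  have hrel : Odd (S.Q.relIndex S.L) := by
    rw [← hLS, inf_relIndex_right]
    exact Cfsg.Lib.ProdFusion.odd_relIndex_normal S.syl S.L
  set C := centralizer (S.Q : Set H) with hC
  haveI : C.Normal := inferInstance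
  have hCS : (S.syl : Subgroup H) ⊓ C = zpowers S.z := by
    refine le_antisymm (fun x hx => ?_) (le_inf (zpowers_le.2 S.z_syl) (zpowers_le.2 ?_))
    · obtain ⟨a, rfl⟩ := S.syl_code (mem_inf.1 hx).1
      have h8 := (hself a).2 fun y hy => (mem_centralizer_iff.1 (mem_inf.1 hx).2 y hy).symm
      rw [S.mem_Zs, ← map_one S.e, S.eqz_e]
      have : ∀ n < 1024, inMask 8 n = true → bz 0 = bz n := by decide +kernel
      exact this _ a.code.isLt h8
    · exact mem_centralizer_iff.2 fun y _ => S.z_comm y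
  have hCZ : C = zpowers S.z := S.eq_Zs C (by rw [← hCS]; exact inf_le_right) (by
    rw [← hCS, inf_relIndex_right]
    exact Cfsg.Lib.ProdFusion.odd_relIndex_normal S.syl C)
  refine le_antisymm (fun g hg => ?_) S.Q_le_L
  have hg2 : g * g ∈ S.Q := by
    refine S.eqz_mem_Q (one_mem _) (S.mem_Zs.1 (hCZ ▸ mem_centralizer_iff.2 fun x hx => ?_))
    refine (mul_inv_eq_iff_eq_mul.1 ?_).symm
    rw [show g * g * x * (g * g)⁻¹ = g * (g * x * g⁻¹) * g⁻¹ by group]
    rcases hg x hx with h | h <;> rw [h]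
    · exact h
    · rw [show g * (x * S.z) * g⁻¹ = g * x * (S.z * g⁻¹) by group, ← S.z_comm, ← mul_assoc, h, mul_assoc, S.zz,
        mul_one]
  set q := QuotientGroup.mk' S.Q with hq
  have ho : orderOf (q g) ∣ 2 := orderOf_dvd_of_pow_eq_one (by
    rw [pow_two, ← map_mul, hq, QuotientGroup.mk'_apply, QuotientGroup.eq_one_iff]; exact hg2)
  have hd : orderOf (q g) ∣ Nat.card (S.L.map q) := Subgroup.orderOf_dvd_natCard _ ⟨g, hg, rfl⟩
  rw [← relIndex_ker S.L q, hq, QuotientGroup.ker_mk'] at hd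
  have h1 := Nat.eq_one_of_dvd_coprimes (Nat.coprime_two_left.2 hrel) ho hd
  rw [orderOf_eq_one_iff, hq, QuotientGroup.mk'_apply, QuotientGroup.eq_one_iff] at h1
  exact h1

end Hat

end Cfsg.Lib.LFiveType
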