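import Cfsg.Agent.LFiveType.RecBase
import Cfsg.Agent.InvolCalc.StronglyEmbedded
import Cfsg.Agent.BenderSE.Final
import Cfsg.Agent.BenderSE.Socle

/-!
# A subgroup fixing one point for every conjugate of the central involution is everything
-/

set_option autoImplicit false
set_option linter.unusedSectionVars false
set_option linter.style.haveILetI false
set_option maxRecDepth 100000

namespace Cfsg.Lib.LFiveType

open Subgroup

universe u

namespace Setting

variable {G : Type u} [Group G] [Finite G] {S : Setting G}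

/-- The hypotheses of the recursion. -/
structure RecHyp (S : Setting G) (N : Subgroup G) (b1 b2 : Bool) : Prop where
  cz : S.CZ ≤ N
  syl_le : (S.syl : Subgroup G) ≤ N
  fix : ∀ g : G, g * S.z * g⁻¹ ∈ N → g ∈ N
  zcls : ∀ a : Mdl, IsConj S.z (S.e a) ↔ zCode b1 b2 a.code.val = true
  qcl : ∀ g x : G, g * S.z = S.z * g → x ∈ S.Q → g * x * g⁻¹ ∈ (S.syl : Subgroup G) → g * x * g⁻¹ ∈ S.Q
  ex1 : b1 = false → ∃ h ∈ N, h * S.e (ofN 4) * h⁻¹ = S.z ∧ h * S.e (ofN 34) * h⁻¹ ∈ S.Q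
  ex2 : b2 = false → ∃ h ∈ N, h * S.e (ofN 64) * h⁻¹ = S.z ∧ h * S.e (ofN 288) * h⁻¹ ∈ S.Q

/-- The induction hypothesis at a subgroup. -/
def Above (S : Setting G) (N D : Subgroup G) : Prop :=
  ∀ D' : Subgroup G, D' ≤ N → S.Pure D' → Nat.card D < Nat.card D' → centralizer (D' : Set G) ≤ N

theorem mem_cent_map {D : Subgroup G} {n x : G} (hx : x ∈ centralizer (D : Set G)) :
    n * x * n⁻¹ ∈ centralizer (D.map (MulAut.conj n).toMonoidHom : Set G) := by
  rw [mem_centralizer_iff]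
  rintro _ ⟨y, hy, rfl⟩
  show n * y * n⁻¹ * (n * x * n⁻¹) = n * x * n⁻¹ * (n * y * n⁻¹)
  rw [show n * y * n⁻¹ * (n * x * n⁻¹) = n * (y * x) * n⁻¹ by group, mem_centralizer_iff.1 hx y hy]
  group

theorem above_map {N D : Subgroup G} (h : Above S N D) (n : G) :
    Above S N (D.map (MulAut.conj n).toMonoidHom) := by
  intro D' h1 h2 h3
  rw [card_map_of_injective (MulAut.conj n).injective] at h3
  exact h D' h1 h2 h3

theorem cent_le_of_map {N D : Subgroup G} {n : G} (hn : n ∈ N)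
    (h : centralizer (D.map (MulAut.conj n).toMonoidHom : Set G) ≤ N) : centralizer (D : Set G) ≤ N :=
  fun _ hx => (mul_mem_cancel_left hn).1 ((mul_mem_cancel_right (inv_mem hn)).1 (h (mem_cent_map hx)))

namespace RecHyp

variable {N : Subgroup G} {b1 b2 : Bool} (R : S.RecHyp N b1 b2)
include R

theorem fixA {t y : G} (ht : t ∈ N) (hc : IsConj S.z t) (hy : y * t * y⁻¹ ∈ N) : y ∈ N := by
  obtain ⟨g, rfl⟩ := isConj_iff.1 hc
  have hg := R.fix g ht
  have h := R.fix (y * g) (by rwa [show y * g * S.z * (y * g)⁻¹ = y * (g * S.z * g⁻¹) * y⁻¹ by group])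
  exact (mul_mem_cancel_right hg).1 h

theorem centA {t y : G} (ht : t ∈ N) (hc : IsConj S.z t) (hy : y * t = t * y) : y ∈ N :=
  R.fixA ht hc (by rw [hy, mul_inv_cancel_right]; exact ht)

theorem exists_z_cent {V : Subgroup G} (hV : IsPGroup 2 V) (hVN : V ≤ N) :
    ∃ t ∈ N, IsConj S.z t ∧ ∀ v ∈ V, t * v = v * t := by
  haveI : Fact (Nat.Prime 2) := ⟨Nat.prime_two⟩
  obtain ⟨n, hn, hnv⟩ := Cfsg.Lib.ZStarApps.exists_conj_mem_sylow S.syl R.syl_le hV hVN
  refine ⟨n⁻¹ * S.z * n, mul_mem (mul_mem (inv_mem hn) (R.syl_le (S.e_mem _))) hn,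
    isConj_iff.2 ⟨n⁻¹, by group⟩, fun v hv => ?_⟩
  have h := S.z_central (hnv v hv)
  calc n⁻¹ * S.z * n * v = n⁻¹ * (S.z * (n * v * n⁻¹)) * n := by group
    _ = n⁻¹ * (n * v * n⁻¹ * S.z) * n := by rw [h]
    _ = v * (n⁻¹ * S.z * n) := by group

/-- The stabiliser of an involution coset lies in `N`. -/
theorem stab_mem {D : Subgroup G} (hDN : D ≤ N) (hD : S.Pure D) (hA : Above S N D) {i y : G} (hiN : i ∈ N)
    (hiD : i ∉ D) (hsq : i * i ∈ D) (hcm : ∀ d ∈ D, i * d = d * i) (hyc : ∀ d ∈ D, y * d = d * y)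
    (hy : i⁻¹ * (y * i * y⁻¹) ∈ D) : y ∈ N := by
  obtain ⟨hle, hi', hlt, hp2, hcomm⟩ := extendBy_facts hsq hcm
  set D' := extendBy D i hsq hcm
  have hD'N : D' ≤ N := by
    rintro x (hx | hx)
    · exact hDN hx
    · exact (mul_mem_cancel_left hiN).1 (hDN hx)
  by_cases hpure : ∀ x ∈ D', ¬ IsConj S.z x
  · have hpD' : S.Pure D' := ⟨hcomm hD.comm, hp2 hD.two, hpure⟩
    obtain ⟨t, htN, htz, htc⟩ := R.exists_z_cent hpD'.two hD'N
    refine R.fixA htN htz (hA D' hD'N hpD' (hlt hiD) ?_)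
    have hnorm : ∀ x ∈ D', y * x * y⁻¹ ∈ D' := by
      intro x hx
      rcases hx with hx | hx
      · exact Or.inl (by rwa [hyc x hx, mul_inv_cancel_right])
      · have e : y * x * y⁻¹ = (y * i * y⁻¹)⁻¹ * (i * x) := by
          calc y * x * y⁻¹ = (y * i * y⁻¹)⁻¹ * (y * (i * x) * y⁻¹) := by group
            _ = _ := by rw [hyc _ hx, mul_inv_cancel_right]
        rw [e]
        refine mul_mem (inv_mem ?_) (hle hx)
        rw [← mul_inv_cancel_left i (y * i * y⁻¹)]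
        exact mul_mem hi' (hle hy)
    have hfix := Cfsg.Lib.ZStarApps.mem_normalizer_of_maps hnorm
    rw [mem_centralizer_iff]
    intro x hx
    have h1 : y⁻¹ * x * y ∈ D' := by
      have := (mem_normalizer_iff.1 (inv_mem hfix) x).1 hx
      rwa [inv_inv] at this
    have h2 := htc _ h1
    calc x * (y * t * y⁻¹) = y * (y⁻¹ * x * y * t) * y⁻¹ := by group
      _ = y * (t * (y⁻¹ * x * y)) * y⁻¹ := by rw [h2]
      _ = y * t * y⁻¹ * x := by group
  · push Not at hpure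
    obtain ⟨t, ht, htz⟩ := hpure
    refine R.fixA (hD'N ht) htz ?_
    rcases ht with ht | ht
    · exact absurd htz (hD.noz t ht)
    · have e : y * t * y⁻¹ = (y * i * y⁻¹)⁻¹ * (i * t) := by
        calc y * t * y⁻¹ = (y * i * y⁻¹)⁻¹ * (y * (i * t) * y⁻¹) := by group
          _ = _ := by rw [hyc _ ht, mul_inv_cancel_right]
      rw [e]
      refine mul_mem (inv_mem ?_) (hDN ht)
      rw [← mul_inv_cancel_left i (y * i * y⁻¹)]
      exact mul_mem hiN (hDN hy)

theorem strongly_embedded {D : Subgroup G} (hDN : D ≤ N) (hD : S.Pure D) (hA : Above S N D)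
    (hnot : ¬ centralizer (D : Set G) ≤ N) [hn : (D.subgroupOf (centralizer (D : Set G))).Normal] :
    Cfsg.IsStronglyEmbedded ((N.subgroupOf (centralizer (D : Set G))).map
      (QuotientGroup.mk' (D.subgroupOf (centralizer (D : Set G))))) := by
  haveI : Fact (Nat.Prime 2) := ⟨Nat.prime_two⟩
  set Y := centralizer (D : Set G) with hY
  set π := QuotientGroup.mk' (D.subgroupOf Y)
  set M := (N.subgroupOf Y).map π
  have hmemM : ∀ y : Y, π y ∈ M ↔ (y : G) ∈ N := fun y => by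
    refine ⟨fun ⟨w, hw, e⟩ => ?_, fun h => ⟨y, h, rfl⟩⟩
    obtain ⟨d, hd, e'⟩ := (QuotientGroup.mk'_eq_mk' _).1 e
    rw [← e', Subgroup.coe_mul]
    exact mul_mem hw (hDN hd)
  have hcD : ∀ y : Y, ∀ d ∈ D, (y : G) * d = d * y := fun y d hd => (mem_centralizer_iff.1 y.2 d hd).symm
  refine ⟨fun h => hnot fun y hy => (hmemM ⟨y, hy⟩).1 (h ▸ mem_top _), ?_, fun q hq => ?_⟩
  · obtain ⟨t, htN, htz, htc⟩ := R.exists_z_cent hD.two hDN
    obtain ⟨g, hg⟩ := isConj_iff.1 htz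
    have htY : t ∈ Y := mem_centralizer_iff.2 fun d hd => (htc d hd).symm
    have htt : t * t = 1 := by
      rw [← hg, show g * S.z * g⁻¹ * (g * S.z * g⁻¹) = g * (S.z * S.z) * g⁻¹ by group, S.z_sq, mul_one,
        mul_inv_cancel]
    have h2 : orderOf (π ⟨t, htY⟩) = 2 := orderOf_eq_prime
      (by rw [← map_pow]; exact congrArg π (Subtype.ext (by rw [pow_two]; exact htt)) |>.trans (map_one π))
      fun e => hD.noz t ((QuotientGroup.eq_one_iff (⟨t, htY⟩ : Y)).1 e) htz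
    exact even_iff_two_dvd.2 (h2 ▸ Subgroup.orderOf_dvd_natCard M ((hmemM _).2 htN))
  · rw [← Nat.not_even_iff_odd]
    intro he
    obtain ⟨w, hw, hw2⟩ := Cfsg.Lib.StrongEmb.exists_involution_of_even he
    obtain ⟨hwM, hwg⟩ := mem_inf.1 hw
    rw [Cfsg.Lib.StrongEmb.mem_conj_iff] at hwg
    obtain ⟨g, rfl⟩ := QuotientGroup.mk'_surjective _ q
    obtain ⟨i, rfl⟩ := QuotientGroup.mk'_surjective _ w
    rw [← map_inv, ← map_mul, ← map_mul, hmemM] at hwg
    rw [hmemM] at hwM hq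
    have hiD : (i : G) ∉ D := fun h => by
      rw [show QuotientGroup.mk' _ i = 1 from (QuotientGroup.eq_one_iff i).2 h, orderOf_one] at hw2
      omega
    have hsq : (i : G) * i ∈ D := by
      have h1 : π (i * i) = 1 := by rw [map_mul, ← pow_two, ← hw2, pow_orderOf_eq_one]
      exact (QuotientGroup.eq_one_iff (i * i)).1 h1
    set j : G := (g : G)⁻¹ * i * g with hj
    have hjsq : j * j ∈ D := by
      rw [hj, show (g : G)⁻¹ * i * g * ((g : G)⁻¹ * i * g) = (g : G)⁻¹ * ((i : G) * i) * g by group,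
        mul_assoc, ← hcD g _ hsq, inv_mul_cancel_left]
      exact hsq
    have hjcm : ∀ d ∈ D, j * d = d * j := fun d hd => hcD (g⁻¹ * i * g) d hd
    obtain ⟨hle, hj', -, hp2, -⟩ := extendBy_facts hjsq hjcm
    have hjN : j ∈ N := hwg
    obtain ⟨t, htN, htz, htc⟩ := R.exists_z_cent (hp2 hD.two) (fun x hx => by
      rcases hx with hx | hx
      · exact hDN hx
      · exact (mul_mem_cancel_left hjN).1 (hDN hx))
    refine hq (R.fixA htN htz ?_)
    refine R.stab_mem hDN hD hA hwM hiD hsq (fun d hd => hcD i d hd) (fun d hd => ?_) ?_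
    · calc (g : G) * t * (g : G)⁻¹ * d = (g : G) * (t * ((g : G)⁻¹ * d * g)) * (g : G)⁻¹ := by group
        _ = (g : G) * (t * d) * (g : G)⁻¹ := by rw [mul_assoc (g : G)⁻¹, ← hcD g d hd, inv_mul_cancel_left]
        _ = (g : G) * (d * t) * (g : G)⁻¹ := by rw [htc d (hle hd)]
        _ = d * ((g : G) * t * (g : G)⁻¹) := by rw [← mul_assoc (g : G) d t, hcD g d hd]; group
    · have e : (g : G) * t * (g : G)⁻¹ * i * ((g : G) * t * (g : G)⁻¹)⁻¹ = i := by
        calc _ = (g : G) * (t * j * t⁻¹) * (g : G)⁻¹ := by rw [hj]; group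
          _ = (g : G) * j * (g : G)⁻¹ := by rw [htc j hj', mul_inv_cancel_right]
          _ = _ := by rw [hj]; group
      rw [e, inv_mul_cancel]
      exact one_mem D

theorem zc_iff {x : Mdl} : IsConj S.z (S.e x) ↔ zCode b1 b2 x.code.val = true := R.zcls x

/-- A node with a certificate of the first three kinds. -/
theorem node_done {D : Subgroup G} (hD : S.Pure D) (hA : Above S N D) {E : RecNode} (hE : S.IsNode D E)
    (h1 : E.cert b1 b2 ≠ RecCert.exc1) (h2 : E.cert b1 b2 ≠ RecCert.exc2) :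
    centralizer (D : Set G) ≤ N := by
  obtain ⟨hEm, hDS, hmem⟩ := hE
  have hDN : D ≤ N := hDS.trans R.syl_le
  by_contra hnot
  set Y := centralizer (D : Set G) with hY
  haveI hn : (D.subgroupOf Y).Normal := ⟨fun d hd g => by
    show ((g * d * g⁻¹ : Y) : G) ∈ D
    rw [Subgroup.coe_mul, Subgroup.coe_mul, InvMemClass.coe_inv,
      ← mem_centralizer_iff.1 g.2 (d : G) hd, mul_inv_cancel_right]
    exact hd⟩
  have hSE := R.strongly_embedded hDN hD hA hnot
  set π := QuotientGroup.mk' (D.subgroupOf Y)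
  have hcert := node_cert hEm b1 b2
  have hinY : ∀ a : Mdl, E.els.all (commN a.code.val) = true → S.e a ∈ Y := fun a ha => by
    refine mem_centralizer_iff.2 fun d hd => ?_
    obtain ⟨b, rfl⟩ := S.exists_code (hDS hd)
    have := (commN_iff a b).1 (List.all_eq_true.1 ha _ ((hmem b).1 hd))
    rw [← map_mul, ← map_mul, this]
  have hinv : ∀ n, invOver E.els n = true → n < 1024 ∧ ∃ hy : S.e (ofN n) ∈ Y,
      orderOf (π ⟨S.e (ofN n), hy⟩) = 2 ∧ S.e (ofN n) ∈ N := fun n hn => by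
    simp only [invOver, Bool.and_eq_true, Nat.blt_eq, Bool.not_eq_true', Bool.eq_false_iff, ne_eq,
      List.contains_iff_mem] at hn
    obtain ⟨⟨⟨hlt, hne⟩, hsq⟩, hall⟩ := hn
    have hy := hinY (ofN n) (by rwa [ofN_code hlt])
    refine ⟨hlt, hy, orderOf_eq_prime ?_ ?_, R.syl_le (S.e_mem _)⟩
    · rw [← map_pow, QuotientGroup.mk'_apply, QuotientGroup.eq_one_iff]
      show S.e (ofN n) ^ 2 ∈ D
      rw [pow_two, ← map_mul, hmem, code_mul, ofN_code hlt]
      exact hsq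
    · intro e
      have h0 : S.e (ofN n) ∈ D := (QuotientGroup.eq_one_iff (⟨S.e (ofN n), hy⟩ : Y)).1 e
      rw [hmem, ofN_code hlt] at h0
      exact hne h0
  cases hc : E.cert b1 b2 with
  | exc1 => exact h1 hc
  | exc2 => exact h2 hc
  | impure x =>
    rw [hc] at hcert
    simp only [certOK, Bool.and_eq_true, List.contains_iff_mem] at hcert
    have hx := node_lt hEm hcert.1
    exact hD.noz _ ((hmem (ofN x)).2 (by rw [ofN_code hx]; exact hcert.1))
      (R.zc_iff.2 (by rw [ofN_code hx]; exact hcert.2))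
  | fus a d j =>
    rw [hc] at hcert
    simp only [certOK, Bool.and_eq_true, List.contains_iff_mem, List.all_eq_true] at hcert
    obtain ⟨⟨⟨⟨⟨ha, hj⟩, hd⟩, hza⟩, hzad⟩, hall⟩ := hcert
    obtain ⟨hla, haY, ha2, -⟩ := hinv a ha
    obtain ⟨hlj, hjY, hj2, -⟩ := hinv j hj
    obtain ⟨q, hq⟩ := isConj_iff.1 (Cfsg.Lib.StrongEmb.all_conj hSE ha2 hj2)
    obtain ⟨y, rfl⟩ := QuotientGroup.mk'_surjective _ q
    rw [← map_inv, ← map_mul, ← map_mul] at hq
    obtain ⟨w, hw, e⟩ := (QuotientGroup.mk'_eq_mk' _).1 hq.symm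
    have e' : S.e (ofN j) * (w : G) = (y : G) * S.e (ofN a) * (y : G)⁻¹ := congrArg Subtype.val e
    obtain ⟨d', hd'⟩ := S.exists_code (hDS hw)
    have hd'm : d'.code.val ∈ E.els := (hmem d').1 (hd'.symm ▸ hw)
    have hd'' : S.e d' = (w : G) := hd'
    rw [← hd'', ← map_mul] at e'
    have hdl := node_lt hEm hd
    have hdD : S.e (ofN d) ∈ D := (hmem _).2 (by rwa [ofN_code hdl])
    have hz1 : zCode b1 b2 (mulN j d'.code.val) = true := by
      have := R.zc_iff.1 ((R.zc_iff.2 (show zCode b1 b2 (ofN a).code.val = true by rwa [ofN_code hla])).trans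
        (isConj_iff.2 ⟨(y : G), e'.symm⟩))
      rwa [code_mul, ofN_code hlj] at this
    have hz2 : zCode b1 b2 (mulN (mulN j d'.code.val) d) = true := by
      have e2 : (y : G) * S.e (ofN a * ofN d) * (y : G)⁻¹ = S.e (ofN j * d' * ofN d) := by
        rw [map_mul S.e (ofN a), map_mul S.e (ofN j * d'), e']
        calc (y : G) * (S.e (ofN a) * S.e (ofN d)) * (y : G)⁻¹
            = (y : G) * S.e (ofN a) * (y : G)⁻¹ * ((y : G) * S.e (ofN d) * (y : G)⁻¹) := by group
          _ = _ := by rw [← mem_centralizer_iff.1 y.2 _ hdD, mul_inv_cancel_right]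
      have := R.zc_iff.1 ((R.zc_iff.2 (show zCode b1 b2 (ofN a * ofN d).code.val = true by
        rwa [code_mul, ofN_code hla, ofN_code hdl])).trans (isConj_iff.2 ⟨(y : G), e2⟩))
      rwa [code_mul, code_mul, ofN_code hlj, ofN_code hdl] at this
    have := hall _ hd'm
    simp [hz1, hz2] at this
  | comm i j =>
    rw [hc] at hcert
    simp only [certOK, Bool.and_eq_true, Bool.not_eq_true', Bool.eq_false_iff, ne_eq, List.contains_iff_mem]
      at hcert
    obtain ⟨⟨hi, hj⟩, hcm⟩ := hcert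
    obtain ⟨hli, hiY, hi2, hiN⟩ := hinv i hi
    obtain ⟨hlj, hjY, hj2, hjN⟩ := hinv j hj
    set p : Y := ⟨S.e (ofN i), hiY⟩
    set q : Y := ⟨S.e (ofN j), hjY⟩
    have hpow : ∀ y : Y, (y : G) ∈ (S.syl : Subgroup G) → ∃ k : ℕ, orderOf (π y) ∣ 2 ^ k := fun y hy => by
      obtain ⟨k, hk⟩ := S.syl.isPGroup' ⟨(y : G), hy⟩
      refine ⟨k, (orderOf_map_dvd π y).trans (orderOf_dvd_of_pow_eq_one (Subtype.ext ?_))⟩
      simpa using congrArg Subtype.val hk
    have hne : ¬ π p * π q = π q * π p := by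
      intro e
      apply hcm
      have e1 : π (p * q * p⁻¹ * q⁻¹) = 1 := by rw [map_mul, map_mul, map_mul, e, map_inv, map_inv]; group
      have e2 : S.e (ofN i * ofN j * (ofN i)⁻¹ * (ofN j)⁻¹) ∈ D := by
        rw [map_mul, map_mul, map_mul, map_inv, map_inv]
        exact (QuotientGroup.eq_one_iff (p * q * p⁻¹ * q⁻¹)).1 e1
      rw [hmem, code_comm, ofN_code hli, ofN_code hlj] at e2
      exact e2
    have h2 : Cfsg.Lib.BenderSE.HasCommutingInvolutions (Y ⧸ D.subgroupOf Y) := by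
      have he : Even (orderOf (π p * π q)) := by
        rw [← map_mul]
        obtain ⟨k, hk⟩ := hpow (p * q) (mul_mem (S.e_mem _) (S.e_mem _))
        obtain ⟨l, -, hl⟩ := (Nat.dvd_prime_pow Nat.prime_two).1 hk
        rcases l with _ | l
        · rw [pow_zero, orderOf_eq_one_iff, map_mul] at hl
          refine absurd ?_ hne
          rw [eq_inv_of_mul_eq_one_left hl, inv_mul_cancel, mul_inv_cancel]
        · exact even_iff_two_dvd.2 (hl ▸ dvd_pow_self 2 (by omega))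
      obtain ⟨hu, hup, huq⟩ := Cfsg.Lib.InvolCalc.central_spec hi2 hj2 he
      exact ⟨_, _, hu, hi2, fun e => hne ((e ▸ huq).eq), hup.eq⟩
    have hset := Cfsg.Lib.BenderSE.setting_quotient hSE h2
    set M := (N.subgroupOf Y).map π
    have hc := Cfsg.Lib.BenderSE.commute_of_setting Cfsg.Lib.BenderSE.commStep hset
      (mem_map_of_mem _ (mem_map_of_mem π (show p ∈ N.subgroupOf Y from hiN)))
      (mem_map_of_mem _ (mem_map_of_mem π (show q ∈ N.subgroupOf Y from hjN)))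
      (Cfsg.Lib.BenderSE.involution_quotient hSE hi2) (Cfsg.Lib.BenderSE.involution_quotient hSE hj2)
    have hcore : π p * π q * (π p)⁻¹ * (π q)⁻¹ ∈ M.normalCore := by
      rw [← QuotientGroup.eq_one_iff, ← QuotientGroup.mk'_apply, map_mul, map_mul, map_mul, map_inv, map_inv]
      rw [hc]
      group
    have hodd := (Cfsg.Lib.BenderSE.odd_normalCore hSE).of_dvd_nat (Subgroup.orderOf_dvd_natCard _ hcore)
    obtain ⟨k, hk⟩ := hpow (p * q * p⁻¹ * q⁻¹)
      (mul_mem (mul_mem (mul_mem (S.e_mem _) (S.e_mem _)) (inv_mem (S.e_mem _))) (inv_mem (S.e_mem _)))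
    rw [map_mul, map_mul, map_mul, map_inv, map_inv] at hk
    obtain ⟨l, -, hl⟩ := (Nat.dvd_prime_pow Nat.prime_two).1 hk
    rcases l with _ | l
    · rw [pow_zero, orderOf_eq_one_iff] at hl
      exact hne (mul_inv_eq_iff_eq_mul.1 (mul_inv_eq_one.1 hl))
    · rw [hl] at hodd
      exact absurd hodd (Nat.not_odd_iff_even.2 (even_iff_two_dvd.2 (dvd_pow_self 2 (by omega))))

/-- A node of the last kind is moved to one of the first. -/
theorem exc_move {D : Subgroup G} (hD : S.Pure D) (hA : Above S N D) {E : RecNode} (hE : S.IsNode D E)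
    {c x : ℕ} {h : G} (hh : h ∈ N) (hc : h * S.e (ofN c) * h⁻¹ = S.z) (hxQ : h * S.e (ofN x) * h⁻¹ ∈ S.Q)
    (hx : x ∈ E.els) (hx0 : x ≠ 0) (hcl : c < 1024) (hcomm : E.els.all (commN c) = true) :
    centralizer (D : Set G) ≤ N := by
  haveI : Fact (Nat.Prime 2) := ⟨Nat.prime_two⟩
  obtain ⟨hEm, hDS, hmem⟩ := hE
  set D₁ := D.map (MulAut.conj h).toMonoidHom
  have hD₁Z : D₁ ≤ S.CZ := by
    rintro _ ⟨y, hy, rfl⟩
    obtain ⟨b, rfl⟩ := S.exists_code (hDS hy)
    have hb : ofN c * b = b * ofN c :=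
      (commN_iff _ _).1 (by rw [ofN_code hcl]; exact List.all_eq_true.1 hcomm _ ((hmem b).1 hy))
    rw [mem_centralizer_singleton_iff, ← hc]
    show h * S.e b * h⁻¹ * (h * S.e (ofN c) * h⁻¹) = h * S.e (ofN c) * h⁻¹ * (h * S.e b * h⁻¹)
    rw [show h * S.e b * h⁻¹ * (h * S.e (ofN c) * h⁻¹) = h * (S.e b * S.e (ofN c)) * h⁻¹ by group, ← map_mul, ← hb,
      map_mul]
    group
  obtain ⟨k, hk, hkD⟩ := Cfsg.Lib.ZStarApps.exists_conj_mem_sylow S.syl
    (H := S.CZ) (fun y hy => mem_centralizer_singleton_iff.2 (S.z_central hy)) (hD.map h).two hD₁Z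
  set D₂ := D₁.map (MulAut.conj k).toMonoidHom
  have hD₂S : D₂ ≤ (S.syl : Subgroup G) := by
    rintro _ ⟨y, hy, rfl⟩
    exact hkD y hy
  have hD₂ : S.Pure D₂ := (hD.map h).map k
  obtain ⟨g, E', hE'm, hE'S, hmem'⟩ := exists_node R.zcls D₂ hD₂S hD₂
  have hxl := node_lt hEm hx
  have hxD : S.e (ofN x) ∈ D := (hmem _).2 (by rwa [ofN_code hxl])
  have hv : k * (h * S.e (ofN x) * h⁻¹) * k⁻¹ ∈ S.Q :=
    R.qcl k _ (mem_centralizer_singleton_iff.1 hk) hxQ (hkD _ ⟨_, hxD, rfl⟩)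
  obtain ⟨a, ha, hae⟩ := hv
  have haQ : inMask mQ (ofN g.code.val * a * (ofN g.code.val)⁻¹).code.val = true := QM_normal _ ha
  rw [code_inj.1 (ofN_code g.code.isLt)] at haQ
  have hbel : (g * a * g⁻¹).code.val ∈ E'.els := by
    refine (hmem' _).1 ⟨S.e a, ?_, by simp⟩
    rw [hae]
    exact ⟨_, ⟨_, hxD, rfl⟩, rfl⟩
  have hb0 : (g * a * g⁻¹).code.val ≠ 0 := fun e => by
    have h1 : g * a * g⁻¹ = 1 := code_inj.1 (e.trans code_one.symm)
    rw [conj_eq_one_iff.1 h1, map_one] at hae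
    have h2 : S.e (ofN x) = 1 := conj_eq_one_iff.1 (conj_eq_one_iff.1 hae.symm)
    exact hx0 (by rw [← ofN_code hxl, S.inj (h2.trans (map_one _).symm)]; rfl)
  have hne : E'.cert b1 b2 ≠ RecCert.exc1 ∧ E'.cert b1 b2 ≠ RecCert.exc2 := by
    refine ⟨fun e => ?_, fun e => ?_⟩ <;>
    · have h1 := node_cert hE'm b1 b2
      rw [e] at h1
      simp only [certOK, Bool.and_eq_true, List.all_eq_true, Bool.or_eq_true, Nat.beq_eq, Bool.not_eq_true'] at h1
      rcases h1.2 _ hbel with e0 | e0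
      · exact hb0 e0
      · rw [haQ] at e0
        exact Bool.noConfusion e0
  have hA' : Above S N (D₂.map (MulAut.conj (S.e g)).toMonoidHom) := above_map (above_map (above_map hA h) k) _
  exact cent_le_of_map hh (cent_le_of_map (R.cz hk)
    (cent_le_of_map (R.syl_le (S.e_mem g)) (R.node_done (hD₂.map _) hA' ⟨hE'm, hE'S, hmem'⟩ hne.1 hne.2)))

theorem cent_le {D : Subgroup G} (hDN : D ≤ N) (hD : S.Pure D) (hA : Above S N D) :
    centralizer (D : Set G) ≤ N := by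
  haveI : Fact (Nat.Prime 2) := ⟨Nat.prime_two⟩
  obtain ⟨n, hn, hnD⟩ := Cfsg.Lib.ZStarApps.exists_conj_mem_sylow S.syl R.syl_le hD.two hDN
  refine cent_le_of_map hn ?_
  set D₁ := D.map (MulAut.conj n).toMonoidHom
  have hD₁S : D₁ ≤ (S.syl : Subgroup G) := by rintro _ ⟨x, hx, rfl⟩; exact hnD x hx
  obtain ⟨g, E, hEm, hES, hmem⟩ := exists_node R.zcls D₁ hD₁S (hD.map n)
  refine cent_le_of_map (R.syl_le (S.e_mem g)) ?_
  have hA' := above_map (above_map hA n) (S.e g)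
  have hD' : S.Pure (D₁.map (MulAut.conj (S.e g)).toMonoidHom) := (hD.map n).map _
  have hcert := node_cert hEm b1 b2
  cases hc : E.cert b1 b2 with
  | exc1 =>
    rw [hc] at hcert
    simp only [certOK, Bool.and_eq_true, Bool.not_eq_true', List.contains_iff_mem] at hcert
    obtain ⟨h, hh, h4, h34⟩ := R.ex1 hcert.1.1.1
    exact R.exc_move hD' hA' ⟨hEm, hES, hmem⟩ hh h4 h34 hcert.1.1.2 (by norm_num) (by norm_num) hcert.1.2
  | exc2 =>
    rw [hc] at hcert
    simp only [certOK, Bool.and_eq_true, Bool.not_eq_true', List.contains_iff_mem] at hcert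
    obtain ⟨h, hh, h4, h34⟩ := R.ex2 hcert.1.1.1
    exact R.exc_move hD' hA' ⟨hEm, hES, hmem⟩ hh h4 h34 hcert.1.1.2 (by norm_num) (by norm_num) hcert.1.2
  | fus a d j => exact R.node_done hD' hA' ⟨hEm, hES, hmem⟩ (by rw [hc]; simp) (by rw [hc]; simp)
  | comm i j => exact R.node_done hD' hA' ⟨hEm, hES, hmem⟩ (by rw [hc]; simp) (by rw [hc]; simp)
  | impure x => exact R.node_done hD' hA' ⟨hEm, hES, hmem⟩ (by rw [hc]; simp) (by rw [hc]; simp)

theorem cent_le_all : ∀ D : Subgroup G, D ≤ N → S.Pure D → centralizer (D : Set G) ≤ N := by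
  suffices ∀ (m : ℕ) (D : Subgroup G), Nat.card G - Nat.card D = m → D ≤ N → S.Pure D →
      centralizer (D : Set G) ≤ N from fun D => this _ D rfl
  intro m
  induction m using Nat.strong_induction_on with
  | _ m ih =>
  intro D hm hDN hD
  refine R.cent_le hDN hD fun D' h1 h2 h3 => ih (Nat.card G - Nat.card D') ?_ D' rfl h1 h2
  have := Subgroup.card_le_card_group D'
  omega

end RecHyp

/-- A subgroup with one fixed point for every conjugate of the central involution is the whole group. -/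
theorem eq_top_of_rec (N : Subgroup G) (hCz : S.CZ ≤ N) (hS : (S.syl : Subgroup G) ≤ N)
    (hfix : ∀ g : G, g * S.z * g⁻¹ ∈ N → g ∈ N) (b1 b2 : Bool)
    (hZ : ∀ a : Mdl, IsConj S.z (S.e a) ↔ zCode b1 b2 a.code.val = true)
    (hQ : ∀ g x : G, g * S.z = S.z * g → x ∈ S.Q → g * x * g⁻¹ ∈ (S.syl : Subgroup G) → g * x * g⁻¹ ∈ S.Q)
    (hex1 : b1 = false → ∃ h ∈ N, h * S.e (ofN 4) * h⁻¹ = S.z ∧ h * S.e (ofN 34) * h⁻¹ ∈ S.Q)
    (hex2 : b2 = false → ∃ h ∈ N, h * S.e (ofN 64) * h⁻¹ = S.z ∧ h * S.e (ofN 288) * h⁻¹ ∈ S.Q) : N = ⊤ := by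
  have R : S.RecHyp N b1 b2 := ⟨hCz, hS, hfix, hZ, hQ, hex1, hex2⟩
  have hp : S.Pure ⊥ := ⟨fun x hx y hy => by rw [mem_bot.1 hx, mem_bot.1 hy], IsPGroup.of_bot, fun x hx hc => by
    rw [mem_bot.1 hx, isConj_one_left] at hc
    exact S.z_ne_one hc⟩
  refine eq_top_iff.2 fun g _ => R.cent_le_all ⊥ bot_le hp ?_
  rw [mem_centralizer_iff]
  intro x hx
  rw [mem_bot.1 hx, one_mul, mul_one]

end Setting

end Cfsg.Lib.LFiveType
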