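import Cfsg.Agent.LFiveType.HatOf
import Cfsg.Agent.LFiveType.HatNormal
import Cfsg.Agent.LFiveType.Fusion
import Cfsg.Agent.LFiveType.Recursion
import Cfsg.Agent.HSType.Strong
import Cfsg.Agent.Known.InvTwo.Core
import Cfsg.Agent.LFourType.Moved
import Cfsg.Agent.S0217

/-!
# The centraliser of the central involution has trivial odd core

The cores at the first row generate a subgroup of odd order whose normaliser fixes one point for every conjugate
of the central involution.
-/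

set_option autoImplicit false
set_option linter.unusedSectionVars false
set_option linter.style.haveILetI false
set_option maxRecDepth 100000

namespace Cfsg.Lib.LFiveType

open Subgroup
open Cfsg.Lib.Walter (Oc)

universe u

/-- The first row is pure, elementary abelian, of order 16. -/
theorem row_ok : ((maskList mE).all fun r => (Nat.beq r 0 || zCode false false r) && Nat.beq (mulN r r) 0 &&
    (maskList mE).all fun s => Nat.beq (mulN r s) (mulN s r)) = true := by decide +kernel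

theorem len_E : (maskList mE).length = 16 := by decide +kernel

/-- An involution centralises a four-group of the first row. -/
theorem row_cent : ((List.range 1024).all fun i => !Nat.beq (mulN i i) 0 ||
    Nat.ble 4 ((maskList mE).filter fun r => Nat.beq (mulN i r) (mulN r i)).length) = true := by decide +kernel

/-- The four-group of 14 and 15. -/
theorem four_mask : maskOK 12 = true ∧ (maskList 12).length = 4 ∧
    ((maskList 12).all fun r => inMask mE r && [0, 4, 8, 12].contains r) = true := by decide +kernel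

theorem rep_bad : ∀ b1 b2, zCode b1 b2 68 = false ∧ zCode b1 b2 40 = false := by decide +kernel

/-- The four-group of 14 and 15 in the model. -/
def FM : Subgroup Mdl := maskSub 12 four_mask.1

theorem FM_le_EM : FM ≤ EM := fun a ha => by
  have h := List.all_eq_true.1 four_mask.2.2 _ (mem_maskList (show inMask 12 a.code.val = true from ha))
  rw [Bool.and_eq_true] at h
  exact h.1

theorem EM_facts {a b : Mdl} (ha : a ∈ EM) (hb : b ∈ EM) : a * a = 1 ∧ a * b = b * a ∧
    (a ≠ 1 → ∀ b1 b2, zCode b1 b2 a.code.val = true) := by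
  have h := List.all_eq_true.1 row_ok _ (mem_maskList (show inMask mE a.code.val = true from ha))
  simp only [Bool.and_eq_true, Bool.or_eq_true, Nat.beq_eq, List.all_eq_true] at h
  refine ⟨code_inj.1 (by rw [code_mul, h.1.2]; rfl), code_inj.1 (by rw [code_mul, code_mul, h.2 _ (mem_maskList hb)]),
    fun h1 b1 b2 => zCode_mono (h.1.1.resolve_left fun e => h1 (code_inj.1 e))⟩

theorem card_row_cent {p : Mdl} (hp : p * p = 1) : 4 ≤ Nat.card ↥(EM ⊓ centralizer ({p} : Set Mdl)) := by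
  classical
  have h := List.all_eq_true.1 row_cent _ (List.mem_range.2 p.code.isLt)
  rw [← code_mul, hp, code_one] at h
  simp only [Nat.beq_refl, Bool.not_true, Bool.false_or] at h
  refine le_trans (Nat.le_of_ble_eq_true h) ?_
  have nd : ((maskList mE).filter fun r => Nat.beq (mulN p.code.val r) (mulN r p.code.val)).Nodup :=
    List.Nodup.filter _ (List.Nodup.filter _ List.nodup_range)
  rw [← List.toFinset_card_of_nodup nd, ← Nat.card_eq_finsetCard]
  refine Nat.card_le_card_of_injective (fun c => ⟨ofN c.1, ?_⟩) fun c d e => ?_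
  · obtain ⟨h1, h2⟩ := List.mem_filter.1 (List.mem_toFinset.1 c.2)
    obtain ⟨h1, h3⟩ := List.mem_filter.1 h1
    have h1 : c.1 < 1024 := List.mem_range.1 h1
    refine mem_inf.2 ⟨?_, mem_centralizer_singleton_iff.2 (code_inj.1 ?_)⟩
    · show inMask mE _ = true
      rw [ofN_code h1]; exact h3
    · rw [code_mul, code_mul, ofN_code h1, Nat.eq_of_beq_eq_true h2]
  · have lt : ∀ c : ↥((maskList mE).filter fun r => Nat.beq (mulN p.code.val r) (mulN r p.code.val)).toFinset,
        c.1 < 1024 := fun c =>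
      List.mem_range.1 (List.mem_filter.1 (List.mem_filter.1 (List.mem_toFinset.1 c.2)).1).1
    have := congrArg (fun m : ↥(EM ⊓ centralizer ({p} : Set Mdl)) => m.1.code.val) e
    simp only [ofN_code (lt c), ofN_code (lt d)] at this
    exact Subtype.ext this

namespace Setting

variable {G : Type u} [Group G] [Finite G] (S : Setting G)

theorem syl_le_CZ : (S.syl : Subgroup G) ≤ S.CZ := fun _ hx => mem_centralizer_singleton_iff.2 (S.z_central hx)

theorem Oc_odd (a : G) : Odd (Nat.card ↥(Oc a)) :=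
  Nat.coprime_two_right.1 (Cfsg.Lib.Components.centralizerPPrimeCore_card_coprime a)

theorem conj_Oc (g x : G) {o : G} (ho : o ∈ Oc x) : g * o * g⁻¹ ∈ Oc (g * x * g⁻¹) :=
  Cfsg.Lib.HSType.Strong.map_core g x ho

/-- An involution of the Sylow subgroup balances against the centre. -/
theorem balance_z {p : Mdl} (hp : p * p = 1) {x : G} (hx : x ∈ Oc (S.e p)) (hxz : x ∈ S.CZ) : x ∈ Oc S.z := by
  set T := S.hat with hT
  set xh := QuotientGroup.mk' (Cfsg.pPrimeCore 2 S.CZ) ⟨x, hxz⟩ with hxh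
  have hxo : Odd (orderOf x) := (Oc_odd (S.e p)).of_dvd_nat (Subgroup.orderOf_dvd_natCard _ hx)
  have odd_im : ∀ y : S.CZ, (y : G) ∈ Oc (S.e p) → Odd (orderOf (QuotientGroup.mk' (Cfsg.pPrimeCore 2 S.CZ) y)) :=
    fun y hy => by
      refine Odd.of_dvd_nat ((Oc_odd (S.e p)).of_dvd_nat (Subgroup.orderOf_dvd_natCard _ hy)) ?_
      exact (orderOf_map_dvd _ y).trans (dvd_of_eq (Subgroup.orderOf_coe y).symm)
  have hQn := T.Q_normal
  have hcomm : xh * T.e p = T.e p * xh := by
    rw [hxh, hT, hat_e, ← map_mul, ← map_mul]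
    exact congrArg _ (Subtype.ext (mem_centralizer_singleton_iff.1
      (Cfsg.Lib.Components.centralizerPPrimeCore_le_centralizer _ hx)))
  haveI : Fact (Nat.Prime 2) := ⟨Nat.prime_two⟩
  have hQ2 : IsPGroup 2 T.Q := T.syl.isPGroup'.to_le (T.toSetting.map_le_syl _)
  have hcent := Cfsg.Lib.Known.InvTwo.centralizes_of_AB (x := T.e p) (y := xh) (U := T.Q)
    (by rw [← map_mul, hp, map_one]) hQ2 hcomm (odd_im _ hx) (by rw [normalizer_eq_top_iff.2 hQn]; exact mem_top _)
    (by rw [normalizer_eq_top_iff.2 hQn]; exact mem_top _) (fun u hu hup => by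
      obtain ⟨q, hq, rfl⟩ := T.exists_Q hu
      rw [← map_mul, ← map_mul] at hup
      have hqp : q * p = p * q := T.inj hup
      have hn : S.e q ∈ normalizer (Oc (S.e p) : Set G) :=
        Cfsg.Lib.Components.centralizer_le_normalizer_centralizerPPrimeCore _
          (mem_centralizer_singleton_iff.2 (by rw [← map_mul, hqp, map_mul]))
      have hy : x * (S.e q * x⁻¹ * (S.e q)⁻¹) ∈ Oc (S.e p) :=
        mul_mem hx ((mem_normalizer_iff.1 hn _).1 (inv_mem hx))
      have hyQ : xh * (T.e q * xh⁻¹ * (T.e q)⁻¹) ∈ T.Q := by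
        rw [show xh * (T.e q * xh⁻¹ * (T.e q)⁻¹) = xh * T.e q * xh⁻¹ * (T.e q)⁻¹ by group]
        exact mul_mem (hQn.conj_mem _ hu xh) (inv_mem hu)
      obtain ⟨k, hk⟩ := hQ2 ⟨_, hyQ⟩
      have hk' : (xh * (T.e q * xh⁻¹ * (T.e q)⁻¹)) ^ 2 ^ k = 1 := congrArg Subtype.val hk
      have ho : Odd (orderOf (xh * (T.e q * xh⁻¹ * (T.e q)⁻¹))) := by
        rw [show xh * (T.e q * xh⁻¹ * (T.e q)⁻¹) =
          QuotientGroup.mk' _ (⟨x, hxz⟩ * (S.eC q * ⟨x, hxz⟩⁻¹ * (S.eC q)⁻¹) : S.CZ) from rfl]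
        exact odd_im _ hy
      have h1 : xh * (T.e q * xh⁻¹ * (T.e q)⁻¹) = 1 :=
        orderOf_eq_one_iff.1 (Nat.eq_one_of_dvd_coprimes ((Nat.coprime_two_left.2 ho).pow_left k)
          (orderOf_dvd_of_pow_eq_one hk') dvd_rfl)
      rw [show xh * (T.e q * xh⁻¹ * (T.e q)⁻¹) = xh * T.e q * (T.e q * xh)⁻¹ by group] at h1
      exact mul_inv_eq_one.1 h1)
  have hxL : xh ∈ T.L := fun w hw => Or.inl (by rw [hcent w hw, mul_inv_cancel_right])
  rw [T.L_eq_Q] at hxL
  obtain ⟨k, hk⟩ := hQ2 ⟨xh, hxL⟩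
  have h1 : xh = 1 := orderOf_eq_one_iff.1 (Nat.eq_one_of_dvd_coprimes
    ((Nat.coprime_two_left.2 (odd_im ⟨x, hxz⟩ hx)).pow_left k)
    (orderOf_dvd_of_pow_eq_one (congrArg Subtype.val hk)) dvd_rfl)
  exact ⟨⟨x, hxz⟩, (QuotientGroup.eq_one_iff _).1 h1, rfl⟩

/-- **Balance.** -/
theorem balance {a b : G} (ha2 : a * a = 1) (hb : IsConj S.z b) (hab : Commute a b) {x : G} (hx : x ∈ Oc a)
    (hxb : x ∈ centralizer ({b} : Set G)) : x ∈ Oc b := by
  haveI : Fact (Nat.Prime 2) := ⟨Nat.prime_two⟩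
  obtain ⟨g, hg⟩ := isConj_iff.1 hb.symm
  have haC : g * a * g⁻¹ ∈ S.CZ := by
    rw [CZ, ← hg]; exact mem_centralizer_singleton_iff.2 (hab.map (MulAut.conj g).toMonoidHom).eq
  have hpz : IsPGroup 2 (zpowers (g * a * g⁻¹)) := by
    obtain ⟨j, -, hj⟩ := (Nat.dvd_prime_pow Nat.prime_two).1 (orderOf_dvd_of_pow_eq_one
      (show (g * a * g⁻¹) ^ 2 ^ 1 = 1 by
        rw [pow_one, pow_two, ← MulAut.conj_apply, ← map_mul, ha2, map_one]))
    exact IsPGroup.of_card (n := j) (by rw [Nat.card_zpowers, hj])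
  obtain ⟨k, hk, hkS⟩ := Cfsg.Lib.TwoFusion.exists_sylow_conj S.syl S.syl_le_CZ hpz (zpowers_le.2 haC)
  obtain ⟨p, hp'⟩ := S.exists_code (hkS _ (mem_zpowers _))
  have hpa : S.e p = k * g * a * (k * g)⁻¹ := by rw [hp']; group
  have hkb : k * g * b * (k * g)⁻¹ = S.z := by
    calc k * g * b * (k * g)⁻¹ = k * (g * b * g⁻¹) * k⁻¹ := by group
      _ = S.z := by rw [hg, mem_centralizer_singleton_iff.1 hk, mul_inv_cancel_right]
  have hp2 : p * p = 1 := S.inj (by
    rw [map_mul, map_one, hpa, show k * g * a * (k * g)⁻¹ * (k * g * a * (k * g)⁻¹) =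
      k * g * (a * a) * (k * g)⁻¹ by group, ha2, mul_one, mul_inv_cancel])
  have h := S.balance_z hp2 (x := k * g * x * (k * g)⁻¹) (hpa ▸ conj_Oc _ _ hx) (by
    rw [CZ, ← hkb]
    exact mem_centralizer_singleton_iff.2
      ((show Commute x b from mem_centralizer_singleton_iff.1 hxb).map (MulAut.conj (k * g)).toMonoidHom).eq)
  have h' := conj_Oc (k * g)⁻¹ S.z h
  rw [show (k * g)⁻¹ * S.z * (k * g)⁻¹⁻¹ = b by rw [← hkb]; group,
    show (k * g)⁻¹ * (k * g * x * (k * g)⁻¹) * (k * g)⁻¹⁻¹ = x by group] at h'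
  exact h'

/-- The join of the cores at the first row. -/
noncomputable def WC : Subgroup G := ⨆ a : {a : G // a ∈ S.E ∧ a ≠ 1}, Oc (a : G)

theorem Oc_le_WC {a : G} (ha : a ∈ S.E) (ha1 : a ≠ 1) : Oc a ≤ S.WC :=
  le_iSup (fun a : {a : G // a ∈ S.E ∧ a ≠ 1} => Oc (a : G)) ⟨a, ha, ha1⟩

theorem E_facts {a b : G} (ha : a ∈ S.E) (hb : b ∈ S.E) : a * a = 1 ∧ a * b = b * a := by
  obtain ⟨p, hp, rfl⟩ := ha
  obtain ⟨q, hq, rfl⟩ := hb
  rw [← map_mul, ← map_mul, ← map_mul, (EM_facts hp hq).1, (EM_facts hp hq).2.1, map_one]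
  exact ⟨rfl, rfl⟩

theorem z_mem_E : S.z ∈ S.E := S.mem_map_iff.2 (show inMask mE zM.code.val = true by decide)

theorem card_E : Nat.card S.E = 16 :=
  (card_map_of_injective S.inj).trans ((card_maskSub _ _).trans len_E)

variable (b1 b2 : Bool) (hZ : ∀ a, IsConj S.z (S.e a) ↔ zCode b1 b2 a.code.val = true)
include hZ

theorem E_conj {a : G} (ha : a ∈ S.E) (ha1 : a ≠ 1) : IsConj S.z a := by
  obtain ⟨p, hp, rfl⟩ := ha
  exact (hZ p).2 ((EM_facts hp hp).2.2 (fun e => ha1 (by rw [e, map_one])) b1 b2)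

theorem WC_odd : Odd (Nat.card S.WC) := by
  haveI : Fact (Nat.Prime 2) := ⟨Nat.prime_two⟩
  obtain ⟨h, -⟩ := Cfsg.Agent.S0217.result (p := 2) S.E (fun a ha b hb => (S.E_facts ha hb).2)
    (fun a ha => by rw [pow_two]; exact (S.E_facts ha ha).1) (by rw [S.card_E]; norm_num) (Oc (G := G))
    (fun a _ _ => Cfsg.Lib.Components.centralizerPPrimeCore_le_centralizer a)
    (fun a _ _ => (Oc_odd a).not_two_dvd_nat)
    (fun a ha _ b hb x hx => (mem_normalizer_iff.1
      (Cfsg.Lib.Components.centralizer_le_normalizer_centralizerPPrimeCore a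
        (mem_centralizer_singleton_iff.2 (S.E_facts hb ha).2)) x).1 hx)
    (fun a _ _ => Cfsg.Agent.PF.isSolvable_of_odd _ (Oc_odd a))
    (fun a ha _ b hb hb1 x hx => S.balance (S.E_facts ha ha).1 (S.E_conj b1 b2 hZ hb hb1)
      (S.E_facts ha hb).2 hx.1 hx.2)
  exact Nat.odd_iff.2 (Nat.two_dvd_ne_zero.1 h)

/-- The cores at a four-group of the first row bound the core at an involution centralising it. -/
theorem Oc_le_of_four {F : Subgroup G} (hFE : F ≤ S.E) (h4 : 4 ≤ Nat.card F) {u : G} (hu : u * u = 1)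
    (hcu : ∀ f ∈ F, Commute f u) {K : Subgroup G} (hK : ∀ f ∈ F, f ≠ 1 → Oc f ≤ K) : Oc u ≤ K :=
  Cfsg.Lib.LFourType.le_of_four' h4 (fun _ ha _ hb => (S.E_facts (hFE ha) (hFE hb)).2)
    (fun _ ha => (S.E_facts (hFE ha) (hFE ha)).1) (Oc_odd u)
    (fun f hf => Cfsg.Lib.Components.centralizer_le_normalizer_centralizerPPrimeCore _
      (mem_centralizer_singleton_iff.2 (hcu f hf).eq))
    (fun f hf hf1 _ hx => hK f hf hf1 (S.balance hu (S.E_conj b1 b2 hZ (hFE hf) hf1) (hcu f hf).symm hx.1 hx.2))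

/-- The cores at the involutions of the Sylow subgroup are inside. -/
theorem inv_le {u : G} (hu : u ∈ (S.syl : Subgroup G)) (h2 : u * u = 1) : Oc u ≤ S.WC := by
  obtain ⟨p, rfl⟩ := S.exists_code hu
  have hp : p * p = 1 := S.inj (by rw [map_mul, map_one, h2])
  refine S.Oc_le_of_four b1 b2 hZ (F := (EM ⊓ centralizer ({p} : Set Mdl)).map S.e) (map_mono inf_le_left)
    (by rw [card_map_of_injective S.inj]; exact card_row_cent hp) h2 ?_
    fun f hf hf1 => S.Oc_le_WC (map_mono inf_le_left hf) hf1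
  rintro _ ⟨q, hq, rfl⟩
  exact Commute.map (mem_centralizer_singleton_iff.1 (mem_inf.1 hq).2) S.e

/-- An element mapping 14 and 15 into the Sylow subgroup normalises the join. -/
theorem mem_norm {g : G} (hgz : g * S.z * g⁻¹ ∈ (S.syl : Subgroup G))
    (hg4 : g * S.e (ofN 4) * g⁻¹ ∈ (S.syl : Subgroup G)) : g ∈ normalizer (S.WC : Set G) := by
  have hF : ∀ f ∈ FM.map S.e, g * f * g⁻¹ ∈ (S.syl : Subgroup G) := by
    rintro _ ⟨a, ha, rfl⟩
    have hm := List.all_eq_true.1 four_mask.2.2 _ (mem_maskList (show inMask 12 a.code.val = true from ha))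
    rw [Bool.and_eq_true] at hm
    have hc : a.code.val ∈ [0, 4, 8, 12] := List.contains_iff_mem.1 hm.2
    simp only [List.mem_cons, List.not_mem_nil, or_false] at hc
    rcases hc with e | e | e | e
    · rw [show a = 1 from code_inj.1 e, map_one, mul_one, mul_inv_cancel]; exact one_mem _
    · rw [show a = ofN 4 from code_inj.1 e]; exact hg4
    · rw [show a = zM from code_inj.1 e]; exact hgz
    · rw [show a = ofN 4 * zM from code_inj.1 (e.trans (by decide +kernel)), map_mul,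
        show g * (S.e (ofN 4) * S.e zM) * g⁻¹ = g * S.e (ofN 4) * g⁻¹ * (g * S.e zM * g⁻¹) by group]
      exact mul_mem hg4 hgz
  refine Cfsg.Lib.ZStarApps.mem_normalizer_of_maps fun w hw => ?_
  have hle : S.WC ≤ S.WC.comap (MulAut.conj g).toMonoidHom := iSup_le fun a => by
    obtain ⟨ha, -⟩ := a.2
    refine S.Oc_le_of_four b1 b2 hZ (F := FM.map S.e) (map_mono FM_le_EM)
      (by rw [card_map_of_injective S.inj, show Nat.card FM = 4 from (card_maskSub _ _).trans four_mask.2.1])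
      (S.E_facts ha ha).1 (fun f hf => (S.E_facts (map_mono FM_le_EM hf) ha).2) fun f hf hf1 o ho => ?_
    exact S.inv_le b1 b2 hZ (hF f hf) (by
      rw [show g * f * g⁻¹ * (g * f * g⁻¹) = g * (f * f) * g⁻¹ by group,
        (S.E_facts (map_mono FM_le_EM hf) (map_mono FM_le_EM hf)).1, mul_one, mul_inv_cancel]) (conj_Oc g f ho)
  exact hle hw

/-- The centraliser of the centre normalises the join. -/
theorem CZ_le : S.CZ ≤ normalizer (S.WC : Set G) := by
  intro g hg
  set k : S.CZ := ⟨g, hg⟩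
  have hQn := S.hat.Q_normal
  obtain ⟨y, -, hye⟩ := S.hat.exists_Q (hQn.conj_mem _ (S.hat.mem_Q.2
    (show inMask mQ (ofN 4).code.val = true by decide +kernel)) (QuotientGroup.mk' _ k))
  obtain ⟨o, ho, e⟩ := S.lift_conj (k := k) (a := ofN 4) (b := y) hye.symm
  have hoW : (o : G) ∈ normalizer (S.WC : Set G) :=
    le_normalizer (S.Oc_le_WC S.z_mem_E S.z_ne_one ⟨o, ho, rfl⟩)
  have h : (o : G) * g ∈ normalizer (S.WC : Set G) := by
    refine S.mem_norm b1 b2 hZ ?_ ?_
    · rw [show (o : G) * g * S.z = S.z * ((o : G) * g) from S.lift_central (o * k), mul_inv_cancel_right]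
      exact S.e_mem zM
    · change (o : G) * g * S.e (ofN 4) * ((o : G) * g)⁻¹ = S.e y at e
      rw [e]; exact S.e_mem y
  exact (mul_mem_cancel_left hoW).1 h

variable (hfus : ∀ m : Matrix.SpecialLinearGroup (Fin 5) (ZMod 2), m * embS zM = embS zM * m →
    ∀ a b : Mdl, m * embS a * m⁻¹ = embS b → ∃ g : G, g * S.z = S.z * g ∧ g * S.e a * g⁻¹ = S.e b)
include hfus

/-- The normaliser of the join has one fixed point for every conjugate of the centre. -/
theorem fix_WC {g : G} (hg : g * S.z * g⁻¹ ∈ normalizer (S.WC : Set G)) : g ∈ normalizer (S.WC : Set G) := by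
  set N := normalizer (S.WC : Set G) with hN
  have hC := S.CZ_le b1 b2 hZ
  have hSN : (S.syl : Subgroup G) ≤ N := S.syl_le_CZ.trans hC
  have ho : orderOf (g * S.z * g⁻¹) = 2 := by
    rw [← MulAut.conj_apply, MulEquiv.orderOf_eq,
      orderOf_eq_prime (by rw [pow_two, S.z_sq]) S.z_ne_one]
  obtain ⟨n, hn, hnS⟩ := Cfsg.Lib.TwoFusion.exists_sylow_conj S.syl hSN (X := zpowers (g * S.z * g⁻¹))
    (IsPGroup.of_card (n := 1) (by rw [Nat.card_zpowers, ho, pow_one])) (zpowers_le.2 hg)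
  obtain ⟨a, ha⟩ := S.exists_code (hnS _ (mem_zpowers _))
  have ha' : S.e a = n * g * S.z * (n * g)⁻¹ := by rw [ha]; group
  have hz : zCode b1 b2 a.code.val = true := (hZ a).1 (isConj_iff.2 ⟨n * g, ha'.symm⟩)
  have ha1 : a ≠ 1 := fun e => S.z_ne_one (by
    rw [e, map_one] at ha'
    exact conj_eq_one_iff.1 ha'.symm)
  have ha2 : a * a = 1 := S.inj (by
    rw [map_mul, map_one, ha', show n * g * S.z * (n * g)⁻¹ * (n * g * S.z * (n * g)⁻¹) =
      n * g * (S.z * S.z) * (n * g)⁻¹ by group, S.z_sq, mul_one, mul_inv_cancel])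
  obtain ⟨r, hr, hrz, k, hk, hke⟩ := S.exists_rep hfus ha1 ha2
  have hrt : zCode b1 b2 r = true := by rw [hrz, hz]
  set m := k * (n * g) with hm
  have hme : m * S.z * m⁻¹ = S.e (ofN r) := by rw [← hke, ha', hm]; group
  have hinv : m⁻¹ * S.e (ofN r) * m⁻¹⁻¹ = S.z := by rw [← hme]; group
  have hkN : k ∈ N := hC (mem_centralizer_singleton_iff.2 hk)
  suffices ∃ h ∈ N, h * S.e (ofN r) * h⁻¹ = S.z by
    obtain ⟨h, hh, he⟩ := this
    have hhm : h * m ∈ S.CZ := mem_centralizer_singleton_iff.2 (mul_inv_eq_iff_eq_mul.1 (by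
      calc h * m * S.z * (h * m)⁻¹ = h * (m * S.z * m⁻¹) * h⁻¹ := by group
        _ = S.z := by rw [hme, he]))
    have hmN : m ∈ N := (mul_mem_cancel_left hh).1 (hC hhm)
    rw [hm, ← mul_assoc] at hmN
    exact (mul_mem_cancel_left (mul_mem hkN hn)).1 hmN
  have h8 : S.z ∈ S.A2 ∧ S.z ∈ S.A3 ∧ S.e (ofN 4) ∈ S.A2 ∧ S.e (ofN 4) ∈ S.A3 :=
    ⟨S.mem_map_iff.2 (show inMask mA2 zM.code.val = true by decide),
      S.mem_map_iff.2 (show inMask mA3 zM.code.val = true by decide),
      S.mem_map_iff.2 (show inMask mA2 (ofN 4).code.val = true by decide),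
      S.mem_map_iff.2 (show inMask mA3 (ofN 4).code.val = true by decide)⟩
  have via2 : inMask mA2 (ofN r).code.val = true → ∃ h ∈ N, h * S.e (ofN r) * h⁻¹ = S.z := fun hA => by
    obtain ⟨h, hh, he⟩ := S.fusion_A2 (g := m⁻¹) (S.mem_map_iff.2 hA) (by rw [hinv]; exact h8.1)
    exact ⟨h, S.mem_norm b1 b2 hZ (S.A2_le_syl ((hh _).1 h8.1)) (S.A2_le_syl ((hh _).1 h8.2.2.1)), he.trans hinv⟩
  simp only [List.mem_cons, List.not_mem_nil, or_false] at hr
  rcases hr with rfl | rfl | rfl | rfl | rfl | rfl | rfl | rfl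
  · exact via2 (by decide)
  · exact via2 (by decide)
  · exact via2 (by decide)
  · exact via2 (by decide)
  · exact via2 (by decide)
  · obtain ⟨h, hh, he⟩ := S.fusion_A3 (g := m⁻¹)
      (S.mem_map_iff.2 (show inMask mA3 (ofN 288).code.val = true by decide)) (by rw [hinv]; exact h8.2.1)
    exact ⟨h, S.mem_norm b1 b2 hZ (S.A3_le_syl ((hh _).1 h8.2.1)) (S.A3_le_syl ((hh _).1 h8.2.2.2)), he.trans hinv⟩
  · rw [(rep_bad b1 b2).1] at hrt; exact absurd hrt (by decide)
  · rw [(rep_bad b1 b2).2] at hrt; exact absurd hrt (by decide)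

/-- The normaliser of the join is everything. -/
theorem norm_WC_top [IsSimpleGroup G] : normalizer (S.WC : Set G) = ⊤ := by
  have hC := S.CZ_le b1 b2 hZ
  obtain ⟨t1, t2⟩ := S.tangent b1 b2 hZ
  refine Setting.eq_top_of_rec (S := S) _ hC (S.syl_le_CZ.trans hC) (fun g hg => S.fix_WC b1 b2 hZ hfus hg)
    b1 b2 hZ (fun g x hg hx hy => S.Q_closed hg hx hy) (fun h => ?_) (fun h => ?_)
  · obtain ⟨k, hk, e1, e2⟩ := t1 h
    exact ⟨k, S.mem_norm b1 b2 hZ
      (S.A2_le_syl ((hk _).1 (S.mem_map_iff.2 (show inMask mA2 zM.code.val = true by decide))))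
      (S.A2_le_syl ((hk _).1 (S.mem_map_iff.2 (show inMask mA2 (ofN 4).code.val = true by decide)))), e1, e2⟩
  · obtain ⟨k, hk, e1, e2⟩ := t2 h
    exact ⟨k, S.mem_norm b1 b2 hZ
      (S.A3_le_syl ((hk _).1 (S.mem_map_iff.2 (show inMask mA3 zM.code.val = true by decide))))
      (S.A3_le_syl ((hk _).1 (S.mem_map_iff.2 (show inMask mA3 (ofN 4).code.val = true by decide)))), e1, e2⟩

omit hZ hfus in
/-- **The centraliser of the central involution is core-free.** -/
theorem core_eq_bot [IsSimpleGroup G]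
    (hfus : ∀ m : Matrix.SpecialLinearGroup (Fin 5) (ZMod 2), m * embS zM = embS zM * m →
      ∀ a b : Mdl, m * embS a * m⁻¹ = embS b → ∃ g : G, g * S.z = S.z * g ∧ g * S.e a * g⁻¹ = S.e b)
    (b1 b2 : Bool) (hZ : ∀ a, IsConj S.z (S.e a) ↔ zCode b1 b2 a.code.val = true) :
    Cfsg.pPrimeCore 2 S.CZ = ⊥ := by
  have hN := normalizer_eq_top_iff.1 (S.norm_WC_top b1 b2 hZ hfus)
  have hW : S.WC = ⊥ := by
    refine (hN.eq_bot_or_eq_top).resolve_right fun e => ?_
    have hodd := S.WC_odd b1 b2 hZ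
    rw [e, card_top] at hodd
    have h2 : 2 ∣ Nat.card G := by
      have ho : orderOf S.z = 2 := orderOf_eq_prime (by rw [pow_two, S.z_sq]) S.z_ne_one
      exact ho ▸ orderOf_dvd_natCard S.z
    exact hodd.not_two_dvd_nat h2
  refine (map_eq_bot_iff_of_injective _ S.CZ.subtype_injective).1 (le_bot_iff.1 ?_)
  rw [← hW]
  exact S.Oc_le_WC S.z_mem_E S.z_ne_one

end Setting

end Cfsg.Lib.LFiveType
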