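import Cfsg.Agent.LFiveType.Setting

/-!
# The Sylow 2-subgroup modulo the centre: facts on bits, checked by enumeration
-/

set_option autoImplicit false
set_option maxRecDepth 100000
set_option Elab.async false

namespace Cfsg.Lib.LFiveType

/-- Forgetting the bit of the centre. -/
def bn (n : ℕ) : ℕ := n &&& 1015

/-- The product modulo the centre. -/
def bm (a b : ℕ) : ℕ := bn (mulN a b)

/-- The inverse modulo the centre: the seventh power. -/
def bi (s : ℕ) : ℕ := bn (mulN (mulN s (mulN s s)) (mulN (mulN s s) (mulN s s)))

/-- Conjugation modulo the centre. -/
def cjB (s a : ℕ) : ℕ := bm (bm s a) (bi s)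

/-- The codes modulo the centre. -/
def BL : List ℕ := (List.range 1024).filter fun n => Nat.beq (bn n) n

/-- The codes whose classes commute with that of `a`. -/
def cbL (a : ℕ) : List ℕ := BL.filter fun b => Nat.beq (bm a b) (bm b a)

/-- A code of trivial square modulo the centre. -/
def sqB (a : ℕ) : Bool := Nat.beq (bm a a) 0

/-- A code of Q. -/
def inV (a : ℕ) : Bool := inMask mQ a

/-- The representatives of the classes moved out first. -/
def outReps : List ℕ := [16, 20, 32, 34, 128, 192, 288, 290]

/-- The representatives of the remaining classes outside Q. -/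
def leftReps : List ℕ := [129, 528, 193, 532]

/-- The codes of the classes moved out first. -/
def outL : List ℕ :=
  [16, 18, 20, 22, 32, 34, 36, 38, 48, 50, 52, 54, 80, 82, 84, 86, 96, 98, 100, 102, 112, 114, 116, 118, 128, 132,
    160, 164, 192, 196, 224, 228, 288, 290, 292, 294, 352, 354, 356, 358, 384, 388, 416, 420, 448, 452, 480, 484]

/-- In the classes moved out first. -/
def outB (a : ℕ) : Bool := outL.contains a

/-- Conjugators meeting every class. -/
def conjB : List ℕ := [0, 3, 272, 273, 640, 643, 944, 945]

/-- What may share an elementary subgroup with `p` that avoids the classes moved out first. -/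
def cavL (p : ℕ) : List ℕ := (cbL p).filter fun q => sqB q && !outB q && !outB (bm p q)

/-- At most two cosets of Q in the centraliser. -/
def smallB (v : ℕ) : Bool :=
  ((cbL v).filter fun a => !inV a).all fun a => ((cbL v).filter fun a => !inV a).all fun b => inV (bm a b)

theorem bn_bit : ∀ n : Fin 1024, bn n.val < 1024 ∧ bn (bn n.val) = bn n.val ∧
    (bn n.val = n.val ∨ bn n.val = mulN n.val 8) := by
  decide +kernel

theorem bn_kernel : ∀ n : Fin 1024, bn n.val = 0 → n.val = 0 ∨ n.val = 8 := by decide +kernel

theorem bi_spec : ∀ n : Fin 1024, bm n.val (bi n.val) = 0 := by decide +kernel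

theorem inV_facts : (BL.all fun a => !inV a || BL.all fun b => !inV b ||
    (Nat.beq (bm a b) (bm b a) && sqB a)) = true := by
  decide +kernel

theorem out_reduce : (BL.all fun y => !outB y || conjB.any fun s => outReps.contains (cjB s y)) = true := by
  decide +kernel

theorem left_reduce : (BL.all fun y => inV y || !sqB y || outB y ||
    conjB.any fun s => leftReps.contains (cjB s y)) = true := by
  decide +kernel

theorem outReps_notV : (outReps.all fun y => sqB y && !inV y) = true := by decide +kernel

theorem cbL_size : (BL.all fun v => !inV v || ((cbL v).all inV && Nat.beq (cbL v).length 64) ||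
    decide (128 ≤ (cbL v).length)) = true := by
  decide +kernel

theorem outside_size : (BL.all fun y => inV y || !sqB y || decide ((cbL y).length ≤ 128)) = true := by
  decide +kernel

/-- An involution outside Q lies in no elementary abelian subgroup of order 64. -/
theorem outside_no_64 : (BL.all fun a => inV a || !sqB a || ((cbL a).filter sqB).any fun b =>
    decide (((cbL a).filter fun q => sqB q && Nat.beq (bm b q) (bm q b)).length < 64) &&
      decide (((cbL a).filter fun q => sqB q && !Nat.beq q b).length < 64)) = true := by
  decide +kernel


theorem roots_290 : (BL.any fun r => Nat.beq (bm r r) 290) = true ∧ mulN 290 290 = 8 := by decide +kernel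

theorem square_in_V : (BL.all fun d => !inV (bm d d) || Nat.beq (mulN (bm d d) (bm d d)) 0) = true := by
  decide +kernel

theorem left_facts : (leftReps.all fun y => Nat.beq (cbL y).length 64 && decide ((cavL y).length ≤ 16) &&
    decide (16 ≤ ((cbL y).filter inV).length) &&
    ((cbL y).filter inV).any fun c => outB (bm y c)) = true := by
  decide +kernel

theorem cav_size : (BL.all fun p => inV p || !sqB p || outB p || decide ((cavL p).length ≤ 16)) = true := by
  decide +kernel

theorem cav_central : (BL.all fun p => inV p || !sqB p || outB p || BL.all fun v => !inV v ||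
    !((cavL p).all fun q => Nat.beq (bm v q) (bm q v)) || (cavL p).contains v || smallB v) = true := by
  decide +kernel

theorem bn_mul_eight : ∀ n : Fin 1024, bn (mulN n.val 8) = bn n.val := by decide +kernel

theorem bn_inV : ∀ n : Fin 1024, inV n.val = true → inV (bn n.val) = true := by decide +kernel

end Cfsg.Lib.LFiveType
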