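import Cfsg.Agent.LFiveType.Setting

/-!
# Finite facts about Q and the three commuting involutions above it
-/

set_option autoImplicit false
set_option maxRecDepth 100000
set_option Elab.async false

namespace Cfsg.Lib.LFiveType

/-- The code without the bit of the central involution. -/
def bz (a : ℕ) : ℕ := a &&& 1015

/-- The inverse of a code. -/
def invN (a : ℕ) : ℕ := mulN (mulN a (mulN a a)) (mulN (mulN a a) (mulN a a))

/-- The commutator of codes. -/
def cmN (a b : ℕ) : ℕ := mulN (mulN a b) (mulN (invN a) (invN b))

theorem code_inv (a : Mdl) : (a⁻¹).code.val = invN a.code.val := by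
  show (invM a).code.val = _
  simp only [invM, code_mul, invN]

theorem code_comm (a b : Mdl) : (a * b * a⁻¹ * b⁻¹).code.val = cmN a.code.val b.code.val := by
  rw [mul_assoc (a * b), code_mul, code_mul, code_mul, code_inv, code_inv, cmN]

/-- Every element outside Q reaches the coset of 24. -/
def escapeChk : Bool := (List.range 1024).all fun a => inMask mQ a || Nat.beq (a &&& 176) 32 ||
  (List.range 1024).any fun b => Nat.beq (cmN a b &&& 176) 32

theorem escape_ok : escapeChk = true := by decide +kernel

/-- Q is normal, squares and commutators of its elements lie in the centre. -/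
def qChk : Bool := (maskList mQ).all fun q =>
  Nat.beq (bz (mulN q q)) 0 && ((maskList mQ).all fun r => Nat.beq (bz (cmN q r)) 0) &&
    ((List.range 10).all fun i => inMask mQ (mulN (mulN (2 ^ i) q) (invN (2 ^ i))))

theorem qChk_ok : qChk = true := by decide +kernel

/-- Q contains its centralisers. -/
def selfChk : Bool := (List.range 1024).all fun g =>
  ((!([1, 2, 4, 64, 256, 512].all fun q => Nat.beq (bz (cmN g q)) 0)) || inMask mQ g) &&
    ((!([1, 2, 4, 64, 256, 512].all fun q => Nat.beq (cmN g q) 0)) || inMask 8 g)

theorem selfChk_ok : selfChk = true := by decide +kernel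

/-- The codes of the span of a pair and the centre. -/
def span3 (u v : ℕ) : List ℕ := [0, 8, u, mulN u 8, v, mulN v 8, mulN u v, mulN (mulN u v) 8]

/-- A line (u, v) of Q, its perpendicular is spanned by it and (a, b); the involutions there. -/
def perpChk (u v a b : ℕ) : Bool := (maskList mQ).all fun x =>
  (!(Nat.beq (cmN x u) 0 && Nat.beq (cmN x v) 0)) ||
    ((span3 u v).contains x ||
      (Nat.beq (mulN x x) 0 && (span3 u v).any fun w => Nat.beq x (mulN a w) || Nat.beq x (mulN b w)) ||
      (!Nat.beq (mulN x x) 0 && (span3 u v).any fun w => Nat.beq x (mulN (mulN a b) w)))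

/-- The commutators of Q with an involution lie on the line, and generate it. -/
def lineChk (t u v xu xv : ℕ) : Bool :=
  ((maskList mQ).all fun x => (span3 u v).contains (cmN x t)) &&
    Nat.beq (bz (cmN xu t)) (bz u) && Nat.beq (bz (cmN xv t)) (bz v) && inMask mQ xu && inMask mQ xv &&
    inMask mQ u && inMask mQ v

theorem perp_ok : perpChk 4 64 2 256 = true ∧ perpChk 2 64 4 512 = true ∧ perpChk 6 64 4 768 = true := by
  decide +kernel

theorem line_ok : lineChk 32 4 64 1 512 = true ∧ lineChk 16 2 64 1 256 = true ∧ lineChk (mulN 16 32) 6 64 1 256 = true ∧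
    Nat.beq (cmN 2 32) 0 = true ∧ Nat.beq (bz (cmN 6 32)) 0 = true ∧ Nat.beq (cmN 64 32) 0 = true := by
  decide +kernel

end Cfsg.Lib.LFiveType
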