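import Cfsg.Agent.LFiveType.FactsCent
import Cfsg.Agent.HeldCent.BadSound

/-!
# The five other extensions have no outer involution with elementary centraliser in Q
-/

set_option autoImplicit false
set_option maxRecDepth 100000
set_option Elab.async false

namespace Cfsg.Lib.LFiveType

open Cfsg.Lib.HeldCent in
/-- Every outer involution commutes with an element of order 4 of Q. -/
def noElem (T : Cfsg.Lib.HeldCent.BadD) : Bool :=
  T.invs.all fun p => Nat.blt p.1 128 || (List.range 128).any fun z =>
    Nat.beq (mul T.par p.1 z) (mul T.par z p.1) && !Nat.beq (mul T.par z z) 0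

open Cfsg.Lib.HeldCent in
theorem noElem_ok : noElem bad1 = true ∧ noElem bad2 = true ∧ noElem bad3 = true ∧ noElem bad4 = true ∧
    noElem bad5 = true := by decide +kernel

/-- An outer involution of the model whose centraliser in Q is elementary. -/
theorem witness_elem : (inMask mQ 20 = false) ∧ mulN 20 20 = 0 ∧
    ((maskList mQ).all fun c => !Nat.beq (mulN 20 c) (mulN c 20) || Nat.beq (mulN c c) 0) = true := by
  decide +kernel

/-- Every element of Q outside the centre fails to commute with some element of Q. -/
theorem centre_Q : ((maskList mQ).all fun c => Nat.beq c 0 || Nat.beq c 8 ||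
    (maskList mQ).any fun d => !Nat.beq (mulN c d) (mulN d c)) = true := by decide +kernel

theorem comm_Q : ((maskList mQ).all fun c => (maskList mQ).all fun d => Nat.beq (cmN c d) 0 || Nat.beq (cmN c d) 8) =
    true ∧ cmN 1 64 = 8 ∧ (maskList mQ).length = 128 := by decide +kernel

end Cfsg.Lib.LFiveType
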