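import Cfsg.Agent.LFiveType.FactsCent

/-!
# Finite facts for the transfer on 12 and 45
-/

set_option autoImplicit false
set_option maxRecDepth 100000
set_option Elab.async false

namespace Cfsg.Lib.LFiveType

/-- The squares of the codes. -/
def sqList : List ℕ := ((List.range 1024).map fun c => mulN c c).eraseDups

/-- Commutators of squares lie in W. -/
def gammaChk : Bool := sqList.all fun q => (List.range 1024).all fun w => inMask mW (cmN q w)

theorem gamma_ok : gammaChk = true := by decide +kernel

/-- The centraliser of a code. -/
def centCodes (a : ℕ) : List ℕ := (List.range 1024).filter fun c => Nat.beq (mulN a c) (mulN c a)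

/-- Outside R the centraliser has no commutator of a square outside the centre. -/
def moveAt (a : ℕ) : Bool :=
  ((centCodes a).map fun c => mulN c c).eraseDups.all fun q => (centCodes a).all fun w => inMask 8 (cmN q w)

/-- The check for the transfer on the bit `k`. -/
def moveChk (k : ℕ) : Bool :=
  (List.range 1024).all fun a => a.testBit k || !Nat.beq (mulN a a) 0 || inMask mR a || moveAt a

theorem move_ok : moveChk 0 = true ∧ moveChk 9 = true := by decide +kernel

theorem witness_ok : (Nat.beq (mulN 1 134) (mulN 134 1) && Nat.beq (mulN 1 512) (mulN 512 1) &&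
    Nat.beq (cmN (mulN 134 134) 512) 8) = true ∧
    (Nat.beq (mulN 512 336) (mulN 336 512) && Nat.beq (mulN 512 1) (mulN 1 512) &&
    Nat.beq (cmN (mulN 336 336) 1) 8) = true ∧ inMask mQ 1 = true ∧ inMask mQ 512 = true := by decide +kernel

end Cfsg.Lib.LFiveType
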