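import Cfsg.Agent.LFiveType.FactsQ

/-!
# Finite facts for the centraliser modulo Q: the dihedral image, points and lines of Q modulo the centre
-/

set_option autoImplicit false
set_option maxRecDepth 100000
set_option Elab.async false

namespace Cfsg.Lib.LFiveType

/-- Representatives of the image of the Sylow subgroup modulo Q. -/
def pL : List ℕ := [0, 16, 32, 48, 128, 144, 160, 176]

theorem modQ_ok : ((List.range 1024).all fun a => (inMask mQ a == Nat.beq (a &&& 176) 0) &&
    pL.contains (a &&& 176) && inMask mQ (mulN (invN a) (a &&& 176))) = true := by decide +kernel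

/-- The commutators of Q with a code, modulo the centre. -/
def commImg (t : ℕ) : List ℕ := ((maskList mQ).map fun x => bz (cmN x t)).eraseDups

/-- The points of Q: cosets of involutions other than the centre. -/
def singL : List ℕ :=
  (((maskList mQ).filter fun c => Nat.beq (mulN c c) 0 && !Nat.beq (bz c) 0).map bz).eraseDups

theorem singL_len : singL.length = 35 := by decide +kernel

/-- A point is fixed by the Sylow subgroup. -/
def ptFix (p : ℕ) : Bool := (List.range 1024).all fun a => Nat.beq (bz (mulN (mulN a p) (invN a))) (bz p)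

theorem ptFix_ok : ptFix 64 = true ∧ ptFix 4 = true ∧ ptFix 68 = true := by decide +kernel

theorem inter_ok : ((commImg 16).all fun c => !((commImg 32).contains c && (commImg 48).contains c) ||
      Nat.beq c 0 || Nat.beq c 64) = true ∧
    ((commImg 128).all fun c => !((commImg 32).contains c && (commImg 160).contains c) ||
      Nat.beq c 0 || Nat.beq c 4) = true ∧
    ([16, 32, 48].all fun t => (commImg t).contains 64) = true ∧
    ([128, 32, 160].all fun t => (commImg t).contains 4) = true ∧
    (commImg 32).contains 68 = true ∧ ([16, 48, 128, 160].all fun t => !(commImg t).contains 68) = true := by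
  decide +kernel

/-- A point moved by three involutions fails to commute with `p`; its image by `s` commutes with it. -/
def movedChk (p s u v w : ℕ) : Bool := (maskList mQ).all fun c =>
  !Nat.beq (mulN c c) 0 || [u, v, w].any (fun t => Nat.beq (bz (mulN (mulN t c) (invN t))) (bz c)) ||
    (!Nat.beq (cmN c p) 0 && Nat.beq (cmN (mulN (mulN s c) (invN s)) c) 0)

theorem moved_ok : movedChk 64 16 16 32 48 = true ∧ movedChk 4 128 128 32 160 = true := by decide +kernel

theorem functional_ok : ((maskList mQ).all fun y => (y.testBit 0 || Nat.beq (cmN y 64) 0) &&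
    (y.testBit 9 || Nat.beq (cmN y 4) 0)) = true ∧ cmN 1 64 = 8 ∧ cmN 512 4 = 8 := by decide +kernel

theorem quot_rels : (∀ i ∈ pL, ∀ j ∈ pL, mulN i j < 1024) ∧
    mulN 16 128 &&& 176 = 176 ∧ mulN 176 176 &&& 176 = 32 ∧
    mulN (mulN 16 176) 16 &&& 176 = invN 176 &&& 176 ∧
    mulN 16 16 = 0 ∧ mulN 32 32 = 0 ∧ mulN 128 128 = 0 ∧ mulN 16 32 = 48 ∧ mulN 32 16 = 48 ∧
    mulN (mulN 16 128) 16 &&& 176 = 160 ∧ mulN (mulN 128 16) 128 &&& 176 = 48 ∧
    mulN (mulN (mulN 16 128) 16) 128 &&& 176 = 32 ∧ mulN 128 32 &&& 176 = 160 ∧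
    (pL.filter fun i => !Nat.beq i 0 && Nat.beq (mulN i i &&& 176) 0) = [16, 32, 48, 128, 160] := by
  decide +kernel

end Cfsg.Lib.LFiveType
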