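import Cfsg.Agent.LFiveType.FactsCent
import Cfsg.Prelude.Def_Solvable
import Cfsg.Prelude.Def_TwoFusion

/-!
# The centraliser modulo its odd core: elements fixing a line of Q act as 2-elements
-/

set_option autoImplicit false
set_option linter.unusedSectionVars false
set_option maxRecDepth 100000

namespace Cfsg.Lib.LFiveType

open Subgroup

theorem mulN_eight (a : ℕ) : mulN a 8 = a ^^^ 8 := by
  have h4 : ((8 : ℕ) >>> 4 = 0) ∧ (8 : ℕ) >>> 7 = 0 ∧ (8 : ℕ) >>> 9 = 0 := by decide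
  simp only [mulN, corN, h4.1, h4.2.1, h4.2.2]
  simp

theorem code_mul_z (a : Mdl) : (a * zM).code.val = a.code.val ^^^ 8 := by
  rw [code_mul, show zM.code.val = 8 from rfl, mulN_eight]

theorem bz_eq_iff {a b : Mdl} : bz a.code.val = bz b.code.val ↔ b = a ∨ b = a * zM := by
  constructor
  · intro h
    have hk : ∀ k, k ≠ 3 → a.code.val.testBit k = b.code.val.testBit k := by
      intro k hk
      rcases Nat.lt_or_ge k 10 with h10 | h10
      · have h1 := congrArg (fun n => n.testBit k) h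
        simp only [bz, Nat.testBit_and] at h1
        have : (1015 : ℕ).testBit k = true := by interval_cases k <;> first | rfl | exact absurd rfl hk
        rwa [this, Bool.and_true, Bool.and_true] at h1
      · have hp := Nat.pow_le_pow_right (show 2 > 0 by norm_num) h10
        rw [Nat.testBit_lt_two_pow (lt_of_lt_of_le a.code.isLt hp), Nat.testBit_lt_two_pow (lt_of_lt_of_le b.code.isLt hp)]
    by_cases h3 : a.code.val.testBit 3 = b.code.val.testBit 3
    · exact Or.inl (code_inj.1 (Nat.eq_of_testBit_eq fun k => by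
        by_cases hk3 : k = 3
        · rw [hk3, h3]
        · rw [hk k hk3]))
    · refine Or.inr (code_inj.1 (Nat.eq_of_testBit_eq fun k => ?_))
      rw [code_mul_z, Nat.testBit_xor, show (8 : ℕ) = 2 ^ 3 from rfl, Nat.testBit_two_pow]
      by_cases hk3 : k = 3
      · subst hk3
        revert h3
        cases a.code.val.testBit 3 <;> cases b.code.val.testBit 3 <;> simp
      · rw [← hk k hk3]
        simp [Ne.symm hk3]
  · rintro (rfl | rfl)
    · rfl
    · refine Nat.eq_of_testBit_eq fun k => ?_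
      rw [code_mul_z, bz, bz, Nat.testBit_and, Nat.testBit_and, Nat.testBit_xor, show (8 : ℕ) = 2 ^ 3 from rfl,
        Nat.testBit_two_pow]
      by_cases hk : k = 3
      · subst hk; simp [show (1015 : ℕ).testBit 3 = false from rfl]
      · simp [Ne.symm hk]

/-- The centraliser of the central involution modulo its odd core. -/
structure Hat (H : Type*) [Group H] extends Setting H where
  central : ∀ h : H, h * e zM = e zM * h
  odd_free : ∀ N : Subgroup H, N.Normal → Odd (Nat.card N) → N = ⊥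
  Q_closed : ∀ g : H, ∀ q ∈ QM, g * e q * g⁻¹ ∈ (syl : Subgroup H) → ∃ r ∈ QM, e r = g * e q * g⁻¹
  line_fusion : ∀ g : H, ∀ a b : Mdl, (span3 4 64).contains a.code.val = true →
    (span3 4 64).contains b.code.val = true → g * e a * g⁻¹ = e b → bz a.code.val = bz b.code.val

namespace Hat

variable {H : Type*} [Group H] [Finite H] (S : Hat H)

/-- Congruence modulo the central involution. -/
def Eqz (x y : H) : Prop := y = x ∨ y = x * S.z

theorem z_comm (h : H) : h * S.z = S.z * h := S.central h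

theorem zz : S.z * S.z = 1 := S.toSetting.z_sq

variable {S}

theorem Eqz.refl (x : H) : S.Eqz x x := Or.inl rfl

theorem Eqz.symm {x y : H} (h : S.Eqz x y) : S.Eqz y x := by
  rcases h with h | h
  · exact Or.inl h.symm
  · exact Or.inr (by rw [h, mul_assoc, S.zz, mul_one])

theorem Eqz.trans {x y w : H} (h : S.Eqz x y) (h' : S.Eqz y w) : S.Eqz x w := by
  rcases h with rfl | rfl <;> rcases h' with rfl | rfl
  · exact Or.inl rfl
  · exact Or.inr rfl
  · exact Or.inr rfl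
  · exact Or.inl (by rw [mul_assoc, S.zz, mul_one])

theorem Eqz.mul {x x' y y' : H} (h : S.Eqz x x') (h' : S.Eqz y y') : S.Eqz (x * y) (x' * y') := by
  rcases h with rfl | rfl <;> rcases h' with rfl | rfl
  · exact Or.inl rfl
  · exact Or.inr (mul_assoc _ _ _).symm
  · exact Or.inr (by rw [mul_assoc, ← S.z_comm, mul_assoc])
  · exact Or.inl (by
      calc x * S.z * (y * S.z) = x * (S.z * y) * S.z := by group
        _ = x * y * (S.z * S.z) := by rw [← S.z_comm]; group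
        _ = x * y := by rw [S.zz, mul_one])

theorem Eqz.conj (g : H) {x y : H} (h : S.Eqz x y) : S.Eqz (g * x * g⁻¹) (g * y * g⁻¹) := by
  rcases h with rfl | rfl
  · exact Eqz.refl _
  · exact Or.inr (by
      calc g * (x * S.z) * g⁻¹ = g * x * (S.z * g⁻¹) := by group
        _ = g * x * g⁻¹ * S.z := by rw [← S.z_comm]; group)

theorem Eqz.commute_iff {x x' : H} (h : S.Eqz x x') (y : H) : Commute x y ↔ Commute x' y := by
  rcases h with rfl | rfl
  · exact Iff.rfl
  · have hz : Commute S.z y := (S.z_comm y).symm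
    refine ⟨fun h => h.mul_left hz, fun h => ?_⟩
    have := h.mul_left hz
    rwa [mul_assoc, S.zz, mul_one] at this

variable (S)

theorem mem_Q {a : Mdl} : S.e a ∈ S.Q ↔ inMask mQ a.code.val = true := S.toSetting.mem_map_iff

theorem exists_Q {x : H} (h : x ∈ S.Q) : ∃ a : Mdl, inMask mQ a.code.val = true ∧ S.e a = x := by
  obtain ⟨a, ha, rfl⟩ := h
  exact ⟨a, ha, rfl⟩

theorem eqz_e {a b : Mdl} : S.Eqz (S.e a) (S.e b) ↔ bz a.code.val = bz b.code.val := by
  rw [bz_eq_iff]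
  constructor
  · rintro (h | h)
    · exact Or.inl (S.inj h)
    · exact Or.inr (S.inj (by rw [h, Setting.z, map_mul]))
  · rintro (rfl | rfl)
    · exact Eqz.refl _
    · exact Or.inr (by rw [Setting.z, map_mul])

theorem z_mem_Q : S.z ∈ S.Q := S.mem_Q.2 rfl

theorem eqz_mem_Q {x y : H} (hx : x ∈ S.Q) (h : S.Eqz x y) : y ∈ S.Q := by
  rcases h with rfl | rfl
  · exact hx
  · exact mul_mem hx S.z_mem_Q

theorem eqz_list {x : H} {l : List ℕ} {a : Mdl} (ha : l.contains (a.code.val) = true) (hx : S.e a = x) :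
    ∃ b : Mdl, l.contains b.code.val = true ∧ S.e b = x := ⟨a, ha, hx⟩

theorem maskList_mem {m : ℕ} {a : Mdl} (h : inMask m a.code.val = true) : a.code.val ∈ maskList m :=
  List.mem_filter.2 ⟨List.mem_range.2 a.code.isLt, h⟩

theorem Q_facts {a b : Mdl} (ha : inMask mQ a.code.val = true) (hb : inMask mQ b.code.val = true) :
    S.Eqz 1 (S.e a * S.e a) ∧ S.Eqz 1 (S.e a * S.e b * (S.e a)⁻¹ * (S.e b)⁻¹) := by
  have h := qChk_ok
  simp only [qChk, List.all_eq_true, Bool.and_eq_true, Nat.beq_eq] at h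
  obtain ⟨⟨h1, h2⟩, -⟩ := h _ (maskList_mem ha)
  have h2' := h2 _ (maskList_mem hb)
  rw [← map_mul, ← map_mul, ← map_inv, ← map_mul, ← map_inv, ← map_mul, ← map_one S.e, S.eqz_e, S.eqz_e,
    code_comm, code_mul, h1, h2']
  exact ⟨rfl, rfl⟩

/-- The elements normalising Q and centralising it modulo the centre. -/
def L : Subgroup H where
  carrier := {g | ∀ x ∈ S.Q, S.Eqz x (g * x * g⁻¹)}
  one_mem' := fun x _ => by simp [Eqz.refl]
  mul_mem' := fun {g h} hg hh x hx => by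
    have h1 := hh x hx
    have h2 := (h1.conj g)
    rw [show g * h * x * (g * h)⁻¹ = g * (h * x * h⁻¹) * g⁻¹ by group]
    exact (hg x hx).trans h2
  inv_mem' := fun {g} hg x hx => by
    have h1 := (hg x hx).conj g⁻¹
    rw [show g⁻¹ * (g * x * g⁻¹) * g⁻¹⁻¹ = x by group, show g⁻¹ * x * g⁻¹⁻¹ = g⁻¹ * x * g⁻¹⁻¹ from rfl] at h1
    exact h1.symm

theorem mem_L {g : H} : g ∈ S.L ↔ ∀ x ∈ S.Q, S.Eqz x (g * x * g⁻¹) := Iff.rfl

theorem Q_le_L : S.Q ≤ S.L := by
  intro g hg x hx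
  obtain ⟨a, ha, rfl⟩ := S.exists_Q hg
  obtain ⟨b, hb, rfl⟩ := S.exists_Q hx
  have h := ((S.Q_facts ha hb).2).mul (Eqz.refl (S := S) (S.e b))
  rwa [one_mul, show S.e a * S.e b * (S.e a)⁻¹ * (S.e b)⁻¹ * S.e b = S.e a * S.e b * (S.e a)⁻¹ by group] at h

theorem Eqz.inv {x y : H} (h : S.Eqz x y) : S.Eqz x⁻¹ y⁻¹ := by
  rcases h with rfl | rfl
  · exact Eqz.refl _
  · refine Or.inr ?_
    rw [mul_inv_rev, inv_eq_of_mul_eq_one_right S.zz, S.z_comm]

/-- The elements fixed modulo the centre by a conjugation. -/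
def Fx (k : H) : Subgroup H where
  carrier := {x | S.Eqz x (k * x * k⁻¹)}
  one_mem' := by simp [Eqz.refl]
  mul_mem' := fun {x y} hx hy => by
    show S.Eqz (x * y) (k * (x * y) * k⁻¹)
    rw [show k * (x * y) * k⁻¹ = k * x * k⁻¹ * (k * y * k⁻¹) by group]
    exact hx.mul hy
  inv_mem' := fun {x} hx => by
    show S.Eqz x⁻¹ (k * x⁻¹ * k⁻¹)
    rw [show k * x⁻¹ * k⁻¹ = (k * x * k⁻¹)⁻¹ by group]
    exact Eqz.inv S hx

theorem mem_maskQ_lt {c : ℕ} (hc : inMask mQ c = true) : c < 1024 := by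
  simp only [inMask, Nat.beq_eq] at hc
  exact hc ▸ lt_of_le_of_lt Nat.and_le_right (by decide)

/-- An element normalising Q, fixing a line and with an odd power in `L` lies in `L`. -/
theorem mem_L_of_line {u v a b : ℕ} (hchk : perpChk u v a b = true) (hu : inMask mQ u = true)
    (hv : inMask mQ v = true) (ha : inMask mQ a = true) (hb : inMask mQ b = true)
    (hab : ∀ {c : ℕ}, c = a ∨ c = b → cmN c u = 0 ∧ cmN c v = 0 ∧ mulN c c = 0) {g : H}
    (hg : ∀ x, x ∈ S.Q → g * x * g⁻¹ ∈ S.Q) {n : ℕ} (hn : Odd n) (hgn : g ^ n ∈ S.L)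
    (hgu : S.Eqz (S.e (ofN u)) (g * S.e (ofN u) * g⁻¹)) (hgv : S.Eqz (S.e (ofN v)) (g * S.e (ofN v) * g⁻¹)) :
    g ∈ S.L := by
  set U := S.e (ofN u) with hU
  set V := S.e (ofN v) with hV
  set A := S.e (ofN a) with hA
  set B := S.e (ofN b) with hB
  have hcode : ∀ {c : ℕ}, inMask mQ c = true → (ofN c).code.val = c := fun hc => ofN_code (mem_maskQ_lt hc)
  have mQ' : ∀ {c : ℕ}, inMask mQ c = true → S.e (ofN c) ∈ S.Q := fun hc => S.mem_Q.2 (by rw [hcode hc]; exact hc)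
  set W := Subgroup.closure ({U, V, S.z} : Set H) with hW
  have zW : S.z ∈ W := subset_closure (by simp)
  have WQ : W ≤ S.Q := (closure_le _).2 (by
    rintro x (rfl | rfl | rfl)
    exacts [mQ' hu, mQ' hv, S.z_mem_Q])
  have Wfix : W ≤ S.Fx g := (closure_le _).2 (by
    rintro x (rfl | rfl | rfl)
    · exact hgu
    · exact hgv
    · exact Or.inl (by rw [S.z_comm, mul_inv_cancel_right]))
  have eqzW : ∀ {x y : H}, S.Eqz x y → x ∈ W → y ∈ W := by
    rintro x y (rfl | rfl) hx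
    exacts [hx, mul_mem hx zW]
  have gW : ∀ w ∈ W, g * w * g⁻¹ ∈ W := fun w hw => eqzW (Wfix hw) hw
  have giW : ∀ w : H, g * w * g⁻¹ ∈ W → w ∈ W := fun w hw => by
    have h := (Wfix hw).conj g⁻¹
    rw [show g⁻¹ * (g * w * g⁻¹) * g⁻¹⁻¹ = w by group,
      show g⁻¹ * (g * (g * w * g⁻¹) * g⁻¹) * g⁻¹⁻¹ = g * w * g⁻¹ by group] at h
    exact eqzW h.symm hw
  have sqQ : ∀ {x : H}, x ∈ S.Q → S.Eqz 1 (x * x) := fun hx => by
    obtain ⟨c, hc, rfl⟩ := S.exists_Q hx
    exact (S.Q_facts hc hc).1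
  have conjW : ∀ {d w : H}, d ∈ S.Q → w ∈ W → d⁻¹ * w * d ∈ W := fun {d w} hd hw => by
    obtain ⟨c, hc, ec⟩ := S.exists_Q (inv_mem hd : d⁻¹ ∈ S.Q)
    obtain ⟨c', hc', rfl⟩ := S.exists_Q (WQ hw)
    have h := ((S.Q_facts hc hc').2).mul (Eqz.refl (S := S) (S.e c'))
    rw [one_mul] at h
    have e : d = (S.e c)⁻¹ := by rw [ec, inv_inv]
    subst e
    rw [inv_inv]
    exact eqzW (by rwa [show S.e c * S.e c' * (S.e c)⁻¹ * (S.e c')⁻¹ * S.e c' = S.e c * S.e c' * (S.e c)⁻¹ by group]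
      at h) hw
  -- the perpendicular
  have hperp : ∀ x ∈ S.Q, Commute x U → Commute x V → x ∈ W ∨
      (x * x = 1 ∧ (A⁻¹ * x ∈ W ∨ B⁻¹ * x ∈ W)) ∨ (A * B)⁻¹ * x ∈ W ∧ x * x ≠ 1 := by
    intro x hx hxu hxv
    obtain ⟨c, hc, rfl⟩ := S.exists_Q hx
    have h := List.all_eq_true.1 hchk _ (maskList_mem hc)
    have cm : ∀ {d : ℕ}, inMask mQ d = true → Commute (S.e c) (S.e (ofN d)) → cmN c.code.val d = 0 := fun {d} hd hh => by
      have : c * ofN d * c⁻¹ * (ofN d)⁻¹ = 1 := S.inj (by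
        rw [map_mul, map_mul, map_mul, map_inv, map_inv, hh.eq, mul_inv_cancel_right, mul_inv_cancel, map_one])
      have := congrArg (fun m : Mdl => m.code.val) this
      simpa only [code_comm, hcode hd, code_one] using this
    rw [cm hu hxu, cm hv hxv] at h
    simp only [Nat.beq_refl, Bool.and_self, Bool.not_true, Bool.false_or, Bool.or_eq_true, Bool.and_eq_true,
      Bool.not_eq_true', List.any_eq_true, Nat.beq_eq, List.contains_eq_mem, decide_eq_true_eq] at h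
    have hu' := mem_maskQ_lt hu
    have hv' := mem_maskQ_lt hv
    have hspan : ∀ {w : ℕ}, w ∈ span3 u v → w < 1024 ∧ S.e (ofN w) ∈ W := by
      intro w hw
      have eN : ∀ {i j : ℕ}, i < 1024 → j < 1024 → S.e (ofN (mulN i j)) = S.e (ofN i) * S.e (ofN j) := fun hi hj => by
        rw [← map_mul]
        exact congrArg _ (code_inj.1 (by rw [code_mul, ofN_code hi, ofN_code hj, ofN_code (mulN_lt hi hj)]))
      have h8 : S.e (ofN 8) ∈ W := zW
      have mU : S.e (ofN u) ∈ W := subset_closure (by simp [hU])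
      have mV : S.e (ofN v) ∈ W := subset_closure (by simp [hV])
      have l8 : (8 : ℕ) < 1024 := by norm_num
      simp only [span3, List.mem_cons, List.not_mem_nil, or_false] at hw
      rcases hw with rfl | rfl | rfl | rfl | rfl | rfl | rfl | rfl
      · exact ⟨by norm_num, by rw [show ofN 0 = (1 : Mdl) from rfl, map_one]; exact one_mem _⟩
      · exact ⟨l8, h8⟩
      · exact ⟨hu', mU⟩
      · exact ⟨mulN_lt hu' l8, eN hu' l8 ▸ mul_mem mU h8⟩
      · exact ⟨hv', mV⟩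
      · exact ⟨mulN_lt hv' l8, eN hv' l8 ▸ mul_mem mV h8⟩
      · exact ⟨mulN_lt hu' hv', eN hu' hv' ▸ mul_mem mU mV⟩
      · exact ⟨mulN_lt (mulN_lt hu' hv') l8, eN (mulN_lt hu' hv') l8 ▸ eN hu' hv' ▸ mul_mem (mul_mem mU mV) h8⟩
    have ec : ∀ {d : Mdl} {w : ℕ}, w ∈ span3 u v → c.code.val = mulN d.code.val w → (S.e d)⁻¹ * S.e c ∈ W :=
      fun {d w} hw h => by
        rw [show c = d * ofN w from code_inj.1 (by rw [code_mul, ofN_code (hspan hw).1, h]), map_mul, inv_mul_cancel_left]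
        exact (hspan hw).2
    have sq : c.code.val.testBit 0 = c.code.val.testBit 0 → (mulN c.code.val c.code.val = 0 ↔ S.e c * S.e c = 1) :=
      fun _ => by
        rw [← map_mul, ← map_one S.e]
        refine ⟨fun h => congrArg _ (code_inj.1 (by rw [code_mul, h]; rfl)), fun h => ?_⟩
        rw [← code_mul, S.inj h]; rfl
    rcases h with (h | ⟨h2, w, hw, h | h⟩) | ⟨h2, w, hw, h⟩
    · refine Or.inl ?_
      have := (hspan h).2
      rwa [show ofN c.code.val = c from code_inj.1 (ofN_code c.code.isLt)] at this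
    · exact Or.inr (Or.inl ⟨(sq rfl).1 h2, Or.inl (ec hw (by rw [hcode ha]; exact h))⟩)
    · exact Or.inr (Or.inl ⟨(sq rfl).1 h2, Or.inr (ec hw (by rw [hcode hb]; exact h))⟩)
    · refine Or.inr (Or.inr ⟨?_, fun e => ?_⟩)
      · rw [hA, hB, ← map_mul]
        exact ec hw (by rw [code_mul, hcode ha, hcode hb]; exact h)
      · have := (sq rfl).2 e
        simp [this] at h2
  -- conjugation keeps the perpendicular
  have keep : ∀ {k x : H}, S.Eqz U (k * U * k⁻¹) → Commute x U → Commute (k * x * k⁻¹) U := by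
    intro k x hk hc
    have h : Commute (k * x * k⁻¹) (k * U * k⁻¹) := hc.map (MulAut.conj k).toMonoidHom
    exact ((hk.commute_iff _).2 h.symm).symm
  have keep' : ∀ {k x : H}, S.Eqz V (k * V * k⁻¹) → Commute x V → Commute (k * x * k⁻¹) V := by
    intro k x hk hc
    have h : Commute (k * x * k⁻¹) (k * V * k⁻¹) := hc.map (MulAut.conj k).toMonoidHom
    exact ((hk.commute_iff _).2 h.symm).symm
  have img : ∀ {x : H}, x ∈ S.Q → Commute x U → Commute x V → x * x = 1 →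
      g * x * g⁻¹ ∈ W ∨ A⁻¹ * (g * x * g⁻¹) ∈ W ∨ B⁻¹ * (g * x * g⁻¹) ∈ W := by
    intro x hx hxu hxv hx2
    rcases hperp _ (hg x hx) (keep hgu hxu) (keep' hgv hxv) with h | ⟨-, h⟩ | ⟨-, h⟩
    · exact Or.inl h
    · exact Or.inr h
    · exact absurd (by rw [show g * x * g⁻¹ * (g * x * g⁻¹) = g * (x * x) * g⁻¹ by group, hx2, mul_one, mul_inv_cancel]) h
  -- the square fixes the two cosets
  have gmulW : ∀ {p q : H}, p⁻¹ * (g * q * g⁻¹) ∈ W → ∀ {r}, q⁻¹ * r ∈ W → p⁻¹ * (g * r * g⁻¹) ∈ W := by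
    intro p q h r hr
    have := mul_mem h (gW _ hr)
    rwa [show p⁻¹ * (g * q * g⁻¹) * (g * (q⁻¹ * r) * g⁻¹) = p⁻¹ * (g * r * g⁻¹) by group] at this
  set h := g * g with hh
  have hconj : ∀ x : H, h * x * h⁻¹ = g * (g * x * g⁻¹) * g⁻¹ := fun x => by rw [hh]; group
  let F : Subgroup H :=
    { carrier := {x | x ∈ S.Q ∧ x⁻¹ * (h * x * h⁻¹) ∈ W}
      one_mem' := ⟨one_mem _, by simp⟩
      mul_mem' := fun {x y} hx hy => ⟨mul_mem hx.1 hy.1, by
        have := mul_mem (conjW hy.1 hx.2) hy.2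
        rwa [show y⁻¹ * (x⁻¹ * (h * x * h⁻¹)) * y * (y⁻¹ * (h * y * h⁻¹)) =
          (x * y)⁻¹ * (h * (x * y) * h⁻¹) by group] at this⟩
      inv_mem' := fun {x} hx => ⟨inv_mem hx.1, by
        have := conjW (inv_mem hx.1) (inv_mem hx.2)
        rwa [show x⁻¹⁻¹ * (x⁻¹ * (h * x * h⁻¹))⁻¹ * x⁻¹ = x⁻¹⁻¹ * (h * x⁻¹ * h⁻¹) by group] at this⟩ }
  have WF : W ≤ F := fun w hw => ⟨WQ hw, mul_mem (inv_mem hw) (by rw [hconj]; exact gW _ (gW w hw))⟩
  have perpOf : ∀ {c : ℕ}, inMask mQ c = true → cmN c u = 0 → cmN c v = 0 → mulN c c = 0 →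
      Commute (S.e (ofN c)) U ∧ Commute (S.e (ofN c)) V ∧ S.e (ofN c) * S.e (ofN c) = 1 := by
    intro c hc h1 h2 h3
    have cc : ∀ {d : ℕ}, inMask mQ d = true → cmN c d = 0 → Commute (S.e (ofN c)) (S.e (ofN d)) := fun {d} hd h => by
      refine (Commute.map ?_ S.e)
      have : ofN c * ofN d * (ofN c)⁻¹ * (ofN d)⁻¹ = 1 :=
        code_inj.1 (by rw [code_comm, hcode hc, hcode hd, h]; rfl)
      exact mul_inv_eq_iff_eq_mul.1 (mul_inv_eq_one.1 this)
    refine ⟨cc hu h1, cc hv h2, ?_⟩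
    rw [← map_mul, ← map_one S.e]
    exact congrArg _ (code_inj.1 (by rw [code_mul, hcode hc, h3]; rfl))
  have hchk' : ∀ {c : ℕ}, c = a ∨ c = b → cmN c u = 0 ∧ cmN c v = 0 ∧ mulN c c = 0 := hab
  obtain ⟨hau, hav, ha2⟩ := perpOf ha (hchk' (Or.inl rfl)).1 (hchk' (Or.inl rfl)).2.1 (hchk' (Or.inl rfl)).2.2
  obtain ⟨hbu, hbv, hb2⟩ := perpOf hb (hchk' (Or.inr rfl)).1 (hchk' (Or.inr rfl)).2.1 (hchk' (Or.inr rfl)).2.2
  have trivW : ∀ {x : H}, g * x * g⁻¹ ∈ W → x⁻¹ * (h * x * h⁻¹) ∈ W := fun {x} hx => by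
    refine mul_mem (inv_mem (giW x hx)) ?_
    rw [hconj]
    exact gW _ hx
  have AF : A ∈ F ∧ B ∈ F := by
    rcases img (mQ' ha) hau hav ha2 with hA' | hA' | hA' <;> rcases img (mQ' hb) hbu hbv hb2 with hB' | hB' | hB' <;>
      refine ⟨⟨mQ' ha, ?_⟩, mQ' hb, ?_⟩ <;> first
        | exact trivW hA'
        | exact trivW hB'
        | (rw [hconj]; exact gmulW hA' hA')
        | (rw [hconj]; exact gmulW hB' hB')
        | (rw [hconj]; exact gmulW hB' hA')
        | (rw [hconj]; exact gmulW hA' hB')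
        | (refine trivW ?_
           have := mul_mem (giW _ hB') hA'
           rwa [mul_inv_cancel_left] at this)
        | (refine trivW ?_
           have := mul_mem (giW _ hA') hB'
           rwa [mul_inv_cancel_left] at this)
        | (have e : A⁻¹ * B ∈ W := giW _ (by
            have := mul_mem (inv_mem hA') hB'
            rwa [show (B⁻¹ * (g * A * g⁻¹))⁻¹ * (B⁻¹ * (g * B * g⁻¹)) = g * (A⁻¹ * B) * g⁻¹ by group] at this)
           have e1 := mul_mem e hA'
           rw [show A⁻¹ * B * (B⁻¹ * (g * A * g⁻¹)) = A⁻¹ * (g * A * g⁻¹) by group] at e1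
           rw [hconj]; exact gmulW e1 e1)
        | (have e : A⁻¹ * B ∈ W := giW _ (by
            have := mul_mem (inv_mem hA') hB'
            rwa [show (A⁻¹ * (g * A * g⁻¹))⁻¹ * (A⁻¹ * (g * B * g⁻¹)) = g * (A⁻¹ * B) * g⁻¹ by group] at this)
           have e1 := mul_mem (inv_mem e) hB'
           rw [show (A⁻¹ * B)⁻¹ * (A⁻¹ * (g * B * g⁻¹)) = B⁻¹ * (g * B * g⁻¹) by group] at e1
           rw [hconj]; exact gmulW e1 e1)
  have hcU : ∀ x ∈ S.Q, Commute x U → Commute x V → x ∈ F := by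
    intro x hx hxu hxv
    rcases hperp x hx hxu hxv with h' | ⟨-, h' | h'⟩ | ⟨h', -⟩
    · exact WF h'
    · have := mul_mem AF.1 (WF h'); rwa [mul_inv_cancel_left] at this
    · have := mul_mem AF.2 (WF h'); rwa [mul_inv_cancel_left] at this
    · have := mul_mem (mul_mem AF.1 AF.2) (WF h'); rwa [mul_inv_cancel_left] at this
  have hhU : S.Eqz U (h * U * h⁻¹) := by rw [hconj]; exact hgu.trans (hgu.conj g)
  have hhV : S.Eqz V (h * V * h⁻¹) := by rw [hconj]; exact hgv.trans (hgv.conj g)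
  have h8 : h * h * (h * h) ∈ S.L := by
    intro x hx
    have hxh : h * x * h⁻¹ ∈ S.Q := by rw [hconj]; exact hg _ (hg x hx)
    set c := x⁻¹ * (h * x * h⁻¹) with hc
    have hcQ : c ∈ S.Q := mul_mem (inv_mem hx) hxh
    have com : ∀ {P : H}, P ∈ S.Q → S.Eqz P (h * P * h⁻¹) → Commute c P := by
      intro P hP hP'
      obtain ⟨p, hp, rfl⟩ := S.exists_Q hP
      obtain ⟨q, hq, hqx⟩ := S.exists_Q hx
      have e0 : S.Eqz (S.e p) (x * S.e p * x⁻¹) := by
        have := ((S.Q_facts hq hp).2).mul (Eqz.refl (S := S) (S.e p))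
        rwa [one_mul, show S.e q * S.e p * (S.e q)⁻¹ * (S.e p)⁻¹ * S.e p = S.e q * S.e p * (S.e q)⁻¹ by group,
          hqx] at this
      have key : h * x * h⁻¹ * S.e p * (h * x * h⁻¹)⁻¹ = x * S.e p * x⁻¹ := by
        have e1 : h * x * h⁻¹ * (h * S.e p * h⁻¹) * (h * x * h⁻¹)⁻¹ = h * (x * S.e p * x⁻¹) * h⁻¹ := by group
        have zc : ∀ k : H, k * S.z * k⁻¹ = S.z := fun k => by rw [S.z_comm, mul_inv_cancel_right]
        rcases e0 with e0 | e0 <;> rcases hP' with e' | e' <;> rw [e', e0] at e1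
        · rw [e0, e1, e']
        · rw [e0]
          refine mul_right_cancel (b := S.z) ?_
          rw [show h * x * h⁻¹ * (S.e p * S.z) * (h * x * h⁻¹)⁻¹ =
            h * x * h⁻¹ * S.e p * (h * x * h⁻¹)⁻¹ * (h * x * h⁻¹ * S.z * (h * x * h⁻¹)⁻¹) by group, zc, e'] at e1
          exact e1
        · rw [e0, e1, show h * (S.e p * S.z) * h⁻¹ = h * S.e p * h⁻¹ * (h * S.z * h⁻¹) by group, zc, e']
        · rw [e0]
          refine mul_right_cancel (b := S.z) ?_
          rw [show h * x * h⁻¹ * (S.e p * S.z) * (h * x * h⁻¹)⁻¹ =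
            h * x * h⁻¹ * S.e p * (h * x * h⁻¹)⁻¹ * (h * x * h⁻¹ * S.z * (h * x * h⁻¹)⁻¹) by group, zc,
            show h * (S.e p * S.z) * h⁻¹ = h * S.e p * h⁻¹ * (h * S.z * h⁻¹) by group, zc, e'] at e1
          exact e1
      show c * S.e p = S.e p * c
      rw [hc]
      calc x⁻¹ * (h * x * h⁻¹) * S.e p = x⁻¹ * (h * x * h⁻¹ * S.e p * (h * x * h⁻¹)⁻¹) * (h * x * h⁻¹) := by group
        _ = S.e p * (x⁻¹ * (h * x * h⁻¹)) := by rw [key]; group
    have hcF : c⁻¹ * (h * c * h⁻¹) ∈ W := (hcU c hcQ (com (mQ' hu) hhU) (com (mQ' hv) hhV)).2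
    set w := c * c * (c⁻¹ * (h * c * h⁻¹)) with hw
    have hwW : w ∈ W := mul_mem (eqzW (sqQ hcQ) (one_mem _)) hcF
    have e2 : h * h * x * (h * h)⁻¹ = x * w := by
      rw [hw, hc]; group
    have hgh : ∀ {y : H}, y ∈ W → S.Eqz y (h * h * y * (h * h)⁻¹) := fun {y} hy => by
      have h1 := Wfix hy
      have h2 := h1.trans (h1.conj g)
      rw [← hconj] at h2
      have h3 := h2.trans (h2.conj h)
      rwa [show h * (h * y * h⁻¹) * h⁻¹ = h * h * y * (h * h)⁻¹ by group] at h3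
    rw [show h * h * (h * h) * x * (h * h * (h * h))⁻¹ = h * h * (h * h * x * (h * h)⁻¹) * (h * h)⁻¹ by group, e2,
      show h * h * (x * w) * (h * h)⁻¹ = h * h * x * (h * h)⁻¹ * (h * h * w * (h * h)⁻¹) by group, e2]
    have h3 : S.Eqz (x * w * w) (x * w * (h * h * w * (h * h)⁻¹)) := (Eqz.refl _).mul (hgh hwW)
    have h4 : S.Eqz (x * 1) (x * (w * w)) := (Eqz.refl _).mul (sqQ (WQ hwW))
    rw [mul_one, ← mul_assoc] at h4
    exact h4.trans h3
  have h8' : g ^ 8 ∈ S.L := by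
    rwa [show g ^ 8 = h * h * (h * h) by simp only [hh, pow_succ, pow_zero, one_mul, mul_assoc]]
  have hco : Nat.Coprime 8 n := (Nat.coprime_two_left.2 hn).pow_left 3
  have hbez := Nat.gcd_eq_gcd_ab 8 n
  rw [hco.gcd_eq_one] at hbez
  have e : g = (g ^ 8) ^ Nat.gcdA 8 n * (g ^ n) ^ Nat.gcdB 8 n := by
    have e1 : g ^ ((8 : ℕ) * Nat.gcdA 8 n + (n : ℤ) * Nat.gcdB 8 n) = g := by rw [← hbez]; simp
    conv_lhs => rw [← e1, zpow_add, zpow_mul, zpow_mul, zpow_natCast, zpow_natCast]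
  rw [e]
  exact mul_mem (zpow_mem h8' _) (zpow_mem hgn _)

end Hat

end Cfsg.Lib.LFiveType
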