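import Cfsg.Agent.LFiveType.HatQuot
import Cfsg.Agent.LFiveType.FactsLocal
import Cfsg.Agent.LFiveType.FactsIso
import Cfsg.Agent.HeldCent.Main
import Cfsg.Agent.LargeExtra.Coprime
import Cfsg.Agent.GTwoRecog.Setup
import Cfsg.Agent.S0445

/-!
# The centraliser modulo its odd core is the centraliser of a transvection of SL(5,2)
-/

set_option autoImplicit false
set_option linter.unusedSectionVars false
set_option linter.style.haveILetI false
set_option maxRecDepth 100000

namespace Cfsg.Lib.LFiveType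

open Subgroup
open scoped commutatorElement

namespace Hat

universe u

variable {H : Type u} [Group H] [Finite H] (S : Hat H)

theorem card_Q : Nat.card S.Q = 128 := by
  rw [show S.Q = QM.map S.e from rfl, card_map_of_injective S.inj]
  exact (card_maskSub _ _).trans comm_Q.2.2

theorem one_or_z {x : H} (h : S.Eqz 1 x) : x = 1 ∨ x = S.z := by
  rcases h with h | h
  · exact Or.inl h
  · exact Or.inr (h.trans (one_mul _))

theorem extraspecial : Cfsg.IsExtraspecial 2 S.Q := by
  refine Cfsg.Lib.LargeExtra.isExtraspecial_of (z := S.z) (S.syl.isPGroup'.to_le (S.toSetting.map_le_syl _))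
    S.z_mem_Q S.toSetting.z_ne_one S.zz (fun a _ => S.z_comm a) ?_ ?_ ?_ ?_
  · intro a ha b hb
    obtain ⟨a', ha', rfl⟩ := S.exists_Q ha
    obtain ⟨b', hb', rfl⟩ := S.exists_Q hb
    rw [commutatorElement_def]
    exact S.one_or_z (S.Q_facts ha' hb').2
  · intro a ha
    obtain ⟨a', ha', rfl⟩ := S.exists_Q ha
    exact S.one_or_z (S.Q_facts ha' ha').1
  · intro c hc hcomm
    obtain ⟨c', hc', rfl⟩ := S.exists_Q hc
    have h := List.all_eq_true.1 centre_Q _ (maskList_mem hc')
    simp only [Bool.or_eq_true, Nat.beq_eq, List.any_eq_true, Bool.not_eq_true'] at h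
    rcases h with (h | h) | ⟨d, hd, hne⟩
    · exact Or.inl (by rw [show c' = 1 from code_inj.1 h, map_one])
    · exact Or.inr (by rw [show c' = zM from code_inj.1 h]; rfl)
    · exfalso
      obtain ⟨hd1, hd2⟩ := List.mem_filter.1 hd
      have hd1 : d < 1024 := List.mem_range.1 hd1
      have h1 := (hcomm _ (S.mem_Q.2 (show inMask mQ (ofN d).code.val = true by rw [ofN_code hd1]; exact hd2))).eq
      rw [← map_mul, ← map_mul] at h1
      have h2 := congrArg (fun m : Mdl => m.code.val) (S.inj h1)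
      simp only [code_mul, ofN_code hd1] at h2
      rw [h2, Nat.beq_refl] at hne
      exact Bool.noConfusion hne
  · refine ⟨S.e (ofN 1), S.mem_Q.2 (by decide +kernel), S.e (ofN 64), S.mem_Q.2 (by decide +kernel), fun h => ?_⟩
    rw [Commute, SemiconjBy, ← map_mul, ← map_mul] at h
    exact absurd (S.inj h) (by decide +kernel)

theorem cent_Q_le : centralizer (S.Q : Set H) ≤ S.Q := by
  rw [← S.L_eq_Q]
  intro g hg x hx
  exact Or.inl (by rw [← mem_centralizer_iff.1 hg x (S.L_eq_Q ▸ hx), mul_inv_cancel_right])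

open Cfsg.Lib.HeldCent in
theorem no_other {T : BadD} {C : Type u} [Group C] (D : Gen T.par C) (hP : parOK T.par = true)
    (hinj : Set.InjOn D.η {a | a < 21504}) (hsur : ∀ g, ∃ a < 21504, D.η a = g) (hscan : ∀ x < 21504, T.sqScan x = true)
    (hinv : T.invOK = true) (hno : noElem T = true) (Q : Subgroup C) (hQ : ∀ z < 128, D.B.ι z ∈ Q) {x : C}
    (hxQ : x ∉ Q) (hx2 : x * x = 1) (hel : ∀ q ∈ Q, x * q = q * x → q * q = 1) : False := by
  have h0 : D.η 0 = 1 := by rw [D.η_code (by norm_num), D.B.ι_zero]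
  obtain ⟨a, ha, rfl⟩ := hsur x
  have ha128 : ¬ a < 128 := fun h => hxQ (by rw [D.η_code h]; exact hQ a h)
  have hmul : ∀ {i j : ℕ}, i < 21504 → j < 21504 → mul T.par i j < 21504 := fun hi hj => mul_lt hP hi hj
  have haa : mul T.par a a = 0 := hinj (hmul ha ha) (by simp) (by rw [D.η_mul hP ha, hx2, h0])
  have hs := hscan a ha
  have hb : Nat.blt a 21504 = true := by rw [Nat.blt_eq]; exact ha
  simp only [BadD.sqScan, hb, Bool.not_true, Bool.false_or, haa, Nat.beq_refl, Bool.and_eq_true,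
    Bool.or_eq_true, Nat.beq_eq] at hs
  rcases hs.1.1 with (h | h) | h
  · omega
  · omega
  simp only [BadD.invOK, Bool.and_eq_true, List.all_eq_true] at hinv
  rw [Nat.eq_of_beq_eq_true hinv.1] at h
  rcases testBit_foldl _ _ _ h with h | ⟨p, hp, rfl⟩
  · simp at h
  have hn := List.all_eq_true.1 hno p hp
  simp only [Bool.or_eq_true, Nat.blt_eq, List.any_eq_true, List.mem_range, Bool.and_eq_true, Nat.beq_eq,
    Bool.not_eq_true'] at hn
  rcases hn with hn | ⟨z, hz, hc, hne⟩
  · exact ha128 hn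
  have hz' : z < 21504 := by omega
  have hq : D.η z ∈ Q := by rw [D.η_code hz]; exact hQ z hz
  have h2 := hel _ hq (by rw [← D.η_mul hP ha, ← D.η_mul hP hz', hc])
  have : mul T.par z z = 0 := hinj (hmul hz' hz') (by simp) (by rw [D.η_mul hP hz', h2, h0])
  rw [this] at hne
  simp at hne

variable (h0 : ∃ g : H, ∃ y : Mdl, inMask mQ y.code.val = true ∧ y.code.val.testBit 0 = false ∧
    g * S.e (ofN 1) * g⁻¹ = S.e y)
  (h9 : ∃ g : H, ∃ y : Mdl, inMask mQ y.code.val = true ∧ y.code.val.testBit 9 = false ∧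
    g * S.e (ofN 512) * g⁻¹ = S.e y)

include h0 h9 in
theorem quot_iso : Nonempty (H ⧸ S.Q ≃* Cfsg.Lib.HeldCent.L3) := by
  haveI := Cfsg.Lib.DihedralCent.simple (S.setup h0 h9)
  haveI := Cfsg.Lib.GTwoRecog.sl32_simple
  haveI : Fact (Nat.Prime 7) := ⟨by norm_num⟩
  obtain ⟨e1⟩ := Cfsg.Agent.S0495.result (G := H ⧸ S.Q) (S.card_quot h0 h9) (ZMod.card 7)
  obtain ⟨e2⟩ := Cfsg.Agent.S0495.result (G := Cfsg.Lib.HeldCent.L3) Cfsg.Lib.HallJankoType.card_sl3 (ZMod.card 7)
  exact ⟨e1.trans e2.symm⟩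

include h0 h9 in
open Cfsg.Lib.HeldCent in
/-- The centraliser modulo its core is the centraliser of a transvection of SL(5,2). -/
theorem iso_cs : Nonempty (H ≃* Cfsg.Lib.HeldType.cs) := by
  obtain ⟨e⟩ := S.quot_iso h0 h9
  obtain ⟨P, hP, D, -, hιQ, hQι, hinj, hsur⟩ := exists_gen S.Q S.z (fun g => (S.z_comm g).symm)
    S.toSetting.z_ne_one S.extraspecial S.card_Q S.cent_Q_le e
  have hPok := parOK_all P hP
  have hcard : Nat.card H = 21504 := by
    rw [← S.Q.card_mul_index, S.card_Q, index_eq_card, S.card_quot h0 h9]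
  have hxQ : S.e (ofN 20) ∉ S.Q := fun h => by
    rw [S.mem_Q] at h
    exact absurd h (by decide +kernel)
  have hx2 : S.e (ofN 20) * S.e (ofN 20) = 1 := by
    rw [← map_mul, show ofN 20 * ofN 20 = (1 : Mdl) by decide +kernel, map_one]
  have hel : ∀ q ∈ S.Q, S.e (ofN 20) * q = q * S.e (ofN 20) → q * q = 1 := by
    intro q hq hc
    obtain ⟨c, hc', rfl⟩ := S.exists_Q hq
    rw [← map_mul, ← map_mul] at hc
    have h := List.all_eq_true.1 witness_elem.2.2 _ (maskList_mem hc')
    have h1 := congrArg (fun m : Mdl => m.code.val) (S.inj hc)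
    simp only [code_mul, ofN_code (show 20 < 1024 by norm_num)] at h1
    rw [h1, Nat.beq_refl, Bool.not_true, Bool.false_or, Nat.beq_eq] at h
    rw [← map_mul, show c * c = 1 from code_inj.1 (by rw [code_mul, h]; rfl), map_one]
  simp only [parL, List.mem_cons, List.not_mem_nil, or_false] at hP
  rcases hP with rfl | rfl | rfl | rfl | rfl | rfl
  · obtain ⟨M, -⟩ := exists_model
    obtain ⟨φ, -⟩ := exists_iso D hPok hinj hsur hcard S.Q hQι S.cent_Q_le (D' := M)
      (Cfsg.Agent.S0445.result Cfsg.Lib.HeldType.sEl Cfsg.Lib.HeldType.mat_z)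
    exact ⟨φ⟩
  · exact (no_other (T := bad1) D hPok hinj hsur bad1_ok.1 bad1_inv noElem_ok.1 S.Q hιQ hxQ hx2 hel).elim
  · exact (no_other (T := bad2) D hPok hinj hsur bad2_ok.1 bad2_inv noElem_ok.2.1 S.Q hιQ hxQ hx2 hel).elim
  · exact (no_other (T := bad3) D hPok hinj hsur bad3_ok.1 bad3_inv noElem_ok.2.2.1 S.Q hιQ hxQ hx2 hel).elim
  · exact (no_other (T := bad4) D hPok hinj hsur bad4_ok.1 bad4_inv noElem_ok.2.2.2.1 S.Q hιQ hxQ hx2 hel).elim
  · exact (no_other (T := bad5) D hPok hinj hsur bad5_ok.1 bad5_inv noElem_ok.2.2.2.2 S.Q hιQ hxQ hx2 hel).elim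

end Hat

end Cfsg.Lib.LFiveType
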