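import Cfsg.Agent.LFiveType.Move
import Cfsg.Agent.LFiveType.HatBasic
import Cfsg.Agent.HSType.CentQuot
import Cfsg.Agent.InvolCalc.ZStarApps
import Cfsg.Agent.Components.PComponents

/-!
# The centraliser of the central involution modulo its odd core is a hat datum
-/

set_option autoImplicit false
set_option linter.unusedSectionVars false
set_option linter.style.haveILetI false
set_option maxRecDepth 100000

namespace Cfsg.Lib.LFiveType

open Subgroup

/-- Conjugation keeps the line of 14 and 25 modulo the centre. -/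
theorem line_bz : ((List.range 1024).all fun c => (span3 4 64).all fun a =>
    inMask mW a && Nat.beq (bz (mulN (mulN c a) (invN c))) (bz a)) = true := by decide +kernel

theorem line_bz_code {a : Mdl} (ha : (span3 4 64).contains a.code.val = true) :
    a ∈ WM ∧ ∀ c : Mdl, bz (c * a * c⁻¹).code.val = bz a.code.val := by
  have key : ∀ c : Mdl, inMask mW a.code.val = true ∧
      bz (mulN (mulN c.code.val a.code.val) (invN c.code.val)) = bz a.code.val := fun c => by
    have h := List.all_eq_true.1 (List.all_eq_true.1 line_bz _ (List.mem_range.2 c.code.isLt)) a.code.val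
      (by simpa using ha)
    rw [Bool.and_eq_true] at h
    exact ⟨h.1, Nat.eq_of_beq_eq_true h.2⟩
  refine ⟨(key 1).1, fun c => ?_⟩
  rw [code_mul, code_mul, code_inv]
  exact (key c).2

theorem mdl_pow_1024 (a : Mdl) : a ^ 2 ^ 10 = 1 := by
  rw [show (2 : ℕ) ^ 10 = Nat.card Mdl by rw [card_mdl]; norm_num]
  exact pow_card_eq_one'

namespace Setting

variable {G : Type*} [Group G] [Finite G] (S : Setting G)

/-- The Sylow subgroup inside the centraliser of the central involution. -/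
def eC : Mdl →* S.CZ := S.e.codRestrict S.CZ S.e_mem_CZ

theorem eC_coe (a : Mdl) : (S.eC a : G) = S.e a := rfl

theorem eC_pow (a : Mdl) : S.eC a ^ 2 ^ 10 = 1 := by rw [← map_pow, mdl_pow_1024, map_one]

/-- A conjugation modulo the odd core comes from one in the centraliser. -/
theorem lift_conj {k : S.CZ} {a b : Mdl}
    (h : QuotientGroup.mk' (Cfsg.pPrimeCore 2 S.CZ) k * QuotientGroup.mk' _ (S.eC a) *
      (QuotientGroup.mk' _ k)⁻¹ = QuotientGroup.mk' _ (S.eC b)) :
    ∃ o ∈ Cfsg.pPrimeCore 2 S.CZ, ((o * k : S.CZ) : G) * S.e a * ((o * k : S.CZ) : G)⁻¹ = S.e b := by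
  have hcong : k * S.eC a * k⁻¹ * (S.eC b)⁻¹ ∈ Cfsg.pPrimeCore 2 S.CZ := by
    rw [← QuotientGroup.eq_one_iff]
    show QuotientGroup.mk' _ _ = 1
    simp only [map_mul, map_inv]
    rw [h, mul_inv_cancel]
  obtain ⟨o, ho, e⟩ := Cfsg.Lib.HSType.conj_of_cong (N := Cfsg.pPrimeCore 2 S.CZ)
    Cfsg.Lib.ZStarApps.odd_card_pPrimeCore (i := 10) (j := 10)
    (by rw [← MulAut.conj_apply, ← map_pow, S.eC_pow, map_one]) (S.eC_pow b) hcong
  refine ⟨o, ho, ?_⟩
  have e' : ((o * (k * S.eC a * k⁻¹) * o⁻¹ : S.CZ) : G) = S.e b := congrArg Subtype.val e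
  rw [← e']
  simp only [Subgroup.coe_mul, Subgroup.coe_inv, eC_coe]
  group

theorem lift_central (k : S.CZ) : (k : G) * S.z = S.z * k := mem_centralizer_singleton_iff.1 k.2

/-- **The centraliser modulo its odd core.** -/
noncomputable def hat : Hat (S.CZ ⧸ Cfsg.pPrimeCore 2 S.CZ) where
  e := (QuotientGroup.mk' _).comp S.eC
  inj := (injective_iff_map_eq_one _).2 fun a ha => by
    have h : S.eC a ∈ Cfsg.pPrimeCore 2 S.CZ := (QuotientGroup.eq_one_iff _).1 ha
    refine S.inj ?_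
    rw [map_one, ← S.eC_coe, ← Subgroup.coe_one S.CZ]
    refine congrArg Subtype.val (orderOf_eq_one_iff.1 (Nat.eq_one_of_dvd_coprimes
      ((Nat.coprime_two_left.2 Cfsg.Lib.ZStarApps.odd_card_pPrimeCore).pow_left 10)
      (orderOf_dvd_of_pow_eq_one (S.eC_pow a)) (Subgroup.orderOf_dvd_natCard _ h)))
  syl :=
    haveI : Fact (Nat.Prime 2) := ⟨Nat.prime_two⟩
    (S.syl.subtype (fun _ hx => mem_centralizer_singleton_iff.2 (S.z_central hx))).mapSurjective
      (QuotientGroup.mk'_surjective _)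
  range_eq := by
    ext q
    constructor
    · rintro ⟨a, rfl⟩
      exact ⟨_, S.e_mem a, rfl⟩
    · rintro ⟨x, hx, rfl⟩
      obtain ⟨a, ha⟩ := S.exists_code (show (x : G) ∈ (S.syl : Subgroup G) from hx)
      refine ⟨a, ?_⟩
      show QuotientGroup.mk' _ _ = _
      exact congrArg _ (Subtype.ext ha)
  central := fun h => by
    obtain ⟨k, rfl⟩ := QuotientGroup.mk'_surjective _ h
    show QuotientGroup.mk' _ k * QuotientGroup.mk' _ (S.eC zM) = QuotientGroup.mk' _ (S.eC zM) * QuotientGroup.mk' _ k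
    rw [← map_mul, ← map_mul]
    exact congrArg _ (Subtype.ext (S.lift_central k))
  odd_free := fun N hN hodd => by
    haveI := hN
    rw [eq_bot_iff, ← Cfsg.Lib.Components.pPrimeCore_quotient_eq_bot (G := S.CZ) (p := 2)]
    exact Cfsg.Lib.Components.le_pPrimeCore (Nat.coprime_two_right.2 hodd)
  Q_closed := fun g q hq hy => by
    obtain ⟨k, rfl⟩ := QuotientGroup.mk'_surjective _ g
    obtain ⟨x, hx, hxe⟩ := hy
    obtain ⟨b, hb⟩ := S.exists_code (show (x : G) ∈ (S.syl : Subgroup G) from hx)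
    have hb' : S.eC b = x := Subtype.ext hb
    subst hb'
    obtain ⟨o, -, e⟩ := S.lift_conj (k := k) (a := q) (b := b) hxe.symm
    have hQ := S.Q_closed (S.lift_central (o * k)) (S.mem_map_iff.2 hq : S.e q ∈ S.Q) (by rw [e]; exact S.e_mem b)
    rw [e] at hQ
    exact ⟨b, S.mem_map_iff.1 hQ, hxe⟩
  line_fusion := fun g a b ha hb he => by
    obtain ⟨k, rfl⟩ := QuotientGroup.mk'_surjective _ g
    obtain ⟨o, -, e⟩ := S.lift_conj (k := k) (a := a) (b := b) he
    obtain ⟨s, hs, hse⟩ := S.W_cent_fusion (S.lift_central (o * k))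
      (S.mem_map_iff.2 (line_bz_code ha).1 : S.e a ∈ S.W)
      (by rw [e]; exact (S.mem_map_iff.2 (line_bz_code hb).1 : S.e b ∈ S.W))
    obtain ⟨c, rfl⟩ := S.exists_code hs
    rw [e, ← map_inv, ← map_mul, ← map_mul] at hse
    rw [← S.inj hse, (line_bz_code ha).2 c]

theorem hat_e (a : Mdl) : S.hat.e a = QuotientGroup.mk' _ (S.eC a) := rfl

/-- The transfer in the quotient. -/
theorem hat_move [IsSimpleGroup G] {k : ℕ} (hk : k = 0 ∨ k = 9) :
    ∃ g : S.CZ ⧸ Cfsg.pPrimeCore 2 S.CZ, ∃ y : Mdl, inMask mQ y.code.val = true ∧ y.code.val.testBit k = false ∧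
      g * S.hat.e (ofN (2 ^ k)) * g⁻¹ = S.hat.e y := by
  obtain ⟨g, hg, y, hy, hyk, he⟩ := S.exists_move hk
  refine ⟨QuotientGroup.mk' _ ⟨g, mem_centralizer_singleton_iff.2 hg⟩, y, hy, hyk, ?_⟩
  rw [hat_e, hat_e, ← map_inv, ← map_mul, ← map_mul]
  exact congrArg _ (Subtype.ext he)

theorem hat_move0 [IsSimpleGroup G] : ∃ g : S.CZ ⧸ Cfsg.pPrimeCore 2 S.CZ, ∃ y : Mdl,
    inMask mQ y.code.val = true ∧ y.code.val.testBit 0 = false ∧ g * S.hat.e (ofN 1) * g⁻¹ = S.hat.e y :=
  S.hat_move (Or.inl rfl)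

theorem hat_move9 [IsSimpleGroup G] : ∃ g : S.CZ ⧸ Cfsg.pPrimeCore 2 S.CZ, ∃ y : Mdl,
    inMask mQ y.code.val = true ∧ y.code.val.testBit 9 = false ∧ g * S.hat.e (ofN 512) * g⁻¹ = S.hat.e y :=
  S.hat_move (Or.inr rfl)

end Setting

end Cfsg.Lib.LFiveType
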