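import Cfsg.Agent.LFiveType.HatNormal
import Cfsg.Agent.LFiveType.FactsQuot
import Cfsg.Agent.InvolCalc.DihedralEightCentralizer

/-!
# The centraliser modulo Q has order 168
-/

set_option autoImplicit false
set_option linter.unusedSectionVars false
set_option linter.style.haveILetI false
set_option maxRecDepth 100000

namespace Cfsg.Lib.LFiveType

open Subgroup

namespace Hat

universe u

variable {H : Type u} [Group H] [Finite H] (S : Hat H)

instance Q_normal_inst : S.Q.Normal := S.Q_normal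

/-- The quotient map by Q. -/
def pr : H →* H ⧸ S.Q := QuotientGroup.mk' S.Q

/-- The image of a code modulo Q. -/
def τ (n : ℕ) : H ⧸ S.Q := S.pr (S.e (ofN n))

theorem pr_surj (x : H ⧸ S.Q) : ∃ g, S.pr g = x := QuotientGroup.mk'_surjective S.Q x

theorem pr_eq_one {x : H} : S.pr x = 1 ↔ x ∈ S.Q := QuotientGroup.eq_one_iff x

theorem modQ_at (a : Mdl) : (inMask mQ a.code.val = true ↔ a.code.val &&& 176 = 0) ∧ a.code.val &&& 176 ∈ pL ∧
    inMask mQ (mulN (invN a.code.val) (a.code.val &&& 176)) = true := by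
  have h := List.all_eq_true.1 modQ_ok _ (List.mem_range.2 a.code.isLt)
  simp only [Bool.and_eq_true, beq_iff_eq, List.contains_eq_mem, decide_eq_true_eq] at h
  obtain ⟨⟨h1, h2⟩, h3⟩ := h
  refine ⟨?_, h2, h3⟩
  rw [h1, Nat.beq_eq]

theorem pL_lt {i : ℕ} (hi : i ∈ pL) : i < 1024 ∧ i &&& 176 = i := by
  revert i; decide

theorem pr_e (a : Mdl) : S.pr (S.e a) = S.τ (a.code.val &&& 176) := by
  rw [τ, ← inv_mul_eq_one, ← map_inv, ← map_mul, pr_eq_one, ← map_inv, ← map_mul, S.mem_Q, code_mul, code_inv,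
    ofN_code (pL_lt (modQ_at a).2.1).1]
  exact (modQ_at a).2.2

theorem τ_one : S.τ 0 = 1 := by rw [τ, show ofN 0 = (1 : Mdl) from rfl, map_one, map_one]

theorem τ_mul {i j : ℕ} (hi : i ∈ pL) (hj : j ∈ pL) : S.τ i * S.τ j = S.τ (mulN i j &&& 176) := by
  rw [τ, τ, ← map_mul, ← map_mul, S.pr_e, code_mul, ofN_code (pL_lt hi).1, ofN_code (pL_lt hj).1]

theorem τ_inv {i : ℕ} (hi : i ∈ pL) : (S.τ i)⁻¹ = S.τ (invN i &&& 176) := by
  rw [τ, ← map_inv, ← map_inv, S.pr_e, code_inv, ofN_code (pL_lt hi).1]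

theorem τ_inj {i j : ℕ} (hi : i ∈ pL) (hj : j ∈ pL) (h : S.τ i = S.τ j) : i = j := by
  have h1 : S.pr (S.e ((ofN i)⁻¹ * ofN j)) = 1 := by
    rw [map_mul, map_mul, map_inv, map_inv]
    exact inv_mul_eq_one.2 h
  rw [pr_eq_one, S.mem_Q, code_mul, code_inv, ofN_code (pL_lt hi).1, ofN_code (pL_lt hj).1] at h1
  have : ∀ a ∈ pL, ∀ b ∈ pL, inMask mQ (mulN (invN a) b) = true → a = b := by decide +kernel
  exact this i hi j hj h1

theorem τ_ne_one {i : ℕ} (hi : i ∈ pL) (h0 : i ≠ 0) : S.τ i ≠ 1 := fun h =>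
  h0 (S.τ_inj hi (by decide) (h.trans S.τ_one.symm))

/-- The image of the Sylow subgroup. -/
noncomputable def PK : Sylow 2 (H ⧸ S.Q) :=
  haveI : Fact (Nat.Prime 2) := ⟨Nat.prime_two⟩
  S.syl.mapSurjective (f := S.pr) S.pr_surj

theorem mem_PK {x : H ⧸ S.Q} : x ∈ (S.PK : Subgroup (H ⧸ S.Q)) ↔ ∃ i ∈ pL, S.τ i = x := by
  constructor
  · rintro ⟨y, hy, rfl⟩
    obtain ⟨a, rfl⟩ := S.syl_code hy
    exact ⟨_, (modQ_at a).2.1, (S.pr_e a).symm⟩
  · rintro ⟨i, -, rfl⟩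
    exact ⟨_, S.toSetting.e_mem _, rfl⟩

theorem τ_mem_PK (i : ℕ) : S.τ i ∈ (S.PK : Subgroup (H ⧸ S.Q)) := ⟨_, S.toSetting.e_mem _, rfl⟩

theorem card_PK : Nat.card (S.PK : Subgroup (H ⧸ S.Q)) = 8 := by
  let f : Fin 8 → (S.PK : Subgroup (H ⧸ S.Q)) := fun i => ⟨S.τ (pL.getD i.val 0), S.τ_mem_PK _⟩
  have hm : ∀ i : Fin 8, pL.getD i.val 0 ∈ pL := by decide
  have hinj : ∀ i j : Fin 8, pL.getD i.val 0 = pL.getD j.val 0 → i = j := by decide
  have hsur : ∀ i ∈ pL, ∃ j : Fin 8, pL.getD j.val 0 = i := by decide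
  have hf : Function.Bijective f := ⟨fun i j h => hinj i j (S.τ_inj (hm i) (hm j) (congrArg Subtype.val h)),
    fun ⟨x, hx⟩ => by
      obtain ⟨i, hi, rfl⟩ := S.mem_PK.1 hx
      obtain ⟨j, hj⟩ := hsur i hi
      exact ⟨j, Subtype.ext (by show S.τ _ = _; rw [hj])⟩⟩
  rw [← Nat.card_eq_of_bijective f hf, Nat.card_fin]

theorem mem_L_of_mem {g x : H} (hg : g ∈ S.Q) (hx : x ∈ S.Q) : S.Eqz x (g * x * g⁻¹) := S.Q_le_L hg x hx

theorem Q_conj {x : H} (g : H) (hx : x ∈ S.Q) : g * x * g⁻¹ ∈ S.Q := S.Q_normal.conj_mem x hx g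

/-- The stabiliser of an element modulo the centre. -/
def Stb (w : H) : Subgroup H where
  carrier := {g | S.Eqz w (g * w * g⁻¹)}
  one_mem' := by simp [Eqz.refl]
  mul_mem' := fun {g h} hg hh => by
    show S.Eqz w (g * h * w * (g * h)⁻¹)
    rw [show g * h * w * (g * h)⁻¹ = g * (h * w * h⁻¹) * g⁻¹ by group]
    exact Eqz.trans hg (Eqz.conj g hh)
  inv_mem' := fun {g} hg => by
    have h : S.Eqz (g⁻¹ * w * g⁻¹⁻¹) (g⁻¹ * (g * w * g⁻¹) * g⁻¹⁻¹) := Eqz.conj g⁻¹ hg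
    rw [show g⁻¹ * (g * w * g⁻¹) * g⁻¹⁻¹ = w by group] at h
    exact h.symm

theorem mem_Stb {g w : H} : g ∈ S.Stb w ↔ S.Eqz w (g * w * g⁻¹) := Iff.rfl

theorem ptQ {p : ℕ} (hp : p ∈ [64, 4, 68]) : S.e (ofN p) ∈ S.Q ∧ p < 1024 ∧ bz p = p ∧ p ≠ 0 := by
  have : ∀ p ∈ [64, 4, 68], inMask mQ p = true ∧ p < 1024 ∧ bz p = p ∧ p ≠ 0 := by decide +kernel
  obtain ⟨h1, h2, h3⟩ := this p hp
  exact ⟨S.mem_Q.2 (by rw [ofN_code h2]; exact h1), h2, h3⟩

/-- The stabiliser of a point modulo Q. -/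
def StbK (p : ℕ) : Subgroup (H ⧸ S.Q) := (S.Stb (S.e (ofN p))).map S.pr

theorem mem_StbK {p : ℕ} (hp : p ∈ [64, 4, 68]) {g : H} : S.pr g ∈ S.StbK p ↔ g ∈ S.Stb (S.e (ofN p)) := by
  refine ⟨?_, fun h => ⟨g, h, rfl⟩⟩
  rintro ⟨h, hh, he⟩
  have hq : h⁻¹ * g ∈ S.Q := S.pr_eq_one.1 (by rw [map_mul, map_inv, he, inv_mul_cancel])
  have := mul_mem hh (show h⁻¹ * g ∈ S.Stb (S.e (ofN p)) from S.mem_L_of_mem hq (S.ptQ hp).1)
  rwa [mul_inv_cancel_left] at this

theorem PK_le_StbK {p : ℕ} (hp : p ∈ [64, 4, 68]) : (S.PK : Subgroup (H ⧸ S.Q)) ≤ S.StbK p := by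
  rintro _ ⟨y, hy, rfl⟩
  obtain ⟨a, rfl⟩ := S.syl_code hy
  refine ⟨_, ?_, rfl⟩
  have hfix : ptFix p = true := by
    simp only [List.mem_cons, List.not_mem_nil, or_false] at hp
    rcases hp with rfl | rfl | rfl
    exacts [ptFix_ok.1, ptFix_ok.2.1, ptFix_ok.2.2]
  show S.Eqz _ _
  rw [← map_inv, ← map_mul, ← map_mul, S.eqz_e, code_mul, code_mul, code_inv, ofN_code (S.ptQ hp).2.1]
  exact (Nat.eq_of_beq_eq_true (List.all_eq_true.1 hfix _ (List.mem_range.2 a.code.isLt))).symm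

/-- An element mapping an involution to another maps its commutators with Q to those of the other. -/
theorem comm_img {t t' : ℕ} (ht : t < 1024) (ht' : t' < 1024) {g : H}
    (hg : S.pr (g * S.e (ofN t) * g⁻¹) = S.τ t') {w : ℕ} (hw : (commImg t).contains w = true) (hwl : w < 1024)
    (hwb : bz w = w) : ∃ c : Mdl, (commImg t').contains (bz c.code.val) = true ∧
      S.Eqz (S.e c) (g * S.e (ofN w) * g⁻¹) := by
  simp only [commImg, List.contains_eq_mem, decide_eq_true_eq, List.mem_eraseDups, List.mem_map] at hw ⊢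
  obtain ⟨x, hx, hxw⟩ := hw
  have hxm : inMask mQ x = true := (List.mem_filter.1 hx).2
  set T := S.e (ofN t) with hT
  set T' := S.e (ofN t') with hT'
  set X := S.e (ofN x) with hX
  have hXQ : X ∈ S.Q := S.mem_Q.2 (by rw [ofN_code (mem_maskQ_lt hxm)]; exact hxm)
  set l := g * T * g⁻¹ * T'⁻¹ with hlv
  have hl : l ∈ S.Q := S.pr_eq_one.1 (by rw [hlv, map_mul, map_inv, hg]; exact mul_inv_cancel _)
  obtain ⟨b, hb, hbe⟩ := S.exists_Q (S.Q_conj g hXQ)
  refine ⟨b * ofN t' * b⁻¹ * (ofN t')⁻¹, ⟨b.code.val, maskList_mem hb, by rw [code_comm, ofN_code ht']⟩, ?_⟩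
  set y := g * X * g⁻¹ with hy
  have hyQ : y ∈ S.Q := S.Q_conj g hXQ
  have e0 : S.e (b * ofN t' * b⁻¹ * (ofN t')⁻¹) = y * T' * y⁻¹ * T'⁻¹ := by
    simp only [map_mul, map_inv, hbe, hT', hy]
  have hcQ : y * T' * y⁻¹ * T'⁻¹ ∈ S.Q := by
    rw [show y * T' * y⁻¹ * T'⁻¹ = y * (T' * y⁻¹ * T'⁻¹) by group]
    exact mul_mem hyQ (S.Q_conj T' (inv_mem hyQ))
  have e1 : S.Eqz (X * T * X⁻¹ * T⁻¹) (S.e (ofN w)) := by
    rw [hX, hT, ← map_mul, ← map_inv, ← map_mul, ← map_inv, ← map_mul, S.eqz_e, code_comm,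
      ofN_code (mem_maskQ_lt hxm), ofN_code ht, ofN_code hwl, hxw, hwb]
  have e2 : g * (X * T * X⁻¹ * T⁻¹) * g⁻¹ = y * l * y⁻¹ * l⁻¹ * (l * (y * T' * y⁻¹ * T'⁻¹) * l⁻¹) := by
    rw [hlv, hy]; group
  rw [e0]
  have e3 : S.Eqz (y * T' * y⁻¹ * T'⁻¹) (g * (X * T * X⁻¹ * T⁻¹) * g⁻¹) := by
    rw [e2]
    have := (S.L_comm (S.Q_le_L hl) hyQ).mul (S.mem_L_of_mem hl hcQ)
    rwa [one_mul] at this
  exact e3.trans (Eqz.conj g e1)

/-- An element fixing a point maps an involution through it to another such. -/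
theorem stb_img {p : ℕ} (hp : p ∈ [64, 4, 68]) {t t' : ℕ} (ht : t < 1024) (ht' : t' < 1024) {g : H}
    (hgs : g ∈ S.Stb (S.e (ofN p))) (hg : S.pr (g * S.e (ofN t) * g⁻¹) = S.τ t')
    (hpt : (commImg t).contains p = true) : (commImg t').contains p = true := by
  obtain ⟨c, hc, hce⟩ := S.comm_img ht ht' hg hpt (S.ptQ hp).2.1 (S.ptQ hp).2.2.1
  have := S.eqz_e.1 (hce.trans (Eqz.symm hgs))
  rw [ofN_code (S.ptQ hp).2.1, (S.ptQ hp).2.2.1] at this
  rwa [this] at hc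

/-- An odd subgroup normalised by the image of the Sylow subgroup is trivial. -/
theorem odd_trivial (M : Subgroup (H ⧸ S.Q)) (hM : Odd (Nat.card M))
    (hn : ∀ i, ∀ m ∈ M, S.τ i * m * (S.τ i)⁻¹ ∈ M) : M = ⊥ := by
  classical
  have lift : ∀ {m : H ⧸ S.Q}, m ∈ M → ∃ y : H, S.pr y = m ∧ ∃ n, Odd n ∧ y ^ n ∈ S.L := by
    intro m hm
    obtain ⟨y, hy⟩ := S.pr_surj m
    refine ⟨y, hy, orderOf m, hM.of_dvd_nat (Subgroup.orderOf_dvd_natCard M hm), S.Q_le_L ?_⟩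
    rw [← pr_eq_one, map_pow, hy, pow_orderOf_eq_one]
  have hq : ∀ y : H, ∀ x ∈ S.Q, y * x * y⁻¹ ∈ S.Q := fun y x hx => S.Q_conj y hx
  have comm24 : ∀ m ∈ M, S.τ 32 * m * (S.τ 32)⁻¹ = m → m = 1 := by
    intro m hm hc
    obtain ⟨y, hy, n, hn', hyn⟩ := lift hm
    rw [← hy, pr_eq_one, ← S.L_eq_Q]
    refine S.mem_L_24 (hq y) ?_ hn' hyn
    rw [S.L_eq_Q, ← pr_eq_one, map_mul, map_mul, map_mul, map_inv, map_inv, hy]
    show m * S.τ 32 * m⁻¹ * (S.τ 32)⁻¹ = 1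
    rw [mul_inv_eq_one, mul_inv_eq_iff_eq_mul, ← mul_inv_eq_iff_eq_mul.1 hc]
  have sq : ∀ i ∈ [16, 32], S.τ i * S.τ i = 1 := by
    intro i hi
    have : i ∈ pL ∧ mulN i i &&& 176 = 0 := by revert i; decide +kernel
    rw [S.τ_mul this.1 this.1, this.2, S.τ_one]
  let φ : M →* M :=
    { toFun := fun m => ⟨S.τ 32 * m * (S.τ 32)⁻¹, hn 32 m m.2⟩
      map_one' := Subtype.ext (by simp)
      map_mul' := fun a b => Subtype.ext (by simp only [Subgroup.coe_mul]; group) }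
  have hfpf : MonoidHom.FixedPointFree φ := fun m hm => Subtype.ext (comm24 m m.2 (congrArg Subtype.val hm))
  have hinvol : Function.Involutive φ := fun m => Subtype.ext (by
    show S.τ 32 * (S.τ 32 * (m : H ⧸ S.Q) * (S.τ 32)⁻¹) * (S.τ 32)⁻¹ = (m : H ⧸ S.Q)
    rw [show S.τ 32 * (S.τ 32 * (m : H ⧸ S.Q) * (S.τ 32)⁻¹) * (S.τ 32)⁻¹ =
      S.τ 32 * S.τ 32 * (m : H ⧸ S.Q) * (S.τ 32 * S.τ 32)⁻¹ by group, sq 32 (by simp)]
    group)
  have inv24 : ∀ m ∈ M, S.τ 32 * m * (S.τ 32)⁻¹ = m⁻¹ := fun m hm =>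
    congrArg Subtype.val (congrFun (hfpf.coe_eq_inv_of_involutive hinvol) ⟨m, hm⟩)
  have comt : ∀ {t p xu xv a b : ℕ}, t < 1024 → lineChk t p 64 xu xv = true → perpChk p 64 a b = true →
      inMask mQ p = true → inMask mQ a = true → inMask mQ b = true →
      (∀ c ∈ [a, b], cmN c p = 0 ∧ cmN c 64 = 0 ∧ mulN c c = 0) →
      (span3 p 64).all (fun c => Nat.beq (bz (cmN 32 c)) 0) = true →
      ∀ m ∈ M, S.τ t * m * (S.τ t)⁻¹ = m → m = 1 := by
    intro t p xu xv a b ht hl hchk hp ha hb hab hfix m hm hc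
    obtain ⟨y, hy, n, hn', hyn⟩ := lift hm
    rw [← hy, pr_eq_one, ← S.L_eq_Q]
    refine S.mem_L_inverted ht hl hchk hp ha hb hab hfix (hq y) ?_ ?_ hn' hyn
    · rw [S.L_eq_Q, ← pr_eq_one, map_mul, map_mul, map_mul, map_inv, map_inv, hy]
      show m * S.τ t * m⁻¹ * (S.τ t)⁻¹ = 1
      rw [mul_inv_eq_one, mul_inv_eq_iff_eq_mul, ← mul_inv_eq_iff_eq_mul.1 hc]
    · rw [S.L_eq_Q, ← pr_eq_one, map_mul, map_mul, map_mul, map_inv, hy]
      show S.τ 32 * m * (S.τ 32)⁻¹ * m = 1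
      rw [inv24 m hm, inv_mul_cancel]
  obtain ⟨-, m64, m2, -, m512, m6, m768, -, -, hab23, hab48⟩ := mid_data
  have m4 := mid_data.1
  have c23 := comt (by norm_num) line_ok.2.1 perp_ok.2.1 m2 m4 m512 hab23 lines_fixed.1
  have c48 := comt (by decide) line_ok.2.2.1 perp_ok.2.2 m6 m4 m768 hab48 lines_fixed.2
  refine (Subgroup.eq_bot_iff_forall _).2 fun m hm => ?_
  have i23 : S.τ 16 * m * (S.τ 16)⁻¹ = m⁻¹ := by
    have hm' := hn 16 m hm
    have hcomm := hfpf.commute_all_of_involutive hinvol ⟨_, hm⟩ ⟨_, hm'⟩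
    have hc : m * (S.τ 16 * m * (S.τ 16)⁻¹) = S.τ 16 * m * (S.τ 16)⁻¹ * m := congrArg Subtype.val hcomm.eq
    refine eq_inv_of_mul_eq_one_right ?_
    refine c23 _ (mul_mem hm hm') ?_
    rw [show S.τ 16 * (m * (S.τ 16 * m * (S.τ 16)⁻¹)) * (S.τ 16)⁻¹ =
      S.τ 16 * m * (S.τ 16)⁻¹ * (S.τ 16 * S.τ 16 * m * (S.τ 16 * S.τ 16)⁻¹) by group, sq 16 (by simp), one_mul,
      inv_one, mul_one, hc]
  refine c48 m hm ?_
  have e : S.τ (mulN 16 32) = S.τ 16 * S.τ 32 := by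
    rw [S.τ_mul (by decide) (by decide)]; congr 1
  rw [e, show S.τ 16 * S.τ 32 * m * (S.τ 16 * S.τ 32)⁻¹ = S.τ 16 * (S.τ 32 * m * (S.τ 32)⁻¹) * (S.τ 16)⁻¹ by group,
    inv24 m hm, show S.τ 16 * m⁻¹ * (S.τ 16)⁻¹ = (S.τ 16 * m * (S.τ 16)⁻¹)⁻¹ by group, i23, inv_inv]

/-- The centraliser of 24 modulo Q is the image of the Sylow subgroup. -/
theorem cent24 : centralizer ({S.τ 32} : Set (H ⧸ S.Q)) = (S.PK : Subgroup (H ⧸ S.Q)) := by
  classical
  haveI : Fact (Nat.Prime 2) := ⟨Nat.prime_two⟩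
  set C := centralizer ({S.τ 32} : Set (H ⧸ S.Q)) with hC
  have hc32 : ∀ i ∈ pL, mulN i 32 &&& 176 = mulN 32 i &&& 176 := by decide +kernel
  have hle : (S.PK : Subgroup (H ⧸ S.Q)) ≤ C := by
    intro x hx
    obtain ⟨i, hi, rfl⟩ := S.mem_PK.1 hx
    rw [hC, mem_centralizer_singleton_iff, S.τ_mul hi (by decide), S.τ_mul (by decide) hi, hc32 i hi]
  refine (S.PK.is_maximal' ?_ hle)
  refine IsPGroup.of_card (n := (Nat.card C).primeFactorsList.length) ?_
  refine Nat.eq_prime_pow_of_unique_prime_dvd (Nat.card_pos.ne') fun {q} hq hdvd => ?_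
  by_contra h2
  haveI := Fact.mk hq
  obtain ⟨m, hm⟩ := exists_prime_orderOf_dvd_card' q hdvd
  obtain ⟨y, hy⟩ := S.pr_surj (m : H ⧸ S.Q)
  have hmo : orderOf (m : H ⧸ S.Q) = q := by rw [orderOf_coe, hm]
  have hmc := mem_centralizer_singleton_iff.1 m.2
  have hyL : y ∈ S.L := by
    refine S.mem_L_24 (fun x hx => S.Q_conj y hx) ?_ (n := q) (hq.odd_of_ne_two h2) (S.Q_le_L ?_)
    · rw [S.L_eq_Q, ← pr_eq_one, map_mul, map_mul, map_mul, map_inv, map_inv, hy]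
      show (m : H ⧸ S.Q) * S.τ 32 * (m : H ⧸ S.Q)⁻¹ * (S.τ 32)⁻¹ = 1
      rw [hmc, mul_inv_cancel_right, mul_inv_cancel]
    · rw [← pr_eq_one, map_pow, hy, ← hmo, pow_orderOf_eq_one]
  rw [S.L_eq_Q, ← pr_eq_one, hy] at hyL
  rw [hyL, orderOf_one] at hmo
  exact hq.one_lt.ne hmo

theorem order_two_τ {i : ℕ} (hi : i ∈ [16, 32, 48, 128, 160]) : orderOf (S.τ i) = 2 := by
  have : i ∈ pL ∧ i ≠ 0 ∧ mulN i i &&& 176 = 0 := by revert i; decide +kernel
  exact orderOf_eq_prime (by rw [pow_two, S.τ_mul this.1 this.1, this.2.2, S.τ_one]) (S.τ_ne_one this.1 this.2.1)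

theorem invol_PK {x : H ⧸ S.Q} (hx : x ∈ (S.PK : Subgroup (H ⧸ S.Q))) (h2 : orderOf x = 2) :
    ∃ i ∈ [16, 32, 48, 128, 160], S.τ i = x := by
  obtain ⟨i, hi, rfl⟩ := S.mem_PK.1 hx
  refine ⟨i, ?_, rfl⟩
  rw [← quot_rels.2.2.2.2.2.2.2.2.2.2.2.2.2, List.mem_filter]
  have h1 : S.τ (mulN i i &&& 176) = S.τ 0 := by
    rw [← S.τ_mul hi hi, ← pow_two, ← h2, pow_orderOf_eq_one, S.τ_one]
  have hne : i ≠ 0 := fun h => by rw [h, S.τ_one, orderOf_one] at h2; omega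
  have hsq : ∀ j ∈ pL, mulN j j &&& 176 ∈ pL := by decide +kernel
  simp [hi, S.τ_inj (hsq i hi) (by decide) h1, Bool.eq_false_iff, hne]

theorem order_conj {K : Type*} [Group K] (g x : K) : orderOf (g * x * g⁻¹) = orderOf x :=
  MulEquiv.orderOf_eq (MulAut.conj g) x

/-- A subgroup above the Sylow image in which 24 is isolated is the Sylow image. -/
theorem eq_PK (X : Subgroup (H ⧸ S.Q)) (hP : (S.PK : Subgroup (H ⧸ S.Q)) ≤ X)
    (h : ∀ x ∈ X, x * S.τ 32 * x⁻¹ ∈ (S.PK : Subgroup (H ⧸ S.Q)) → x * S.τ 32 * x⁻¹ = S.τ 32) :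
    X = (S.PK : Subgroup (H ⧸ S.Q)) := by
  classical
  haveI : Fact (Nat.Prime 2) := ⟨Nat.prime_two⟩
  refine le_antisymm (fun x hx => ?_) hP
  set zX : X := ⟨S.τ 32, hP (S.τ_mem_PK 32)⟩ with hz
  have hiso : Cfsg.IsIsolatedInvolution zX := by
    refine ⟨by rw [hz, Subgroup.orderOf_mk]; exact S.order_two_τ (by simp), fun g hg => Subtype.ext ?_⟩
    refine h g g.2 ?_
    rw [← S.cent24, mem_centralizer_singleton_iff]
    exact (congrArg Subtype.val hg.eq).symm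
  have hM : (Cfsg.pPrimeCore 2 X).map X.subtype = ⊥ := by
    refine S.odd_trivial _ ?_ ?_
    · rw [card_map_of_injective X.subtype_injective]
      exact Cfsg.Lib.ZStarApps.odd_card_pPrimeCore
    · rintro i _ ⟨m, hm, rfl⟩
      haveI : (Cfsg.pPrimeCore 2 X).Normal :=
        haveI : (Cfsg.pPrimeCore 2 X).Characteristic := Cfsg.Lib.Components.pPrimeCore_characteristic
        inferInstance
      exact ⟨_, (inferInstance : (Cfsg.pPrimeCore 2 X).Normal).conj_mem m hm ⟨S.τ i, hP (S.τ_mem_PK i)⟩, rfl⟩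
  have h1 := Cfsg.Lib.ZStarApps.zstarProp hiso ⟨x, hx⟩
  rw [map_eq_bot_iff_of_injective _ X.subtype_injective] at hM
  rw [hM, mem_bot] at h1
  rw [← S.cent24, mem_centralizer_singleton_iff]
  have h2 : S.τ 32 * x * (S.τ 32)⁻¹ * x⁻¹ = 1 := congrArg Subtype.val h1
  exact (mul_inv_eq_iff_eq_mul.1 (mul_inv_eq_one.1 h2)).symm

/-- A moved point forces fusion of 24 with the involutions of the other four-group. -/
theorem fused {s u v q p : ℕ} (hp : p ∈ [64, 4, 68])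
    (hl : s ∈ [16, 32, 48, 128, 160] ∧ u ∈ [16, 32, 48, 128, 160] ∧ v ∈ [16, 32, 48, 128, 160] ∧
      q ∈ [16, 32, 48, 128, 160] ∧ ∀ i ∈ [16, 32, 48, 128, 160], i ∈ [s, 32, v, u, q])
    (hm : movedChk p s s 32 v = true) (hint : ((commImg s).all fun c =>
      !((commImg 32).contains c && (commImg v).contains c) || Nat.beq c 0 || Nat.beq c p) = true)
    (hpt : ([s, 32, v].all fun t => (commImg t).contains p) = true)
    (hs32 : s ≠ 32 ∧ mulN s 32 &&& 176 = v ∧ mulN 32 s &&& 176 = v)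
    (hq : mulN (mulN s u) s &&& 176 = q ∧ mulN (mulN u s) u &&& 176 = v)
    (hmv : ∃ g : H, g ∉ S.Stb (S.e (ofN p))) : IsConj (S.τ 32) (S.τ u) := by
  classical
  haveI : Fact (Nat.Prime 2) := ⟨Nat.prime_two⟩
  obtain ⟨ls, lu, lv, lq, lall⟩ := hl
  have iL : ∀ {i : ℕ}, i ∈ [16, 32, 48, 128, 160] → i ∈ pL ∧ mulN i i &&& 176 = 0 := by
    intro i hi; revert i; decide +kernel
  have inv : ∀ {i : ℕ}, i ∈ [16, 32, 48, 128, 160] → (S.τ i)⁻¹ = S.τ i := fun hi =>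
    inv_eq_of_mul_eq_one_right (by rw [S.τ_mul (iL hi).1 (iL hi).1, (iL hi).2, S.τ_one])
  have cj : ∀ {a b : ℕ}, a ∈ [16, 32, 48, 128, 160] → b ∈ [16, 32, 48, 128, 160] →
      S.τ a * S.τ b * (S.τ a)⁻¹ = S.τ (mulN (mulN a b) a &&& 176) := by
    intro a b ha hb
    rw [inv ha, τ, τ, ← map_mul, ← map_mul, ← map_mul, ← map_mul, S.pr_e, code_mul, code_mul,
      ofN_code (pL_lt (iL ha).1).1, ofN_code (pL_lt (iL hb).1).1]
  have tuq : S.τ s * S.τ u * (S.τ s)⁻¹ = S.τ q := by rw [cj ls lu, hq.1]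
  have tsv : S.τ u * S.τ s * (S.τ u)⁻¹ = S.τ v := by rw [cj lu ls, hq.2]
  by_contra hnu
  have hnq : ¬ IsConj (S.τ 32) (S.τ q) := fun h => hnu (h.trans (isConj_iff.2 ⟨_, tuq⟩).symm)
  have inP : ∀ {x : H ⧸ S.Q}, IsConj (S.τ 32) x → x ∈ (S.PK : Subgroup (H ⧸ S.Q)) →
      ∃ t ∈ [s, 32, v], S.τ t = x := by
    intro x hx hxP
    obtain ⟨c, rfl⟩ := isConj_iff.1 hx
    obtain ⟨i, hi, hie⟩ := S.invol_PK hxP (by rw [order_conj, S.order_two_τ (by simp)])
    have := lall i hi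
    simp only [List.mem_cons, List.not_mem_nil, or_false] at this
    rcases this with rfl | rfl | rfl | rfl | rfl
    · exact ⟨_, by simp, hie⟩
    · exact ⟨_, by simp, hie⟩
    · exact ⟨_, by simp, hie⟩
    · exact absurd (hie ▸ hx) hnu
    · exact absurd (hie ▸ hx) hnq
  set X := S.StbK p with hX
  have hPX : (S.PK : Subgroup (H ⧸ S.Q)) ≤ X := S.PK_le_StbK hp
  obtain ⟨gm, hgm⟩ := hmv
  by_cases hcs : IsConj (S.τ 32) (S.τ s)
  swap
  · have htop : (⊤ : Subgroup (H ⧸ S.Q)) = (S.PK : Subgroup (H ⧸ S.Q)) := by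
      refine S.eq_PK ⊤ le_top fun x _ hx => ?_
      obtain ⟨t, ht, hte⟩ := inP (isConj_iff.2 ⟨x, rfl⟩) hx
      simp only [List.mem_cons, List.not_mem_nil, or_false] at ht
      rcases ht with rfl | rfl | rfl
      · exact absurd (hte ▸ isConj_iff.2 ⟨x, rfl⟩) hcs
      · exact hte.symm
      · exact absurd ((hte ▸ isConj_iff.2 ⟨x, rfl⟩ : IsConj (S.τ 32) (S.τ _)).trans
          (isConj_iff.2 ⟨_, tsv⟩).symm) hcs
    exact hgm ((S.mem_StbK hp).1 (hPX (htop ▸ mem_top (S.pr gm))))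
  obtain ⟨c0, hc0⟩ := isConj_iff.1 hcs.symm
  obtain ⟨g0, hg0⟩ := S.pr_surj c0
  have l32 : (32 : ℕ) ∈ [16, 32, 48, 128, 160] := by simp
  have hv : S.τ s * S.τ 32 = S.τ v := by rw [S.τ_mul (iL ls).1 (iL l32).1, hs32.2.1]
  have hv' : S.τ 32 * S.τ s = S.τ v := by rw [S.τ_mul (iL l32).1 (iL ls).1, hs32.2.2]
  obtain ⟨t1, ht1, ht1e⟩ : ∃ t ∈ [s, v], S.τ t = c0 * S.τ 32 * c0⁻¹ := by
    have hP : c0 * S.τ 32 * c0⁻¹ ∈ (S.PK : Subgroup (H ⧸ S.Q)) := by
      rw [← S.cent24, mem_centralizer_singleton_iff]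
      conv_lhs => arg 2; rw [← hc0]
      conv_rhs => arg 1; rw [← hc0]
      calc c0 * S.τ 32 * c0⁻¹ * (c0 * S.τ s * c0⁻¹) = c0 * (S.τ 32 * S.τ s) * c0⁻¹ := by group
        _ = c0 * (S.τ s * S.τ 32) * c0⁻¹ := by rw [hv, hv']
        _ = _ := by group
    obtain ⟨t, ht, hte⟩ := inP (isConj_iff.2 ⟨c0, rfl⟩) hP
    simp only [List.mem_cons, List.not_mem_nil, or_false] at ht
    rcases ht with rfl | rfl | rfl
    · exact ⟨_, by simp, hte⟩
    · exfalso
      have : S.τ 32 = S.τ s := by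
        have := hte.trans (congrArg (fun x => x) (rfl : c0 * S.τ 32 * c0⁻¹ = _))
        exact (mul_left_cancel (mul_right_cancel (hc0.trans this : c0 * S.τ s * c0⁻¹ = c0 * S.τ 32 * c0⁻¹))).symm
      exact hs32.1 (S.τ_inj (iL ls).1 (iL l32).1 this.symm)
    · exact ⟨_, by simp, hte⟩
  -- the point is fixed
  have hg0X : g0 ∈ S.Stb (S.e (ofN p)) := by
    have img : ∀ {t t' : ℕ}, t ∈ [s, 32, v] → c0 * S.τ t * c0⁻¹ = S.τ t' → t' ∈ [16, 32, 48, 128, 160] →
        ∃ c : Mdl, (commImg t').contains (bz c.code.val) = true ∧ S.Eqz (S.e c) (g0 * S.e (ofN p) * g0⁻¹) := by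
      intro t t' ht he ht'
      refine S.comm_img (t := t) ?_ (pL_lt (iL ht').1).1 ?_ (List.all_eq_true.1 hpt t ht) (S.ptQ hp).2.1
        (S.ptQ hp).2.2.1
      · simp only [List.mem_cons, List.not_mem_nil, or_false] at ht
        rcases ht with rfl | rfl | rfl
        exacts [(pL_lt (iL ls).1).1, by norm_num, (pL_lt (iL lv).1).1]
      · rw [map_mul, map_mul, map_inv, hg0, ← he]; rfl
    obtain ⟨c, hc, hce⟩ := img (t := s) (t' := 32) (by simp) hc0 l32
    have key : ∀ {t t' : ℕ}, t ∈ [s, 32, v] → c0 * S.τ t * c0⁻¹ = S.τ t' → t' ∈ [16, 32, 48, 128, 160] →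
        (commImg t').contains (bz c.code.val) = true := by
      intro t t' ht he ht'
      obtain ⟨c', hc', hce'⟩ := img ht he ht'
      rwa [S.eqz_e.1 (hce.trans hce'.symm)]
    have e3 : c0 * S.τ v * c0⁻¹ = S.τ 32 * S.τ t1 := by
      rw [← hv, ht1e, ← hc0]; group
    have hb : (commImg s).contains (bz c.code.val) = true ∧ (commImg v).contains (bz c.code.val) = true := by
      simp only [List.mem_cons, List.not_mem_nil, or_false] at ht1
      rcases ht1 with ht1' | ht1'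
      · rw [ht1'] at ht1e e3
        exact ⟨key (by simp) ht1e.symm ls, key (t := v) (by simp) (e3.trans hv') lv⟩
      · rw [ht1'] at ht1e e3
        refine ⟨key (t := v) (by simp) (e3.trans ?_) ls, key (by simp) ht1e.symm lv⟩
        rw [← hv', ← mul_assoc, S.τ_mul (iL l32).1 (iL l32).1, (iL l32).2, S.τ_one, one_mul]
    have h := List.all_eq_true.1 hint (bz c.code.val) (by simpa using hb.1)
    rw [hc, hb.2] at h
    simp only [Bool.and_self, Bool.not_true, Bool.false_or, Bool.or_eq_true, Nat.beq_eq] at h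
    rcases h with h | h
    · exfalso
      have h1 : S.Eqz 1 (g0 * S.e (ofN p) * g0⁻¹) := by
        refine Eqz.trans ?_ hce
        rw [← map_one S.e, S.eqz_e, h]; rfl
      have h2 := h1.conj g0⁻¹
      rw [show g0⁻¹ * (g0 * S.e (ofN p) * g0⁻¹) * g0⁻¹⁻¹ = S.e (ofN p) by group, mul_one, inv_inv, inv_mul_cancel,
        ← map_one S.e, S.eqz_e, ofN_code (S.ptQ hp).2.1, (S.ptQ hp).2.2.1] at h2
      exact (S.ptQ hp).2.2.2 h2.symm
    · refine Eqz.trans ?_ hce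
      rw [S.eqz_e, ofN_code (S.ptQ hp).2.1, h, (S.ptQ hp).2.2.1]
  have hc0X : c0 ∈ X := hg0 ▸ (S.mem_StbK hp).2 hg0X
  have hu : S.τ u ∈ X := hPX (S.τ_mem_PK u)
  have uv : S.τ u * S.τ v * (S.τ u)⁻¹ = S.τ s := by
    have huu : S.τ u * S.τ u = 1 := by rw [S.τ_mul (iL lu).1 (iL lu).1, (iL lu).2, S.τ_one]
    rw [← tsv, inv lu, show S.τ u * (S.τ u * S.τ s * S.τ u) * S.τ u = S.τ u * S.τ u * S.τ s * (S.τ u * S.τ u) by group,
      huu, one_mul, mul_one]
  have hV : ∀ t ∈ [s, 32, v], ∃ a ∈ X, a * S.τ t * a⁻¹ = S.τ 32 := by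
    intro t ht
    simp only [List.mem_cons, List.not_mem_nil, or_false] at ht
    rcases ht with rfl | rfl | rfl
    · exact ⟨c0, hc0X, hc0⟩
    · exact ⟨1, one_mem _, by group⟩
    · refine ⟨c0 * S.τ u, mul_mem hc0X hu, ?_⟩
      rw [show c0 * S.τ u * S.τ t * (c0 * S.τ u)⁻¹ = c0 * (S.τ u * S.τ t * (S.τ u)⁻¹) * c0⁻¹ by group, uv, hc0]
  -- the other points are moved
  have hmoved : ∀ g : H, g ∉ S.Stb (S.e (ofN p)) → ∀ t ∈ [s, 32, v],
      S.e (ofN t) ∉ S.Stb (g * S.e (ofN p) * g⁻¹) := by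
    intro g hg t ht hfix
    apply hg
    rw [← S.mem_StbK hp]
    set x := S.pr g
    have hy : x⁻¹ * S.τ t * x ∈ X := by
      rw [show x⁻¹ * S.τ t * x = S.pr (g⁻¹ * S.e (ofN t) * g) by rw [map_mul, map_mul, map_inv]; rfl]
      refine (S.mem_StbK hp).2 ?_
      have := Eqz.conj g⁻¹ hfix
      rw [inv_inv, show g⁻¹ * (g * S.e (ofN p) * g⁻¹) * g = S.e (ofN p) by group] at this
      show S.Eqz _ _
      convert this using 1
      group
    obtain ⟨bt, hbt, hbte⟩ := hV t ht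
    have ht' : t ∈ [16, 32, 48, 128, 160] := by
      simp only [List.mem_cons, List.not_mem_nil, or_false] at ht
      rcases ht with rfl | rfl | rfl
      exacts [ls, l32, lv]
    set y : X := ⟨_, hy⟩
    have hyo : orderOf y = 2 := by
      rw [Subgroup.orderOf_mk, ← S.order_two_τ ht']
      conv_rhs => rw [← order_conj x⁻¹ (S.τ t), inv_inv]
    have hp2 : IsPGroup 2 (zpowers y) := IsPGroup.of_card (n := 1) (by rw [Nat.card_zpowers, hyo, pow_one])
    obtain ⟨a, ha⟩ := Cfsg.Lib.InvolCalc.exists_conj_le (S.PK.subtype hPX) hp2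
    have hz : (a : H ⧸ S.Q)⁻¹ * (x⁻¹ * S.τ t * x) * a ∈ (S.PK : Subgroup (H ⧸ S.Q)) :=
      mem_subgroupOf.1 (ha y (mem_zpowers y))
    have hcl : IsConj (S.τ 32) ((a : H ⧸ S.Q)⁻¹ * (x⁻¹ * S.τ t * x) * a) :=
      (isConj_iff.2 ⟨bt, hbte⟩ : IsConj (S.τ t) (S.τ 32)).symm.trans (isConj_iff.2 ⟨(x * a)⁻¹, by group⟩)
    obtain ⟨t', ht'', hte'⟩ := inP hcl hz
    obtain ⟨b, hb, hbe⟩ := hV t' ht''
    rw [hte'] at hbe
    have hC : b * (a : H ⧸ S.Q)⁻¹ * x⁻¹ * bt⁻¹ ∈ X := by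
      refine hPX (S.cent24 ▸ mem_centralizer_singleton_iff.2 ?_)
      rw [← mul_inv_eq_iff_eq_mul]
      conv_lhs => arg 1; arg 2; rw [← hbte]
      refine Eq.trans ?_ hbe
      group
    have := mul_mem (mul_mem (inv_mem hC) hb) (inv_mem a.2)
    have := mul_mem (inv_mem hbt) this
    rwa [show bt⁻¹ * ((b * (a : H ⧸ S.Q)⁻¹ * x⁻¹ * bt⁻¹)⁻¹ * b * (a : H ⧸ S.Q)⁻¹) = x by group] at this
  have hpsq : S.e (ofN p) * S.e (ofN p) = 1 := by
    rw [← map_mul, ← map_one S.e]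
    refine congrArg _ ?_
    have : ∀ p ∈ [64, 4, 68], ofN p * ofN p = 1 := by decide +kernel
    exact this p hp
  have cand : ∀ g : H, g ∉ S.Stb (S.e (ofN p)) →
      ¬ Commute (g * S.e (ofN p) * g⁻¹) (S.e (ofN p)) ∧
      Commute (S.e (ofN s) * (g * S.e (ofN p) * g⁻¹) * (S.e (ofN s))⁻¹) (g * S.e (ofN p) * g⁻¹) := by
    intro g hg
    obtain ⟨c, hc, hce⟩ := S.exists_Q (S.Q_conj g (S.ptQ hp).1)
    have hcc : mulN c.code.val c.code.val = 0 := by
      rw [← code_mul]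
      have : c * c = 1 := S.inj (by
        rw [map_mul, map_one, hce, show g * S.e (ofN p) * g⁻¹ * (g * S.e (ofN p) * g⁻¹) =
          g * (S.e (ofN p) * S.e (ofN p)) * g⁻¹ by group, hpsq, mul_one, mul_inv_cancel])
      rw [this, code_one]
    have h := List.all_eq_true.1 hm _ (maskList_mem hc)
    simp only [hcc, Nat.beq_refl, Bool.not_true, Bool.false_or, Bool.or_eq_true, List.any_eq_true,
      Bool.and_eq_true, Bool.not_eq_true'] at h
    rcases h with ⟨t, ht, hte⟩ | ⟨h1, h2⟩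
    · refine absurd ?_ (hmoved g hg t ht)
      have ht' : t < 1024 := by
        simp only [List.mem_cons, List.not_mem_nil, or_false] at ht
        rcases ht with rfl | rfl | rfl
        exacts [(pL_lt (iL ls).1).1, by norm_num, (pL_lt (iL lv).1).1]
      show S.Eqz _ _
      rw [← hce, ← map_inv, ← map_mul, ← map_mul, S.eqz_e, code_mul, code_mul, code_inv, ofN_code ht']
      exact (Nat.eq_of_beq_eq_true hte).symm
    · constructor
      · intro hcomm
        rw [← hce] at hcomm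
        have : c * ofN p * c⁻¹ * (ofN p)⁻¹ = 1 := S.inj (by
          rw [map_mul, map_mul, map_mul, map_inv, map_inv, hcomm.eq, mul_inv_cancel_right, mul_inv_cancel, map_one])
        have := congrArg (fun m : Mdl => m.code.val) this
        rw [code_comm, ofN_code (S.ptQ hp).2.1, code_one] at this
        rw [this] at h1
        simp at h1
      · rw [← hce, ← map_inv, ← map_mul, ← map_mul]
        refine Commute.map ?_ S.e
        set d := ofN s * c * (ofN s)⁻¹ with hd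
        have hd1 : d * c * d⁻¹ * c⁻¹ = 1 := code_inj.1 (by
          rw [code_comm, hd, code_mul, code_mul, code_inv, ofN_code (pL_lt (iL ls).1).1, Nat.eq_of_beq_eq_true h2]
          rfl)
        exact mul_inv_eq_iff_eq_mul.1 (mul_inv_eq_one.1 hd1)
  set w := gm * S.e (ofN p) * gm⁻¹ with hw
  have hy : gm⁻¹ * S.e (ofN s) * gm ∉ S.Stb (S.e (ofN p)) := fun h => by
    refine hmoved gm hgm s (by simp) ?_
    have := Eqz.conj gm h
    show S.Eqz _ _
    convert this using 1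
    group
  refine (cand _ hy).1 ?_
  have h2 := ((cand gm hgm).2).map (MulAut.conj gm⁻¹).toMonoidHom
  convert h2 using 1 <;> simp [mul_assoc]

section moves

variable (h0 : ∃ g : H, ∃ y : Mdl, inMask mQ y.code.val = true ∧ y.code.val.testBit 0 = false ∧
    g * S.e (ofN 1) * g⁻¹ = S.e y)
  (h9 : ∃ g : H, ∃ y : Mdl, inMask mQ y.code.val = true ∧ y.code.val.testBit 9 = false ∧
    g * S.e (ofN 512) * g⁻¹ = S.e y)

theorem moved_pt {k p : ℕ} (hk : k = 1 ∧ p = 64 ∨ k = 512 ∧ p = 4) {g : H} {y : Mdl}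
    (hy : cmN y.code.val p = 0) (hg : g * S.e (ofN k) * g⁻¹ = S.e y) : g ∉ S.Stb (S.e (ofN p)) := by
  intro hs
  have hcz : cmN k p = 8 ∧ k < 1024 ∧ p < 1024 := by rcases hk with ⟨rfl, rfl⟩ | ⟨rfl, rfl⟩ <;> decide +kernel
  have hky : ofN k * ofN p * (ofN k)⁻¹ * (ofN p)⁻¹ = zM := code_inj.1 (by
    rw [code_comm, ofN_code hcz.2.1, ofN_code hcz.2.2, hcz.1]; rfl)
  have hyp : Commute (S.e y) (S.e (ofN p)) := by
    refine Commute.map ?_ S.e
    have : y * ofN p * y⁻¹ * (ofN p)⁻¹ = 1 := code_inj.1 (by rw [code_comm, ofN_code hcz.2.2, hy]; rfl)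
    exact mul_inv_eq_iff_eq_mul.1 (mul_inv_eq_one.1 this)
  have h1 : Commute (g * S.e (ofN k) * g⁻¹) (g * S.e (ofN p) * g⁻¹) := by
    rw [hg]
    exact ((Eqz.commute_iff hs _).1 hyp.symm).symm
  have h2 : Commute (S.e (ofN k)) (S.e (ofN p)) := by
    have := h1.map (MulAut.conj g⁻¹).toMonoidHom
    convert this using 1 <;> simp [mul_assoc]
  have : S.e (ofN k * ofN p * (ofN k)⁻¹ * (ofN p)⁻¹) = 1 := by
    rw [map_mul, map_mul, map_mul, map_inv, map_inv, h2.eq, mul_inv_cancel_right, mul_inv_cancel]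
  rw [hky] at this
  exact S.toSetting.z_ne_one this

include h0 in
theorem fused34 : IsConj (S.τ 32) (S.τ 128) := by
  obtain ⟨g, y, hy, hb, hg⟩ := h0
  have hf := List.all_eq_true.1 functional_ok.1 _ (maskList_mem hy)
  simp only [hb, Bool.false_or, Bool.and_eq_true, Nat.beq_eq] at hf
  exact S.fused (s := 16) (v := 48) (q := 160) (p := 64) (by simp)
    ⟨by simp, by simp, by simp, by simp, by decide⟩ moved_ok.1 inter_ok.1 inter_ok.2.2.1
    (by decide +kernel) (by decide +kernel) ⟨g, S.moved_pt (Or.inl ⟨rfl, rfl⟩) hf.1 hg⟩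

include h9 in
theorem fused23 : IsConj (S.τ 32) (S.τ 16) := by
  obtain ⟨g, y, hy, hb, hg⟩ := h9
  have hf := List.all_eq_true.1 functional_ok.1 _ (maskList_mem hy)
  simp only [hb, Bool.false_or, Bool.and_eq_true, Nat.beq_eq] at hf
  exact S.fused (s := 128) (v := 160) (q := 48) (p := 4) (by simp)
    ⟨by simp, by simp, by simp, by simp, by decide⟩ moved_ok.2 inter_ok.2.1 inter_ok.2.2.2.1
    (by decide +kernel) (by decide +kernel) ⟨g, S.moved_pt (Or.inr ⟨rfl, rfl⟩) hf.2 hg⟩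

include h0 h9 in
/-- The quotient by Q satisfies the hypotheses of the dihedral centraliser theorem. -/
theorem setup : Cfsg.Lib.DihedralCent.Setup (S.τ 32) (S.τ 176) (S.τ 16) where
  two := fun X hX => by
    haveI : Fact (Nat.Prime 2) := ⟨Nat.prime_two⟩
    haveI := Subgroup.normal_of_index_eq_two hX
    have h32 : S.τ 32 ∈ X := by
      have e : S.τ 32 = S.τ 16 * S.τ 128 * (S.τ 16 * S.τ 128) := by
        rw [S.τ_mul (i := 16) (j := 128) (by decide) (by decide), S.τ_mul (by decide +kernel) (by decide +kernel)]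
        congr 1
      rw [e]
      exact Subgroup.mul_self_mem_of_index_two hX _
    have hin : ∀ i, IsConj (S.τ 32) (S.τ i) → S.τ i ∈ X := fun i hi => by
      obtain ⟨c, hc⟩ := isConj_iff.1 hi
      rw [← hc]
      exact (inferInstance : X.Normal).conj_mem _ h32 c
    have h16 := hin 16 (S.fused23 h9)
    have h128 := hin 128 (S.fused34 h0)
    have hP : (S.PK : Subgroup (H ⧸ S.Q)) ≤ X := by
      intro x hx
      obtain ⟨i, hi, rfl⟩ := S.mem_PK.1 hx
      have hgen : ∀ i ∈ pL, i = 0 ∨ i = 16 ∨ i = 128 ∨ i = 32 ∨ mulN 16 32 &&& 176 = i ∨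
          mulN 128 32 &&& 176 = i ∨ mulN 16 128 &&& 176 = i ∨ mulN 128 16 &&& 176 = i := by decide +kernel
      rcases hgen i hi with rfl | rfl | rfl | rfl | h | h | h | h
      · rw [S.τ_one]; exact one_mem _
      · exact h16
      · exact h128
      · exact h32
      all_goals rw [← h, ← S.τ_mul (by decide) (by decide)]
      exacts [mul_mem h16 h32, mul_mem h128 h32, mul_mem h16 h128, mul_mem h128 h16]
    have h2 := index_dvd_of_le hP
    rw [hX] at h2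
    exact S.PK.not_dvd_index h2
  hz := S.order_two_τ (by simp)
  hC := by rw [S.cent24, S.card_PK]
  syl := ⟨S.PK, S.cent24.symm⟩
  hrz := by rw [S.τ_mul (by decide) (by decide)]; congr 1
  hu := S.order_two_τ (by simp)
  huz := by rw [S.τ_mul (by decide) (by decide), S.τ_mul (by decide) (by decide)]; congr 1
  hur := by
    rw [S.τ_mul (i := 16) (j := 176) (by decide) (by decide), S.τ_mul (by decide +kernel) (by decide),
      S.τ_inv (by decide)]
    congr 1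

include h0 h9 in
/-- The centraliser modulo Q has order 168. -/
theorem card_quot : Nat.card (H ⧸ S.Q) = 168 := by
  classical
  have hstb : S.StbK 68 = (S.PK : Subgroup (H ⧸ S.Q)) := by
    refine S.eq_PK _ (S.PK_le_StbK (by simp)) fun x hx hxP => ?_
    obtain ⟨i, hi, hie⟩ := S.invol_PK hxP (by rw [order_conj, S.order_two_τ (by simp)])
    obtain ⟨g, rfl⟩ := S.pr_surj x
    have h68 := S.stb_img (t := 32) (t' := i) (p := 68) (by simp) (by norm_num)
      (by simp only [List.mem_cons, List.not_mem_nil, or_false] at hi; omega) ((S.mem_StbK (by simp)).1 hx) (by rw [map_mul, map_mul, map_inv, hie]; rfl)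
      inter_ok.2.2.2.2.1
    have h32 : i = 32 := by
      by_contra hne
      have : i ∈ [16, 48, 128, 160] := by
        simp only [List.mem_cons, List.not_mem_nil, or_false] at hi ⊢
        omega
      have h := List.all_eq_true.1 inter_ok.2.2.2.2.2 i this
      rw [h68] at h
      simp at h
    rw [← hie, h32]
  have hind : (S.StbK 68).index ≤ 35 := by
    have hsing : ∀ x : H ⧸ S.Q, ∃ g, S.pr g = x ∧ ∃ c : Mdl, bz c.code.val ∈ singL ∧
        g * S.e (ofN 68) * g⁻¹ = S.e c := by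
      intro x
      obtain ⟨g, hg⟩ := S.pr_surj x
      obtain ⟨c, hc, hce⟩ := S.exists_Q (S.Q_conj g (S.ptQ (p := 68) (by simp)).1)
      refine ⟨g, hg, c, ?_, hce.symm⟩
      have hsq : c * c = 1 := S.inj (by
        rw [map_mul, map_one, hce, show g * S.e (ofN 68) * g⁻¹ * (g * S.e (ofN 68) * g⁻¹) =
          g * (S.e (ofN 68) * S.e (ofN 68)) * g⁻¹ by group, ← map_mul,
          show ofN 68 * ofN 68 = (1 : Mdl) by decide +kernel, map_one, mul_one, mul_inv_cancel])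
      have hne : bz c.code.val ≠ 0 := fun h => by
        have h1 : S.Eqz 1 (g * S.e (ofN 68) * g⁻¹) := by rw [← hce, ← map_one S.e, S.eqz_e, h]; rfl
        have h2 := h1.conj g⁻¹
        rw [show g⁻¹ * (g * S.e (ofN 68) * g⁻¹) * g⁻¹⁻¹ = S.e (ofN 68) by group, mul_one, inv_inv, inv_mul_cancel,
          ← map_one S.e, S.eqz_e] at h2
        exact absurd h2 (by decide +kernel)
      simp only [singL, List.mem_eraseDups, List.mem_map, List.mem_filter, Bool.and_eq_true, Nat.beq_eq,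
        Bool.not_eq_true']
      refine ⟨_, ⟨maskList_mem hc, by rw [← code_mul, hsq, code_one], ?_⟩, rfl⟩
      exact Bool.eq_false_iff.2 fun h => hne (Nat.eq_of_beq_eq_true h)
    choose G hG C hC hGC using hsing
    let f : (H ⧸ S.Q) ⧸ S.StbK 68 → {n // n ∈ singL.toFinset} := fun q =>
      ⟨bz (C q.out).code.val, List.mem_toFinset.2 (hC q.out)⟩
    have hf : Function.Injective f := by
      intro q q' h
      have h1 : S.Eqz (S.e (C q.out)) (S.e (C q'.out)) := S.eqz_e.2 (congrArg Subtype.val h)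
      rw [← hGC, ← hGC] at h1
      have h2 := h1.conj (G q.out)⁻¹
      rw [← QuotientGroup.out_eq' q, ← QuotientGroup.out_eq' q', QuotientGroup.eq, ← hG q.out, ← hG q'.out,
        ← map_inv, ← map_mul, S.mem_StbK (by simp)]
      show S.Eqz _ _
      convert h2 using 1 <;> group
    have := Nat.card_le_card_of_injective f hf
    rw [Nat.card_eq_finsetCard] at this
    exact this.trans ((List.toFinset_card_le _).trans singL_len.le)
  have hcard : Nat.card (H ⧸ S.Q) ≤ 280 := by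
    rw [← (S.StbK 68).card_mul_index, hstb, S.card_PK]
    rw [hstb] at hind
    omega
  rcases Cfsg.Lib.DihedralCent.order_cases (S.setup h0 h9) with h | h
  · exact h
  · omega

end moves

end Hat

end Cfsg.Lib.LFiveType
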