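import Cfsg.Agent.LFiveType.Side

/-!
# Q is strongly closed in the Sylow subgroup modulo the centre
-/

set_option autoImplicit false
set_option linter.unusedSectionVars false
set_option maxRecDepth 100000

namespace Cfsg.Lib.LFiveType

open Subgroup

theorem outReps_split : ∀ y ∈ outReps, y ∈ sideTwo.reps ∨ y ∈ sideThree.reps ∨ y = 290 := by decide

theorem conjB_lt : ∀ s ∈ conjB, s < 1024 := by decide

theorem leftReps_facts : ∀ y ∈ leftReps, sqB y = true ∧ inV y = false := by decide +kernel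

namespace BarGrp

variable {X : Type*} [Group X] [Finite X] (M : BarGrp X)

theorem kill_290 {w : ℕ} (hw : IsB w) (hwV : inV w = true) {g : X} (hg : g * M.s 290 * g⁻¹ = M.s w)
    (hc : ∀ c ∈ cbL 290, g * M.s c * g⁻¹ ∈ M.σ.range) : False := by
  have h := roots_290
  simp only [List.any_eq_true, Nat.beq_eq] at h
  obtain ⟨⟨r, hr, hrr⟩, h8⟩ := h
  have hrB := mem_BL.1 hr
  have h290 : IsB 290 := ⟨by norm_num, rfl⟩
  have hsr : M.s r * M.s r = M.s 290 := by rw [← M.s_bm hrB.1 hrB.1, hrr]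
  have hrC : r ∈ cbL 290 := mem_cbL.2 ⟨hrB, (M.comm_iff h290 hrB).1 (by rw [← hsr, mul_assoc])⟩
  obtain ⟨d, hd, hde⟩ := M.exists_bar (hc r hrC)
  have hdd : bm d d = w := M.s_inj (IsB.bm_of hd.1 hd.1) hw (by
    rw [M.s_bm hd.1 hd.1, hde, ← hg, ← hsr]
    group)
  have h1 := all_BL square_in_V hd
  rw [hdd, hwV, Bool.not_true, Bool.false_or, Nat.beq_eq] at h1
  have h2 : ofN w * ofN w = 1 := code_inj.1 (by rw [code_mul, ofN_code hw.1, h1]; rfl)
  have h3 := M.sq g⁻¹ (ofN w) (ofN 290) (by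
    show g⁻¹ * M.s w * g⁻¹⁻¹ = M.s 290
    rw [← hg]; group) h2
  have h4 : mulN 290 290 = 0 := by
    have := congrArg (fun a : Mdl => a.code.val) h3
    simp only [code_mul, ofN_code (show (290 : ℕ) < 1024 by norm_num)] at this
    exact this
  rw [h8] at h4
  omega

/-- The classes moved out first do not reach Q. -/
theorem out_not {y v : ℕ} (hy : IsB y) (ho : outB y = true) (hv : IsB v) (hvV : inV v = true) {g : X}
    (hg : g * M.s y * g⁻¹ = M.s v) : False := by
  have h1 := all_BL out_reduce hy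
  rw [ho, Bool.not_true, Bool.false_or, List.any_eq_true] at h1
  obtain ⟨t, ht, hr⟩ := h1
  rw [List.contains_iff_mem] at hr
  obtain ⟨h2, h3⟩ := M.s_cjB (conjB_lt t ht) hy.1
  have h4 := List.all_eq_true.1 outReps_notV _ hr
  rw [Bool.and_eq_true, Bool.not_eq_true'] at h4
  obtain ⟨w, g', hw, hwV, hg', hc⟩ := M.exists_fused h2 hv h4.1 h4.2 hvV (g₀ := g * (M.s t)⁻¹) (by
    rw [h3, ← hg]; group)
  rcases outReps_split _ hr with h5 | h5 | h5
  · exact M.side_kill sideTwo_valid h5 hw hwV hg' hc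
  · exact M.side_kill sideThree_valid h5 hw hwV hg' hc
  · rw [h5] at hg' hc
    exact M.kill_290 hw hwV hg' hc

/-- The remaining classes outside Q do not reach Q. -/
theorem left_not {y : ℕ} (hy : IsB y) (_hys : sqB y = true) (hrep : y ∈ leftReps) {v : ℕ} (hv : IsB v)
    (hvV : inV v = true) {g : X} (hg : g * M.s y * g⁻¹ = M.s v)
    (hc : ∀ c ∈ cbL y, g * M.s c * g⁻¹ ∈ M.σ.range) : False := by
  classical
  have hcB : ∀ c ∈ cbL y, IsB c := fun c h => (mem_cbL.1 h).1
  choose d hdB hd using fun c (h : c ∈ cbL y) => M.exists_bar (hc c h)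
  have hyC : y ∈ cbL y := mem_cbL.2 ⟨hy, rfl⟩
  have hinj : ∀ a (ha : a ∈ cbL y) b (hb : b ∈ cbL y), d a ha = d b hb → a = b := fun a ha b hb e =>
    M.s_inj (hcB a ha) (hcB b hb)
      (mul_left_cancel (mul_right_cancel ((hd a ha).symm.trans ((congrArg M.s e).trans (hd b hb)))))
  have hmulC : ∀ a ∈ cbL y, ∀ b ∈ cbL y, bm a b ∈ cbL y := fun a ha b hb => by
    have hab := IsB.bm_of (hcB a ha).1 (hcB b hb).1
    refine (M.mem_CT hy hab).1 ?_
    rw [M.s_bm (hcB a ha).1 (hcB b hb).1]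
    exact mul_mem ((M.mem_CT hy (hcB a ha)).2 ha) ((M.mem_CT hy (hcB b hb)).2 hb)
  have hdmul : ∀ a (ha : a ∈ cbL y) b (hb : b ∈ cbL y), d (bm a b) (hmulC a ha b hb) = bm (d a ha) (d b hb) :=
    fun a ha b hb => M.s_inj (hdB _ _) (IsB.bm_of (hdB a ha).1 (hdB b hb).1) (by
      rw [hd, M.s_bm (hcB a ha).1 (hcB b hb).1, M.s_bm (hdB a ha).1 (hdB b hb).1, hd, hd]
      group)
  have hdy : d y hyC = v := M.s_inj (hdB _ _) hv ((hd y hyC).trans hg)
  have hf := List.all_eq_true.1 left_facts y hrep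
  simp only [Bool.and_eq_true, Nat.beq_eq, decide_eq_true_eq, List.any_eq_true, List.mem_filter] at hf
  obtain ⟨⟨⟨h64, hcav⟩, h16⟩, c₁, ⟨hc₁, hc₁V⟩, hc₁o⟩ := hf
  have hsqd : ∀ a (ha : a ∈ cbL y), sqB a = true ↔ sqB (d a ha) = true := fun a ha => by
    rw [← M.sq_iff (hcB a ha), ← M.sq_iff (hdB a ha), hd,
      show g * M.s a * g⁻¹ * (g * M.s a * g⁻¹) = g * (M.s a * M.s a) * g⁻¹ by group, conj_eq_one_iff]
  have houtd : ∀ a (ha : a ∈ cbL y), inV (d a ha) = true → outB a = false := fun a ha hV => by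
    by_contra ho
    exact M.out_not (hcB a ha) (Bool.eq_true_of_not_eq_false ho) (hdB a ha) hV (hd a ha).symm
  have houtV : ∀ a (ha : a ∈ cbL y), inV a = true → outB (d a ha) = false := fun a ha hV => by
    by_contra ho
    refine M.out_not (hdB a ha) (Bool.eq_true_of_not_eq_false ho) (hcB a ha) hV (g := g⁻¹) ?_
    rw [hd]; group
  by_cases hA : ∀ a (ha : a ∈ cbL y), inV a = true → inV (d a ha) = true
  · have h2 : inV (d (bm y c₁) (hmulC y hyC c₁ hc₁)) = true := by
      rw [hdmul y hyC c₁ hc₁, hdy]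
      exact inV_mul hv (hdB _ _) hvV (hA c₁ hc₁ hc₁V)
    rw [houtd _ _ h2] at hc₁o
    exact Bool.noConfusion hc₁o
  push Not at hA
  obtain ⟨c₀, hc₀, hc₀V, hp⟩ := hA
  set p := d c₀ hc₀ with hpd
  have hpV : inV p = false := Bool.eq_false_iff.2 hp
  have hpB : IsB p := hdB c₀ hc₀
  have hps : sqB p = true := (hsqd c₀ hc₀).1 (inV_comm (hcB c₀ hc₀) (hcB c₀ hc₀) hc₀V hc₀V).2
  have hpo : outB p = false := houtV c₀ hc₀ hc₀V
  have hVC : ∀ a (ha : a ∈ cbL y), inV a = true → d a ha ∈ cavL p := fun a ha hV => by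
    obtain ⟨hcm, hs⟩ := inV_comm (hcB a ha) (hcB c₀ hc₀) hV hc₀V
    refine mem_cavL.2 ⟨hdB a ha, ?_, (hsqd a ha).1 hs, houtV a ha hV, ?_⟩
    · refine (M.comm_iff hpB (hdB a ha)).1 ?_
      rw [hpd, hd, hd, show g * M.s c₀ * g⁻¹ * (g * M.s a * g⁻¹) = g * (M.s c₀ * M.s a) * g⁻¹ by group,
        ← (M.comm_iff (hcB a ha) (hcB c₀ hc₀)).2 hcm]
      group
    · rw [hpd, ← hdmul c₀ hc₀ a ha]
      exact houtV _ _ (inV_mul (hcB c₀ hc₀) (hcB a ha) hc₀V hV)
  set VC := ((cbL y).filter inV).toFinset with hVCdef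
  let F : ℕ → ℕ := fun a => if h : a ∈ cbL y then d a h else 0
  have hF : ∀ a (ha : a ∈ cbL y), F a = d a ha := fun a ha => dif_pos ha
  have hVCmem : ∀ a ∈ VC, a ∈ cbL y ∧ inV a = true := fun a ha => by simpa [hVCdef] using ha
  have hcav16 := all_BL cav_size hpB
  rw [hpV, hps, hpo] at hcav16
  simp only [Bool.false_or, Bool.not_true, decide_eq_true_eq] at hcav16
  have himg : VC.image F = (cavL p).toFinset := by
    refine Finset.eq_of_subset_of_card_le (fun q hq => ?_) ?_
    · obtain ⟨a, ha, rfl⟩ := Finset.mem_image.1 hq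
      obtain ⟨ha1, ha2⟩ := hVCmem a ha
      rw [List.mem_toFinset, hF a ha1]
      exact hVC a ha1 ha2
    · rw [Finset.card_image_of_injOn, List.toFinset_card_of_nodup ((cbL_nodup y).filter _)]
      · exact (List.toFinset_card_le _).trans (hcav16.trans h16)
      · intro a ha b hb e
        obtain ⟨ha1, -⟩ := hVCmem a ha
        obtain ⟨hb1, -⟩ := hVCmem b hb
        rw [hF a ha1, hF b hb1] at e
        exact hinj a ha1 b hb1 e
  have hpre : ∀ q ∈ cavL p, ∃ a, ∃ ha : a ∈ cbL y, inV a = true ∧ d a ha = q := fun q hq => by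
    have h1 : q ∈ VC.image F := himg.symm ▸ List.mem_toFinset.2 hq
    obtain ⟨a, ha, rfl⟩ := Finset.mem_image.1 h1
    exact ⟨a, (hVCmem a ha).1, (hVCmem a ha).2, (hF a _).symm⟩
  have hsmall := all_BL (f := fun v => !inV v || !((cavL p).all fun q => Nat.beq (bm v q) (bm q v)) ||
    (cavL p).contains v || smallB v) (by
      have := all_BL cav_central hpB
      rw [hpV, hps, hpo] at this
      simpa using this) hv
  simp only [hvV, Bool.not_true, Bool.false_or, Bool.or_eq_true, Bool.not_eq_true', List.contains_iff_mem] at hsmall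
  have hyV : inV y = false := (leftReps_facts y hrep).2
  rcases hsmall with (hncm | hin) | hsm
  · rw [Bool.eq_false_iff, ne_eq, List.all_eq_true] at hncm
    refine hncm fun q hq => ?_
    obtain ⟨a, ha, -, rfl⟩ := hpre q hq
    rw [Nat.beq_eq, ← hdy, ← hdmul y hyC a ha, ← hdmul a ha y hyC]
    congr 1
    exact (mem_cbL.1 ha).2
  · obtain ⟨a, ha, haV, e⟩ := hpre v hin
    rw [hinj a ha y hyC (e.trans hdy.symm), hyV] at haV
    exact Bool.noConfusion haV
  set R := (cbL y).toFinset.filter fun a => inV (F a) = true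
  set O := (cbL y).toFinset.filter fun a => ¬ inV (F a) = true
  have hsum : R.card + O.card = 64 := by
    rw [Finset.card_filter_add_card_filter_not, List.toFinset_card_of_nodup (cbL_nodup y)]
    exact h64
  have hR : R.card ≤ 16 := by
    refine le_trans (Finset.card_le_card (t := (cavL y).toFinset) fun a ha => ?_) ((List.toFinset_card_le _).trans hcav)
    rw [Finset.mem_filter, List.mem_toFinset] at ha
    obtain ⟨ha, haV⟩ := ha
    rw [hF a ha] at haV
    refine List.mem_toFinset.2 (mem_cavL.2 ⟨hcB a ha, (mem_cbL.1 ha).2,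
      (hsqd a ha).2 (inV_comm (hdB a ha) (hdB a ha) haV haV).2, houtd a ha haV,
      houtd _ (hmulC y hyC a ha) ?_⟩)
    rw [hdmul y hyC a ha, hdy]
    exact inV_mul hv (hdB a ha) hvV haV
  have hO : O.card ≤ R.card := by
    rcases O.eq_empty_or_nonempty with e | ⟨o, ho⟩
    · rw [e]; simp
    refine Finset.card_le_card_of_injOn (fun a => bm o a) (fun a ha => ?_) fun a ha b hb e => ?_
    · rw [Finset.mem_coe, Finset.mem_filter, List.mem_toFinset] at ha
      rw [Finset.mem_filter, List.mem_toFinset] at ho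
      obtain ⟨⟨ho, hoV⟩, ha, haV⟩ := And.intro ho ha
      rw [hF o ho] at hoV
      rw [hF a ha] at haV
      rw [Finset.mem_coe, Finset.mem_filter, List.mem_toFinset]
      refine ⟨hmulC o ho a ha, ?_⟩
      rw [hF _ (hmulC o ho a ha), hdmul o ho a ha]
      have hin : ∀ a (ha : a ∈ cbL y), ¬ inV (d a ha) = true → d a ha ∈ (cbL v).filter fun a => !inV a :=
        fun a ha h => by
          refine List.mem_filter.2 ⟨mem_cbL.2 ⟨hdB a ha, ?_⟩, by simpa using h⟩
          rw [← hdy, ← hdmul y hyC a ha, ← hdmul a ha y hyC]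
          congr 1
          exact (mem_cbL.1 ha).2
      exact List.all_eq_true.1 (List.all_eq_true.1 hsm _ (hin o ho hoV)) _ (hin a ha haV)
    · simp only [Finset.mem_coe, Finset.mem_filter, List.mem_toFinset, O] at ha hb ho
      refine M.s_inj (hcB a ha.1) (hcB b hb.1) (mul_left_cancel (a := M.s o) ?_)
      rw [← M.s_bm (hcB o ho.1).1 (hcB a ha.1).1, ← M.s_bm (hcB o ho.1).1 (hcB b hb.1).1]
      exact congrArg M.s e
  omega

/-- No involution outside Q is conjugate to an element of Q modulo the centre. -/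
theorem closed_bar {y v : ℕ} (hy : IsB y) (hv : IsB v) (hvV : inV v = true) {g : X}
    (hg : g * M.s y * g⁻¹ = M.s v) : inV y = true := by
  by_contra h
  have hyV : inV y = false := Bool.eq_false_iff.2 h
  have hys : sqB y = true := (M.sq_iff hy).1 (by
    refine (conj_eq_one_iff (a := g)).1 ?_
    rw [show g * (M.s y * M.s y) * g⁻¹ = g * M.s y * g⁻¹ * (g * M.s y * g⁻¹) by group, hg]
    exact (M.sq_iff hv).2 (inV_comm hv hv hvV hvV).2)
  cases ho : outB y
  · have h1 := all_BL left_reduce hy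
    rw [hyV, hys, ho] at h1
    simp only [Bool.false_or, Bool.not_true, List.any_eq_true, List.contains_iff_mem] at h1
    obtain ⟨t, ht, hr⟩ := h1
    obtain ⟨h2, h3⟩ := M.s_cjB (conjB_lt t ht) hy.1
    have hs2 := leftReps_facts _ hr
    obtain ⟨w, g', hw, hwV, hg', hc⟩ := M.exists_fused h2 hv hs2.1 hs2.2 hvV (g₀ := g * (M.s t)⁻¹) (by
      rw [h3, ← hg]; group)
    exact M.left_not h2 hs2.1 hr hw hwV hg' hc
  · exact M.out_not hy ho hv hvV hg

end BarGrp

end Cfsg.Lib.LFiveType
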