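import Cfsg.Agent.LFiveType.FactsLocal

/-!
# The two elementary abelian 64's and fusion inside W
-/

set_option autoImplicit false
set_option maxRecDepth 100000
set_option Elab.async false

namespace Cfsg.Lib.LFiveType

section conj

variable {G : Type*} [Group G]

/-- The conjugate of a subgroup. -/
def cjSub (g : G) (H : Subgroup G) : Subgroup G := H.map (MulAut.conj g).toMonoidHom

theorem mem_cjSub {g y : G} {H : Subgroup G} : y ∈ cjSub g H ↔ g⁻¹ * y * g ∈ H := by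
  constructor
  · rintro ⟨x, hx, rfl⟩
    simpa [mul_assoc] using hx
  · exact fun h => ⟨_, h, by simp [mul_assoc]⟩

theorem card_cjSub (g : G) (H : Subgroup G) : Nat.card (cjSub g H) = Nat.card H :=
  Subgroup.card_map_of_injective (MulAut.conj g).injective

theorem conj_mem_cjSub {g x : G} {H : Subgroup G} (h : x ∈ H) : g * x * g⁻¹ ∈ cjSub g H := ⟨x, h, rfl⟩

theorem fix_of_maps [Finite G] {g : G} {H : Subgroup G} (h : ∀ x ∈ H, g * x * g⁻¹ ∈ H) :
    ∀ x, x ∈ H ↔ g * x * g⁻¹ ∈ H := by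
  have e : cjSub g H = H := Subgroup.eq_of_le_of_card_ge (by rintro _ ⟨x, hx, rfl⟩; exact h x hx)
    (card_cjSub g H).ge
  intro x
  refine ⟨h x, fun hx => ?_⟩
  rw [← e, mem_cjSub] at hx
  simpa [mul_assoc] using hx

theorem mem_smul_sylow {p : ℕ} {g x : G} {P : Sylow p G} :
    x ∈ (↑(g • P) : Subgroup G) ↔ g⁻¹ * x * g ∈ (P : Subgroup G) := by
  rw [Sylow.coe_subgroup_smul, Subgroup.mem_pointwise_smul_iff_inv_smul_mem, ← map_inv, MulAut.smul_def,
    MulAut.conj_apply, inv_inv]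

theorem sylow_conj_in [Finite G] {N : Subgroup G} {P Q : Sylow 2 G} (hP : (P : Subgroup G) ≤ N)
    (hQ : (Q : Subgroup G) ≤ N) : ∃ k ∈ N, k • Q = P := by
  obtain ⟨k, hk⟩ := MulAction.exists_smul_eq N (Q.subtype hQ) (P.subtype hP)
  rw [Sylow.smul_subtype] at hk
  exact ⟨k.1, k.2, Sylow.subtype_injective hk⟩

end conj

/-- A bit that is additive on the model. -/
def bitHom (k : ℕ) (h : k = 0 ∨ k = 9) : Mdl →* Multiplicative (ZMod 2) :=
  MonoidHom.mk' (fun a => Multiplicative.ofAdd (bif a.code.val.testBit k then 1 else 0)) fun a b => by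
    rw [← ofAdd_add, ← scalar_xor, code_mul]
    rcases h with rfl | rfl <;> simp [-Nat.testBit_zero, testBit_mulN]

theorem mem_bitHom_ker {k : ℕ} {h : k = 0 ∨ k = 9} {a : Mdl} :
    a ∈ (bitHom k h).ker ↔ a.code.val.testBit k = false := by
  show Multiplicative.ofAdd (bif a.code.val.testBit k then (1 : ZMod 2) else 0) = 1 ↔ _
  cases a.code.val.testBit k <;> simp

theorem card_le_two_mul (H : Subgroup Mdl) {k : ℕ} (h : k = 0 ∨ k = 9) :
    Nat.card H ≤ 2 * Nat.card ↥((bitHom k h).ker ⊓ H) := by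
  have h1 := Subgroup.card_mul_index ((bitHom k h).ker.subgroupOf H)
  have h2 : Nat.card ↥((bitHom k h).ker.subgroupOf H) = Nat.card ↥((bitHom k h).ker ⊓ H) := by
    rw [← Subgroup.card_map_of_injective H.subtype_injective, Subgroup.subgroupOf_map_subtype]
  have h3 : ((bitHom k h).ker.subgroupOf H).index ≤ 2 := by
    have hT : (bitHom k h).ker.relIndex H ≤ (bitHom k h).ker.relIndex ⊤ :=
      Subgroup.relIndex_le_of_le_right le_top (by rw [Subgroup.relIndex_top_right]; exact Subgroup.index_ne_zero_of_finite)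
    rw [Subgroup.relIndex_top_right, Subgroup.index_ker] at hT
    refine le_trans hT (le_trans (Subgroup.card_le_card_group _) ?_)
    simp
  rw [h2] at h1
  nlinarith

theorem mem_RM_iff {a : Mdl} : a ∈ RM ↔ a.code.val.testBit 0 = false ∧ a.code.val.testBit 9 = false := by
  show inMask mR a.code.val = true ↔ _
  have h := List.all_eq_true.1 rmask_bits _ (List.mem_range.2 a.code.isLt)
  rw [eq_of_beq h]
  simp [-Nat.testBit_zero]

theorem card_inf_RM_le {AM : Subgroup Mdl} (hcomm : ∀ a ∈ AM, ∀ b ∈ AM, a * b = b * a) {m : ℕ}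
    {hm : maskOK m = true} (hle : AM ⊓ RM ≤ maskSub m hm) {x : Mdl} (hx : x ∈ AM) :
    Nat.card ↥(AM ⊓ RM) ≤ (centList m x.code.val).length := by
  classical
  refine le_trans (Nat.card_le_card_of_injective
    (fun a => (⟨a.1.code.val, List.mem_toFinset.2 (List.mem_filter.2 ⟨mem_maskList (hle a.2), ?_⟩)⟩ :
      ↥(centList m x.code.val).toFinset))
    fun a b e => Subtype.ext (code_inj.1 (congrArg Subtype.val e))) ?_
  · show Nat.beq (mulN x.code.val a.1.code.val) (mulN a.1.code.val x.code.val) = true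
    rw [← code_mul, ← code_mul, hcomm x hx a.1 a.2.1]
    exact Nat.beq_refl _
  · rw [Nat.card_eq_finsetCard]
    exact List.toFinset_card_le _

theorem e64_core {AM : Subgroup Mdl} (hc : Nat.card AM = 64) (hcomm : ∀ a ∈ AM, ∀ b ∈ AM, a * b = b * a) {m : ℕ}
    {hm : maskOK m = true} (hle : AM ⊓ RM ≤ maskSub m hm) {p q : ℕ} (hp : p = 0 ∨ p = 9) (hq : q = 0 ∨ q = 9)
    (hpq : ∀ a : Mdl, a.code.val.testBit p = false → a.code.val.testBit q = false → a ∈ RM)
    (hfact : ((List.range 1024).all fun i => inMask mR i ||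
      (Nat.ble (centList m i).length 16 && (!i.testBit p || Nat.ble (centList m i).length 8))) = true)
    {x : Mdl} (hx : x ∈ AM) (hxR : x ∉ RM) : False := by
  have bound : ∀ y ∈ AM, y ∉ RM → Nat.card ↥(AM ⊓ RM) ≤ 16 ∧
      (y.code.val.testBit p = true → Nat.card ↥(AM ⊓ RM) ≤ 8) := by
    intro y hy hyR
    have h0 := List.all_eq_true.1 hfact _ (List.mem_range.2 y.code.isLt)
    have hyR' : inMask mR y.code.val = false := by
      simpa [RM, mem_maskSub] using hyR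
    rw [hyR', Bool.false_or, Bool.and_eq_true] at h0
    refine ⟨le_trans (card_inf_RM_le hcomm hle hy) (Nat.le_of_ble_eq_true h0.1), fun hb => ?_⟩
    have h8 := h0.2
    rw [hb, Bool.not_true, Bool.false_or] at h8
    exact le_trans (card_inf_RM_le hcomm hle hy) (Nat.le_of_ble_eq_true h8)
  have c1 := card_le_two_mul AM hp
  have c2 := card_le_two_mul ((bitHom p hp).ker ⊓ AM) hq
  have sub : (bitHom q hq).ker ⊓ ((bitHom p hp).ker ⊓ AM) ≤ AM ⊓ RM := fun a ha =>
    ⟨ha.2.2, hpq a (mem_bitHom_ker.1 ha.2.1) (mem_bitHom_ker.1 ha.1)⟩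
  have c3 := Nat.card_le_card_of_injective _ (Subgroup.inclusion_injective sub)
  by_cases hb : ∃ y ∈ AM, y.code.val.testBit p = true
  · obtain ⟨y, hy, hyb⟩ := hb
    have hyR : y ∉ RM := by
      intro h
      rw [mem_RM_iff] at h
      rcases hp with rfl | rfl
      · exact Bool.false_ne_true (h.1.symm.trans hyb)
      · exact Bool.false_ne_true (h.2.symm.trans hyb)
    have := (bound y hy hyR).2 hyb
    omega
  · have hall : (bitHom p hp).ker ⊓ AM = AM := inf_eq_right.2 fun a ha => mem_bitHom_ker.2 (by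
      simpa [-Nat.testBit_zero] using fun h => hb ⟨a, ha, h⟩)
    have h4 : Nat.card ↥((bitHom p hp).ker ⊓ AM) = 64 := by rw [hall, hc]
    have := (bound x hx hxR).1
    omega

theorem le_or_le_of_union {H K L : Subgroup Mdl} (h : ∀ a ∈ H, a ∈ K ∨ a ∈ L) : H ≤ K ∨ H ≤ L := by
  by_contra hn
  rw [not_or] at hn
  obtain ⟨⟨a, ha, haK⟩, ⟨b, hb, hbL⟩⟩ := SetLike.not_le_iff_exists.1 hn.1, SetLike.not_le_iff_exists.1 hn.2
  rcases h _ (H.mul_mem ha hb) with h1 | h1
  · exact haK ((K.mul_mem_cancel_right ((h b hb).resolve_right hbL)).1 h1)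
  · exact hbL ((L.mul_mem_cancel_left ((h a ha).resolve_left haK)).1 h1)

theorem card_A2M : Nat.card A2M = 64 := (card_maskSub _ _).trans len_A2

theorem card_A3M : Nat.card A3M = 64 := (card_maskSub _ _).trans len_A3

theorem A2M_props {a : Mdl} (ha : a ∈ A2M) : a ∈ RM ∧ a * a = 1 := by
  have h := List.all_eq_true.1 mask_le _ (List.mem_range.2 a.code.isLt)
  have ha' : inMask mA2 a.code.val = true := ha
  simp only [ha', Bool.not_true, Bool.false_or, Bool.and_eq_true] at h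
  exact ⟨h.1.1, code_inj.1 ((code_mul a a).trans (Nat.eq_of_beq_eq_true h.1.2))⟩

theorem A3M_props {a : Mdl} (ha : a ∈ A3M) : a ∈ RM ∧ a * a = 1 := by
  have h := List.all_eq_true.1 mask_le _ (List.mem_range.2 a.code.isLt)
  have ha' : inMask mA3 a.code.val = true := ha
  simp only [ha', Bool.not_true, Bool.false_or, Bool.and_eq_true] at h
  exact ⟨h.2.1, code_inj.1 ((code_mul a a).trans (Nat.eq_of_beq_eq_true h.2.2))⟩

namespace Setting

variable {G : Type*} [Group G] (S : Setting G)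

theorem mem_e {M : Subgroup Mdl} {x : G} : x ∈ M.map S.e ↔ ∃ a ∈ M, S.e a = x := Subgroup.mem_map

theorem A2_le_syl : S.A2 ≤ (S.syl : Subgroup G) := S.map_le_syl _

theorem A3_le_syl : S.A3 ≤ (S.syl : Subgroup G) := S.map_le_syl _

theorem R_le_syl : S.R ≤ (S.syl : Subgroup G) := S.map_le_syl _

theorem A2_le_R : S.A2 ≤ S.R := Subgroup.map_mono fun _ h => (A2M_props h).1

theorem A3_le_R : S.A3 ≤ S.R := Subgroup.map_mono fun _ h => (A3M_props h).1

theorem card_A2 : Nat.card S.A2 = 64 := (Subgroup.card_map_of_injective S.inj).trans card_A2M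

theorem card_A3 : Nat.card S.A3 = 64 := (Subgroup.card_map_of_injective S.inj).trans card_A3M

theorem A2_sq : ∀ a ∈ S.A2, a * a = 1 := by
  rintro _ ⟨a, ha, rfl⟩
  rw [← map_mul, (A2M_props ha).2, map_one]

theorem A3_sq : ∀ a ∈ S.A3, a * a = 1 := by
  rintro _ ⟨a, ha, rfl⟩
  rw [← map_mul, (A3M_props ha).2, map_one]

theorem A2_ne_A3 : S.A2 ≠ S.A3 := by
  intro h
  have h2 : S.e (ofN 2) ∈ S.A2 := S.mem_map_iff.2 (show inMask mA2 (ofN 2).code.val = true by decide)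
  rw [h] at h2
  exact absurd (show inMask mA3 (ofN 2).code.val = true from S.mem_map_iff.1 h2) (by decide)

theorem R_split {x : G} (hx : x ∈ S.R) : ∃ a ∈ S.A2, ∃ b ∈ S.A3, a * b = x := by
  obtain ⟨c, hc, rfl⟩ := hx
  have h := List.all_eq_true.1 split_R _ (mem_maskList hc)
  simp only [Bool.and_eq_true] at h
  have l1 : c.code.val &&& 18 < 1024 := lt_of_le_of_lt Nat.and_le_right (by norm_num)
  have l2 : mulN (c.code.val &&& 18) c.code.val < 1024 := mulN_lt l1 c.code.isLt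
  refine ⟨S.e (ofN (c.code.val &&& 18)), S.mem_map_iff.2 (show inMask mA2 _ = true from ?_),
    S.e (ofN (mulN (c.code.val &&& 18) c.code.val)), S.mem_map_iff.2 (show inMask mA3 _ = true from ?_), ?_⟩
  · rw [ofN_code l1]; exact h.1.1
  · rw [ofN_code l2]; exact h.1.2
  · rw [← map_mul]
    refine congrArg S.e (code_inj.1 ?_)
    rw [code_mul, ofN_code l1, ofN_code l2, Nat.eq_of_beq_eq_true h.2]

theorem normal_A2_syl {t x : G} (ht : t ∈ (S.syl : Subgroup G)) (hx : x ∈ S.A2) : t * x * t⁻¹ ∈ S.A2 := by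
  obtain ⟨i, rfl⟩ := S.exists_code ht
  obtain ⟨c, hc, rfl⟩ := hx
  rw [← map_inv, ← map_mul, ← map_mul]
  refine S.mem_map_iff.2 (show inMask mA2 _ = true from ?_)
  simp only [code_mul, code_inv]
  exact List.all_eq_true.1 (List.all_eq_true.1 normal_A2 _ (List.mem_range.2 i.code.isLt)) _ (mem_maskList hc)

theorem normal_A3_syl {t x : G} (ht : t ∈ (S.syl : Subgroup G)) (hx : x ∈ S.A3) : t * x * t⁻¹ ∈ S.A3 := by
  obtain ⟨i, rfl⟩ := S.exists_code ht
  obtain ⟨c, hc, rfl⟩ := hx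
  rw [← map_inv, ← map_mul, ← map_mul]
  refine S.mem_map_iff.2 (show inMask mA3 _ = true from ?_)
  simp only [code_mul, code_inv]
  exact List.all_eq_true.1 (List.all_eq_true.1 normal_A3 _ (List.mem_range.2 i.code.isLt)) _ (mem_maskList hc)

theorem e64_cases {A : Subgroup G} (hA : A ≤ (S.syl : Subgroup G)) (hc : Nat.card A = 64)
    (he : ∀ a ∈ A, a * a = 1) : A = S.A2 ∨ A = S.A3 := by
  have hmap : (A.comap S.e).map S.e = A := Subgroup.map_comap_eq_self (S.range_eq ▸ hA)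
  have hcM : Nat.card (A.comap S.e) = 64 := by
    rw [← Subgroup.card_map_of_injective S.inj, hmap, hc]
  have hsq : ∀ a ∈ A.comap S.e, a * a = 1 := fun a ha => S.inj (by rw [map_mul, map_one]; exact he _ ha)
  have hcomm : ∀ a ∈ A.comap S.e, ∀ b ∈ A.comap S.e, a * b = b * a := fun a ha b hb => by
    have h1 := hsq _ ((A.comap S.e).mul_mem ha hb)
    rw [← inv_eq_of_mul_eq_one_right h1, mul_inv_rev, inv_eq_of_mul_eq_one_right (hsq a ha),
      inv_eq_of_mul_eq_one_right (hsq b hb)]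
  have hun : ∀ a ∈ A.comap S.e ⊓ RM, a ∈ A2M ∨ a ∈ A3M := by
    intro a ha
    have h := List.all_eq_true.1 invol_R _ (mem_maskList ha.2)
    have h0 : mulN a.code.val a.code.val = 0 := by rw [← code_mul, hsq a ha.1, code_one]
    rw [h0] at h
    simpa [A2M, A3M, mem_maskSub] using h
  by_cases hR : A.comap S.e ≤ RM
  · rw [inf_eq_left.2 hR] at hun
    rcases le_or_le_of_union hun with h | h
    · left
      rw [← hmap, Subgroup.eq_of_le_of_card_ge h (by rw [hcM, card_A2M])]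
      rfl
    · right
      rw [← hmap, Subgroup.eq_of_le_of_card_ge h (by rw [hcM, card_A3M])]
      rfl
  · obtain ⟨x, hx, hxR⟩ := SetLike.not_le_iff_exists.1 hR
    exfalso
    rcases le_or_le_of_union hun with h | h
    · exact e64_core hcM hcomm h (Or.inl rfl) (Or.inr rfl) (fun a h1 h2 => mem_RM_iff.2 ⟨h1, h2⟩) cent_A2 hx hxR
    · exact e64_core hcM hcomm h (Or.inr rfl) (Or.inl rfl) (fun a h1 h2 => mem_RM_iff.2 ⟨h2, h1⟩) cent_A3 hx hxR

variable [Finite G]

omit [Finite G] in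
theorem image_cases {g : G} {A : Subgroup G} (hc : Nat.card A = 64) (he : ∀ a ∈ A, a * a = 1)
    (h : ∀ x ∈ A, g * x * g⁻¹ ∈ (S.syl : Subgroup G)) : cjSub g A = S.A2 ∨ cjSub g A = S.A3 :=
  S.e64_cases (by rintro _ ⟨x, hx, rfl⟩; exact h x hx) ((card_cjSub g A).trans hc) (by
    rintro _ ⟨x, hx, rfl⟩
    rw [← map_mul, he x hx, map_one])

/-- A2 and A3 are not conjugate. -/
theorem not_swap (g : G) : cjSub g S.A2 ≠ S.A3 := by
  intro hg
  have hP : (S.syl : Subgroup G) ≤ Subgroup.normalizer (S.A3 : Set G) := fun t ht =>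
    Subgroup.mem_set_normalizer_iff.2 (fix_of_maps fun x hx => S.normal_A3_syl ht hx)
  have hQ : (↑(g • S.syl) : Subgroup G) ≤ Subgroup.normalizer (S.A3 : Set G) := fun t ht =>
    Subgroup.mem_set_normalizer_iff.2 (fix_of_maps fun x hx => by
      rw [mem_smul_sylow] at ht
      rw [← hg, mem_cjSub] at hx ⊢
      have := S.normal_A2_syl ht hx
      simpa [mul_assoc] using this)
  obtain ⟨k, hk, hks⟩ := sylow_conj_in hP hQ
  rw [smul_smul] at hks
  have hkg : ∀ x ∈ S.A2, k * g * x * (k * g)⁻¹ ∈ S.A3 := fun x hx => by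
    have hx' : g * x * g⁻¹ ∈ S.A3 := hg ▸ conj_mem_cjSub hx
    have := (Subgroup.mem_set_normalizer_iff.1 hk (g * x * g⁻¹)).1 hx'
    simpa [mul_assoc] using this
  generalize k * g = h at hks hkg
  have hn : h ∈ Subgroup.normalizer ((S.syl : Subgroup G) : Set G) := Sylow.smul_eq_iff_mem_normalizer.1 hks
  have hN : ∀ x, x ∈ (S.syl : Subgroup G) ↔ h * x * h⁻¹ ∈ (S.syl : Subgroup G) :=
    Subgroup.mem_set_normalizer_iff.1 hn
  have e2 : cjSub h S.A2 = S.A3 := Subgroup.eq_of_le_of_card_ge (by rintro _ ⟨x, hx, rfl⟩; exact hkg x hx)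
    (by rw [card_cjSub, S.card_A2, S.card_A3])
  have e3 : cjSub h S.A3 = S.A2 := by
    refine (S.image_cases S.card_A3 S.A3_sq fun x hx => (hN x).1 (S.A3_le_syl hx)).resolve_right fun e => ?_
    exact S.A2_ne_A3 (Subgroup.map_injective (MulAut.conj h).injective (e2.trans e.symm))
  have h2 : h * h ∈ Subgroup.normalizer (S.A2 : Set G) := Subgroup.mem_set_normalizer_iff.2 (fix_of_maps fun x hx => by
    have := e3 ▸ conj_mem_cjSub (g := h) (e2 ▸ conj_mem_cjSub (g := h) hx)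
    simpa [mul_assoc] using this)
  obtain ⟨a, m, ⟨n, hm⟩, hord⟩ := Nat.exists_eq_two_pow_mul_odd (orderOf_pos h).ne'
  have hpg : IsPGroup 2 ↥(Subgroup.zpowers (h ^ m)) := by
    rintro ⟨y, i, rfl⟩
    refine ⟨a, Subtype.ext ?_⟩
    have h1 : (h ^ m) ^ (2 ^ a) = 1 := by rw [← pow_mul, mul_comm, ← hord, pow_orderOf_eq_one]
    show ((h ^ m) ^ i) ^ (2 ^ a) = 1
    rw [← zpow_natCast, ← zpow_mul, mul_comm, zpow_mul, zpow_natCast, h1, one_zpow]
  have hmem : h ^ m ∈ (S.syl : Subgroup G) := by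
    have h' : h ^ m ∈ Subgroup.zpowers (h ^ m) ⊓ Subgroup.normalizer ((S.syl : Subgroup G) : Set G) :=
      ⟨Subgroup.mem_zpowers _, pow_mem hn m⟩
    exact ((hpg.inf_normalizer_sylow S.syl).le h').2
  have hA : h ^ m ∈ Subgroup.normalizer (S.A2 : Set G) :=
    Subgroup.mem_set_normalizer_iff.2 (fix_of_maps fun x hx => S.normal_A2_syl hmem hx)
  have hh : h ∈ Subgroup.normalizer (S.A2 : Set G) := by
    have hprod := mul_mem (inv_mem (pow_mem h2 n)) hA
    rwa [show ((h * h) ^ n)⁻¹ * h ^ m = h by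
      rw [inv_mul_eq_iff_eq_mul, hm, ← pow_two, ← pow_mul, ← pow_succ]] at hprod
  have e : cjSub h S.A2 = S.A2 := Subgroup.eq_of_le_of_card_ge
    (by rintro _ ⟨x, hx, rfl⟩; exact (Subgroup.mem_set_normalizer_iff.1 hh x).1 hx) (card_cjSub h S.A2).ge
  exact S.A2_ne_A3 (e.symm.trans e2)

theorem wc_A2 {g : G} (h : ∀ x ∈ S.A2, g * x * g⁻¹ ∈ (S.syl : Subgroup G)) :
    ∀ x, x ∈ S.A2 ↔ g * x * g⁻¹ ∈ S.A2 :=
  fix_of_maps fun _ hx =>
    (S.image_cases S.card_A2 S.A2_sq h).resolve_right (S.not_swap g) ▸ conj_mem_cjSub hx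

theorem wc_A3 {g : G} (h : ∀ x ∈ S.A3, g * x * g⁻¹ ∈ (S.syl : Subgroup G)) :
    ∀ x, x ∈ S.A3 ↔ g * x * g⁻¹ ∈ S.A3 := by
  refine fix_of_maps fun _ hx => ((S.image_cases S.card_A3 S.A3_sq h).resolve_left fun e => ?_) ▸ conj_mem_cjSub hx
  refine S.not_swap g⁻¹ ?_
  ext x
  rw [← e, mem_cjSub, mem_cjSub]
  simp [mul_assoc]

theorem wc_R {g : G} (h : ∀ x ∈ S.R, g * x * g⁻¹ ∈ (S.syl : Subgroup G)) :
    ∀ x, x ∈ S.R ↔ g * x * g⁻¹ ∈ S.R := by
  refine fix_of_maps fun x hx => ?_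
  obtain ⟨a, ha, b, hb, rfl⟩ := S.R_split hx
  have h1 := (S.wc_A2 (fun y hy => h y (S.A2_le_R hy)) a).1 ha
  have h2 := (S.wc_A3 (fun y hy => h y (S.A3_le_R hy)) b).1 hb
  simpa [mul_assoc] using mul_mem (S.A2_le_R h1) (S.A3_le_R h2)

omit [Finite G] in
theorem W_central {w r : G} (hw : w ∈ S.W) (hr : r ∈ S.R) : w * r = r * w := by
  obtain ⟨a, ha, rfl⟩ := hw
  obtain ⟨b, hb, rfl⟩ := hr
  rw [← map_mul, ← map_mul]
  refine congrArg S.e (code_inj.1 ?_)
  have h := List.all_eq_true.1 W_central_R _ (mem_maskList ha)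
  rw [Bool.and_eq_true] at h
  rw [code_mul, code_mul]
  exact Nat.eq_of_beq_eq_true (List.all_eq_true.1 h.2 _ (mem_maskList hb))

theorem fusion_in (M : Subgroup G) (hM : S.R ≤ M) {g x : G} (hg : g ∈ M) (hx : x ∈ S.W)
    (hy : g * x * g⁻¹ ∈ S.W) :
    ∃ h ∈ M, (∀ r, r ∈ S.R ↔ h * r * h⁻¹ ∈ S.R) ∧ h * x * h⁻¹ = g * x * g⁻¹ := by
  set N : Subgroup G := M ⊓ Subgroup.centralizer {g * x * g⁻¹} with hN
  have hRN : S.R ≤ N := le_inf hM fun r hr => Subgroup.mem_centralizer_singleton_iff.2 (S.W_central hy hr).symm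
  have hRgN : cjSub g S.R ≤ N := by
    rintro _ ⟨r, hr, rfl⟩
    refine ⟨M.mul_mem (M.mul_mem hg (hM hr)) (M.inv_mem hg), Subgroup.mem_centralizer_singleton_iff.2 ?_⟩
    show g * r * g⁻¹ * (g * x * g⁻¹) = g * x * g⁻¹ * (g * r * g⁻¹)
    calc g * r * g⁻¹ * (g * x * g⁻¹) = g * (r * x) * g⁻¹ := by group
      _ = g * (x * r) * g⁻¹ := by rw [S.W_central hx hr]
      _ = g * x * g⁻¹ * (g * r * g⁻¹) := by group
  have hpR : IsPGroup 2 ↥S.R := S.syl.isPGroup'.to_le S.R_le_syl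
  obtain ⟨P, hP⟩ := (hpR.comap_of_injective N.subtype N.subtype_injective).exists_le_sylow
  obtain ⟨Q, hQ⟩ := ((hpR.map (MulAut.conj g).toMonoidHom).comap_of_injective N.subtype
    N.subtype_injective).exists_le_sylow
  obtain ⟨c, hc⟩ := MulAction.exists_smul_eq N Q P
  obtain ⟨T, hT⟩ := (P.isPGroup'.map N.subtype).exists_le_sylow
  obtain ⟨k, hk⟩ := MulAction.exists_smul_eq G S.syl T
  have inT : ∀ u : N, u ∈ (P : Subgroup N) → k⁻¹ * (u : G) * k ∈ (S.syl : Subgroup G) := fun u hu => by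
    have := hT ⟨u, hu, rfl⟩
    rwa [← hk, mem_smul_sylow] at this
  have hc2 : (c : G) * (g * x * g⁻¹) = g * x * g⁻¹ * (c : G) := Subgroup.mem_centralizer_singleton_iff.1 c.2.2
  refine ⟨c * g, M.mul_mem c.2.1 hg, ?_, ?_⟩
  · have hA : ∀ r, r ∈ S.R ↔ k⁻¹ * r * k⁻¹⁻¹ ∈ S.R := S.wc_R fun r hr => by
      rw [inv_inv]
      exact inT ⟨r, hRN hr⟩ (hP (Subgroup.mem_comap.2 hr))
    have hB : ∀ r, r ∈ S.R ↔ k⁻¹ * (c * g) * r * (k⁻¹ * (c * g))⁻¹ ∈ S.R := S.wc_R fun r hr => by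
      have hq : (⟨g * r * g⁻¹, hRgN (conj_mem_cjSub hr)⟩ : N) ∈ (Q : Subgroup N) :=
        hQ (Subgroup.mem_comap.2 (conj_mem_cjSub hr))
      have hp : c * ⟨g * r * g⁻¹, hRgN (conj_mem_cjSub hr)⟩ * c⁻¹ ∈ (P : Subgroup N) := by
        rw [← hc, mem_smul_sylow]
        simpa [mul_assoc] using hq
      have := inT _ hp
      simpa [mul_assoc] using this
    intro r
    rw [hB r, hA ((c : G) * g * r * ((c : G) * g)⁻¹)]
    simp [mul_assoc]
  · calc (c : G) * g * x * ((c : G) * g)⁻¹ = (c : G) * (g * x * g⁻¹) * (c : G)⁻¹ := by group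
      _ = g * x * g⁻¹ := by rw [hc2, mul_inv_cancel_right]

theorem fusion_R {g x : G} (hx : x ∈ S.W) (hy : g * x * g⁻¹ ∈ S.W) :
    ∃ h : G, (∀ r, r ∈ S.R ↔ h * r * h⁻¹ ∈ S.R) ∧ h * x * h⁻¹ = g * x * g⁻¹ := by
  obtain ⟨h, -, h1, h2⟩ := S.fusion_in ⊤ le_top (Subgroup.mem_top g) hx hy
  exact ⟨h, h1, h2⟩

theorem fusion_R_cent {g x : G} (hg : g * S.z = S.z * g) (hx : x ∈ S.W) (hy : g * x * g⁻¹ ∈ S.W) :
    ∃ h : G, (∀ r, r ∈ S.R ↔ h * r * h⁻¹ ∈ S.R) ∧ h * x * h⁻¹ = g * x * g⁻¹ ∧ h * S.z = S.z * h := by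
  obtain ⟨h, h0, h1, h2⟩ := S.fusion_in (Subgroup.centralizer {S.z})
    (fun r hr => Subgroup.mem_centralizer_singleton_iff.2 (S.z_central (S.R_le_syl hr)))
    (Subgroup.mem_centralizer_singleton_iff.2 hg) hx hy
  exact ⟨h, h1, h2, Subgroup.mem_centralizer_singleton_iff.1 h0⟩

theorem image_A2 {h : G} (hR : ∀ r, r ∈ S.R ↔ h * r * h⁻¹ ∈ S.R) {a : Mdl} (ha : a ∈ A2M) :
    ∃ a' ∈ A2M, S.e a' = h * S.e a * h⁻¹ :=
  S.mem_e.1 ((S.wc_A2 (fun _ hx => S.R_le_syl ((hR _).1 (S.A2_le_R hx))) _).1 (S.mem_map_iff.2 ha))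

theorem image_A3 {h : G} (hR : ∀ r, r ∈ S.R ↔ h * r * h⁻¹ ∈ S.R) {b : Mdl} (hb : b ∈ A3M) :
    ∃ b' ∈ A3M, S.e b' = h * S.e b * h⁻¹ :=
  S.mem_e.1 ((S.wc_A3 (fun _ hx => S.R_le_syl ((hR _).1 (S.A3_le_R hx))) _).1 (S.mem_map_iff.2 hb))

omit [Finite G] in
theorem sq_image {h : G} {a a' b b' : Mdl} (ea : S.e a' = h * S.e a * h⁻¹) (eb : S.e b' = h * S.e b * h⁻¹) :
    S.e (a' * b' * (a' * b')) = h * S.e (a * b * (a * b)) * h⁻¹ := by
  simp only [map_mul, ea, eb]
  group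

theorem z_not_nonsing {g : G} {w : Mdl} (hw : nonsing w.code.val = true) : g * S.z * g⁻¹ ≠ S.e w := by
  intro h
  have hw' := hw
  rw [nonsing, Bool.and_eq_true] at hw'
  have hz : S.z ∈ S.W := S.mem_map_iff.2 (show inMask mW zM.code.val = true by decide)
  have hy : g * S.z * g⁻¹ ∈ S.W := h ▸ S.mem_map_iff.2 hw'.1
  obtain ⟨k, hR, hk⟩ := S.fusion_R hz hy
  obtain ⟨a, ha, ea⟩ := S.image_A2 hR (a := ofN 2) (show inMask mA2 (ofN 2).code.val = true by decide)
  obtain ⟨b, hb, eb⟩ := S.image_A3 hR (b := ofN 256) (show inMask mA3 (ofN 256).code.val = true by decide)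
  have hsq : ofN 2 * ofN 256 * (ofN 2 * ofN 256) = zM := code_inj.1 (by
    rw [code_sq, ofN_code (by norm_num), ofN_code (by norm_num), basis_sq.2.1]
    rfl)
  have e1 := S.sq_image ea eb
  rw [hsq] at e1
  have e2 : a * b * (a * b) = w := S.inj (e1.trans (hk.trans h))
  have := List.all_eq_true.1 (List.all_eq_true.1 comm_not_nonsing _ (mem_maskList ha)) _ (mem_maskList hb)
  rw [← code_sq, e2, hw] at this
  exact absurd this (by decide)

theorem W_cent_fusion {g x : G} (hg : g * S.z = S.z * g) (hx : x ∈ S.W) (hy : g * x * g⁻¹ ∈ S.W) :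
    ∃ s ∈ (S.syl : Subgroup G), s * x * s⁻¹ = g * x * g⁻¹ := by
  obtain ⟨h, hR, he, hz⟩ := S.fusion_R_cent hg hx hy
  obtain ⟨a1, ha1, ea1⟩ := S.image_A2 hR (a := ofN 2) (show inMask mA2 (ofN 2).code.val = true by decide)
  obtain ⟨a2, ha2, ea2⟩ := S.image_A2 hR (a := ofN 16) (show inMask mA2 (ofN 16).code.val = true by decide)
  obtain ⟨b1, hb1, eb1⟩ := S.image_A3 hR (b := ofN 128) (show inMask mA3 (ofN 128).code.val = true by decide)
  obtain ⟨b2, hb2, eb2⟩ := S.image_A3 hR (b := ofN 256) (show inMask mA3 (ofN 256).code.val = true by decide)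
  have red : ∀ {a b : Mdl}, a ∈ A2M → b ∈ A3M →
      (a * b * (a * b)).code.val = sqN (a.code.val &&& 18) (b.code.val &&& 384) := by
    intro a b ha hb
    rw [code_sq]
    exact Nat.eq_of_beq_eq_true (List.all_eq_true.1 (List.all_eq_true.1 sq_mod _ (mem_maskList ha)) _
      (mem_maskList hb))
  have im : ∀ {a a' b b' : Mdl} (n : ℕ), a' ∈ A2M → b' ∈ A3M → S.e a' = h * S.e a * h⁻¹ →
      S.e b' = h * S.e b * h⁻¹ → (a * b * (a * b)).code.val = n →
      S.e (ofN (sqN (a'.code.val &&& 18) (b'.code.val &&& 384))) = h * S.e (ofN n) * h⁻¹ := by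
    intro a a' b b' n ha hb ea eb hn
    have r1 : ofN (sqN (a'.code.val &&& 18) (b'.code.val &&& 384)) = a' * b' * (a' * b') := code_inj.1 (by
      rw [← red ha hb, ofN_code (Fin.isLt _)])
    have r2 : ofN n = a * b * (a * b) := code_inj.1 (by rw [← hn, ofN_code (Fin.isLt _)])
    rw [r1, r2]
    exact S.sq_image ea eb
  have i11 := im 4 ha1 hb1 ea1 eb1 (by rw [code_sq]; decide +kernel)
  have i12 := im 8 ha1 hb2 ea1 eb2 (by rw [code_sq]; decide +kernel)
  have i21 := im 32 ha2 hb1 ea2 eb1 (by rw [code_sq]; decide +kernel)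
  have i22 := im 64 ha2 hb2 ea2 eb2 (by rw [code_sq]; decide +kernel)
  have hzz : h * S.e (ofN 8) * h⁻¹ = S.e (ofN 8) := by
    show h * S.z * h⁻¹ = S.z
    rw [hz, mul_inv_cancel_right]
  have lt : ∀ a b : ℕ, sqN (a &&& 18) (b &&& 384) < 1024 := fun a b => by
    have l1 : a &&& 18 < 1024 := lt_of_le_of_lt Nat.and_le_right (by norm_num)
    have l2 : b &&& 384 < 1024 := lt_of_le_of_lt Nat.and_le_right (by norm_num)
    exact mulN_lt (mulN_lt l1 l2) (mulN_lt l1 l2)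
  have v12 : sqN (a1.code.val &&& 18) (b2.code.val &&& 384) = 8 := by
    have e := S.inj (i12.trans hzz)
    have := code_inj.2 e
    rwa [ofN_code (lt _ _), ofN_code (by norm_num)] at this
  have nondeg : ∀ {v n : ℕ}, S.e (ofN v) = h * S.e (ofN n) * h⁻¹ → ofN n ≠ 1 → ofN n ≠ ofN 8 → v ≠ 0 ∧ v ≠ 8 := by
    intro v n hv h1 h8
    refine ⟨fun hv0 => h1 (S.inj ?_), fun hv8 => h8 (S.inj ?_)⟩
    · rw [hv0, show ofN 0 = (1 : Mdl) from rfl, map_one] at hv
      rw [map_one]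
      exact conj_eq_one_iff.1 hv.symm
    · rw [hv8] at hv
      nth_rewrite 1 [← hzz] at hv
      exact (mul_left_cancel (mul_right_cancel hv)).symm
  obtain ⟨n11, n11'⟩ := nondeg i11 (by decide) (by decide)
  obtain ⟨n22, n22'⟩ := nondeg i22 (by decide) (by decide)
  have mem : ∀ a : Mdl, (a.code.val &&& 18) ∈ [0, 2, 16, 18] ∧ (a.code.val &&& 384) ∈ [0, 128, 256, 384] := fun a => by
    have h := List.all_eq_true.1 and18 _ (List.mem_range.2 a.code.isLt)
    rw [Bool.and_eq_true] at h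
    exact ⟨List.elem_iff.1 h.1, List.elem_iff.1 h.2⟩
  have key := List.all_eq_true.1 (List.all_eq_true.1 (List.all_eq_true.1 (List.all_eq_true.1 cent_action _
    (mem a1).1) _ (mem a2).1) _ (mem b1).2) _ (mem b2).2
  have f1 : Nat.beq (sqN (a1.code.val &&& 18) (b2.code.val &&& 384)) 8 = true := by rw [v12]; rfl
  have f2 : ∀ {v : ℕ} (k : ℕ), v ≠ k → Nat.beq v k = false := fun k hv =>
    Bool.eq_false_iff.2 fun e => hv (Nat.eq_of_beq_eq_true e)
  rw [f1, f2 0 n22, f2 8 n22', f2 0 n11, f2 8 n11'] at key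
  simp only [Bool.not_true, Bool.false_or, List.any_eq_true, Bool.and_eq_true] at key
  obtain ⟨s, hs, ⟨⟨⟨hs2, k11⟩, k12⟩, k21⟩, k22⟩ := key
  have hs' : s < 1024 := by fin_cases hs <;> norm_num
  have hinv : (ofN s)⁻¹ = ofN s := inv_eq_of_mul_eq_one_right (code_inj.1 (by
    rw [code_mul, ofN_code hs', Nat.eq_of_beq_eq_true hs2]; rfl))
  have same : ∀ {n v : ℕ}, n < 1024 → S.e (ofN v) = h * S.e (ofN n) * h⁻¹ →
      Nat.beq (mulN (mulN s n) s) v = true →
      S.e (ofN n) ∈ (MulAut.conj h).toMonoidHom.eqLocus (MulAut.conj (S.e (ofN s))).toMonoidHom := by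
    intro n v hn hv hb
    show h * S.e (ofN n) * h⁻¹ = S.e (ofN s) * S.e (ofN n) * (S.e (ofN s))⁻¹
    rw [← hv, ← map_inv, hinv, ← map_mul, ← map_mul]
    refine congrArg S.e (code_inj.1 ?_)
    rw [code_mul, code_mul, ofN_code hs', ofN_code hn, Nat.eq_of_beq_eq_true hb, ofN_code]
    rw [← Nat.eq_of_beq_eq_true hb]
    exact mulN_lt (mulN_lt hs' hn) hs'
  set L := (MulAut.conj h).toMonoidHom.eqLocus (MulAut.conj (S.e (ofN s))).toMonoidHom with hL
  have gen : ∀ (c : Bool) {n : ℕ}, S.e (ofN n) ∈ L → S.e (ofN (bif c then n else 0)) ∈ L := fun c n hn => by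
    cases c
    · rw [cond_false, show ofN 0 = (1 : Mdl) from rfl, map_one]
      exact one_mem L
    · exact hn
  have hxL : x ∈ L := by
    obtain ⟨w, hw, rfl⟩ := hx
    have hspan := Nat.eq_of_beq_eq_true (List.all_eq_true.1 W_span _ (mem_maskList hw))
    have l : ∀ (c : Bool) (n : ℕ), n < 1024 → (bif c then n else 0) < 1024 := fun c n hn => by
      cases c <;> simp [hn]
    rw [show w = (ofN (bif w.code.val.testBit 2 then 4 else 0) * ofN (bif w.code.val.testBit 3 then 8 else 0)) *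
        (ofN (bif w.code.val.testBit 5 then 32 else 0) * ofN (bif w.code.val.testBit 6 then 64 else 0)) from
      code_inj.1 (by
        rw [code_mul, code_mul, code_mul, ofN_code (l _ _ (by norm_num)), ofN_code (l _ _ (by norm_num)),
          ofN_code (l _ _ (by norm_num)), ofN_code (l _ _ (by norm_num)), hspan]), map_mul, map_mul, map_mul]
    exact mul_mem (mul_mem (gen _ (same (by norm_num) i11 k11)) (gen _ (same (by norm_num) i12 k12)))
      (mul_mem (gen _ (same (by norm_num) i21 k21)) (gen _ (same (by norm_num) i22 k22)))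
  have hx2 : h * x * h⁻¹ = S.e (ofN s) * x * (S.e (ofN s))⁻¹ := hxL
  exact ⟨S.e (ofN s), S.e_mem _, hx2.symm.trans he⟩

end Setting

end Cfsg.Lib.LFiveType
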