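import Cfsg.Agent.LFiveType.HatOf
import Cfsg.Agent.LFiveType.Core
import Cfsg.Agent.LFiveType.HatIso
import Cfsg.Agent.LFiveType.Coord
import Cfsg.Agent.S0450

/-!
# Groups with the Sylow 2-subgroup of L5(2)
-/

set_option autoImplicit false
set_option maxRecDepth 100000

namespace Cfsg.Lib.LFiveType

open Subgroup

universe u

namespace Setting

variable {G : Type u} [Group G] [Finite G] [IsSimpleGroup G]

theorem cent_quot_iso (S : Setting G) :
    Nonempty (S.CZ ⧸ Cfsg.pPrimeCore 2 S.CZ ≃* Cfsg.Lib.HeldType.cs) :=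
  S.hat.iso_cs S.hat_move0 S.hat_move9

theorem listed (S : Setting G) :
    Nonempty (G ≃* Matrix.SpecialLinearGroup (Fin 5) (ZMod 2)) ∨ Cfsg.IsM24 G ∨ Cfsg.IsHe G := by
  obtain ⟨φ⟩ := S.cent_quot_iso
  obtain ⟨S', -, -, hfus⟩ := S.exists_coord φ
  obtain ⟨b1, b2, hZ⟩ := S'.fusion_type hfus
  have hcore := S'.core_eq_bot hfus b1 b2 hZ
  obtain ⟨φ'⟩ := S'.cent_quot_iso
  let e : S'.CZ ≃* Cfsg.Lib.HeldType.cs :=
    ((QuotientGroup.quotientMulEquivOfEq hcore).trans QuotientGroup.quotientBot).symm.trans φ'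
  exact Cfsg.Agent.S0450.result Cfsg.Lib.HeldType.sEl Cfsg.Lib.HeldType.mat_z S'.z
    (orderOf_eq_prime (by rw [pow_two, S'.z_sq]) S'.z_ne_one) e

end Setting

end Cfsg.Lib.LFiveType
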