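import Mathlib.LinearAlgebra.Matrix.Block
import Mathlib.LinearAlgebra.Matrix.SpecialLinearGroup
import Mathlib.Data.ZMod.Basic
import Mathlib.Tactic.FinCases
import Mathlib.Tactic.IntervalCases
import Mathlib.Algebra.Group.MinimalAxioms

/-!
# The Sylow 2-subgroup of L5(2) on bits

An element is a code below 1024: its bits are the entries 12, 13, 14, 15, 23, 24, 25, 34, 35, 45 of a unitriangular
matrix over the field of two elements.  The product is checked against the matrices.
-/

set_option autoImplicit false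
set_option maxRecDepth 100000
set_option Elab.async false

namespace Cfsg.Lib.LFiveType

open Matrix

/-- The correcting term of a product. -/
def corN (a b : ℕ) : ℕ :=
  (bif a.testBit 0 then ((b >>> 4) &&& 7) <<< 1 else 0) ^^^
  (bif a.testBit 1 then ((b >>> 7) &&& 3) <<< 2 else 0) ^^^
  (bif a.testBit 2 then ((b >>> 9) &&& 1) <<< 3 else 0) ^^^
  (bif a.testBit 4 then ((b >>> 7) &&& 3) <<< 5 else 0) ^^^
  (bif a.testBit 5 then ((b >>> 9) &&& 1) <<< 6 else 0) ^^^
  (bif a.testBit 7 then ((b >>> 9) &&& 1) <<< 8 else 0)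

/-- The product of codes. -/
def mulN (a b : ℕ) : ℕ := a ^^^ b ^^^ corN a b

theorem cond_testBit (c : Bool) (x k : ℕ) : (bif c then x else 0).testBit k = (c && x.testBit k) := by
  cases c <;> simp

theorem low_testBit (k : ℕ) :
    (7 : ℕ).testBit k = decide (k < 3) ∧ (3 : ℕ).testBit k = decide (k < 2) ∧ (1 : ℕ).testBit k = decide (k < 1) :=
  ⟨Nat.testBit_two_pow_sub_one 3 k, Nat.testBit_two_pow_sub_one 2 k, Nat.testBit_two_pow_sub_one 1 k⟩

theorem testBit_mulN (a b k : ℕ) : (mulN a b).testBit k =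
    ((((((( a.testBit k ^^ b.testBit k) ^^
      (a.testBit 0 && (decide (1 ≤ k) && (b.testBit (k - 1 + 4) && decide (k - 1 < 3))))) ^^
      (a.testBit 1 && (decide (2 ≤ k) && (b.testBit (k - 2 + 7) && decide (k - 2 < 2))))) ^^
      (a.testBit 2 && (decide (3 ≤ k) && (b.testBit (k - 3 + 9) && decide (k - 3 < 1))))) ^^
      (a.testBit 4 && (decide (5 ≤ k) && (b.testBit (k - 5 + 7) && decide (k - 5 < 2))))) ^^
      (a.testBit 5 && (decide (6 ≤ k) && (b.testBit (k - 6 + 9) && decide (k - 6 < 1))))) ^^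
      (a.testBit 7 && (decide (8 ≤ k) && (b.testBit (k - 8 + 9) && decide (k - 8 < 1))))) := by
  simp only [mulN, corN, Nat.testBit_xor, cond_testBit, Nat.testBit_shiftLeft, Nat.testBit_and,
    Nat.testBit_shiftRight, (low_testBit _).1, (low_testBit _).2.1, (low_testBit _).2.2, ge_iff_le,
    Nat.add_comm (k - 1) 4, Nat.add_comm (k - 2) 7, Nat.add_comm (k - 3) 9, Nat.add_comm (k - 5) 7,
    Nat.add_comm (k - 6) 9, Nat.add_comm (k - 8) 9]
  ac_rfl

theorem mulN_lt {a b : ℕ} (ha : a < 1024) (hb : b < 1024) : mulN a b < 1024 := by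
  refine Nat.lt_pow_two_of_testBit (n := 10) _ fun k hk => ?_
  have h1 := Nat.testBit_lt_two_pow (lt_of_lt_of_le ha (Nat.pow_le_pow_right (by norm_num : 2 > 0) hk))
  have h2 := Nat.testBit_lt_two_pow (lt_of_lt_of_le hb (Nat.pow_le_pow_right (by norm_num : 2 > 0) hk))
  rw [testBit_mulN, h1, h2]
  simp [show ¬ k - 1 < 3 by omega, show ¬ k - 2 < 2 by omega, show ¬ k - 3 < 1 by omega, show ¬ k - 5 < 2 by omega,
    show ¬ k - 6 < 1 by omega, show ¬ k - 8 < 1 by omega]

/-- The group of the codes. -/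
structure Mdl where
  code : Fin 1024
deriving DecidableEq

instance : Fintype Mdl := Fintype.ofEquiv _ (⟨Mdl.mk, Mdl.code, fun _ => rfl, fun _ => rfl⟩ : Fin 1024 ≃ Mdl)

/-- An element by its number. -/
def ofN (n : ℕ) : Mdl := ⟨⟨n % 1024, Nat.mod_lt _ (by norm_num)⟩⟩

instance : One Mdl := ⟨ofN 0⟩
instance : Mul Mdl := ⟨fun a b => ofN (mulN a.code.val b.code.val)⟩

theorem code_one : (1 : Mdl).code.val = 0 := rfl

theorem code_mul (a b : Mdl) : (a * b).code.val = mulN a.code.val b.code.val :=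
  Nat.mod_eq_of_lt (mulN_lt a.code.isLt b.code.isLt)

theorem ofN_code {n : ℕ} (h : n < 1024) : (ofN n).code.val = n := Nat.mod_eq_of_lt h

theorem code_inj {a b : Mdl} : a.code.val = b.code.val ↔ a = b := by
  refine ⟨fun h => ?_, fun h => h ▸ rfl⟩
  cases a; cases b
  exact congrArg _ (Fin.ext h)

theorem forall_mdl {P : Mdl → Prop} : (∀ a, P a) ↔ ∀ i : Fin 1024, P ⟨i⟩ :=
  ⟨fun h i => h _, fun h a => h a.code⟩

/-- An entry as a scalar. -/
def ent (n k : ℕ) : ZMod 2 := bif n.testBit k then 1 else 0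

/-- The matrix of a code. -/
def matN (n : ℕ) : Matrix (Fin 5) (Fin 5) (ZMod 2) :=
  !![1, ent n 0, ent n 1, ent n 2, ent n 3;
    0, 1, ent n 4, ent n 5, ent n 6;
    0, 0, 1, ent n 7, ent n 8;
    0, 0, 0, 1, ent n 9;
    0, 0, 0, 0, 1]

theorem scalar_xor : ∀ a b : Bool, (bif (a ^^ b) then (1 : ZMod 2) else 0) =
    (bif a then 1 else 0) + (bif b then 1 else 0) := by decide

theorem scalar_and : ∀ a b : Bool, (bif (a && b) then (1 : ZMod 2) else 0) =
    (bif a then 1 else 0) * (bif b then 1 else 0) := by decide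

theorem ent_mulN (a b k : ℕ) : ent (mulN a b) k = bif ((mulN a b).testBit k) then 1 else 0 := rfl

theorem matN_mulN (a b : ℕ) : matN a * matN b = matN (mulN a b) := by
  ext i j
  fin_cases i <;> fin_cases j <;>
    simp [-Nat.testBit_zero, matN, ent_mulN, testBit_mulN, ent, Matrix.mul_apply, Fin.sum_univ_five, scalar_xor,
      scalar_and] <;> ring_nf

/-- The matrix of an element. -/
def matM (a : Mdl) : Matrix (Fin 5) (Fin 5) (ZMod 2) := matN a.code.val

theorem matM_mul (a b : Mdl) : matM (a * b) = matM a * matM b := by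
  rw [matM, code_mul, ← matN_mulN]
  rfl

theorem matM_injective : Function.Injective matM := fun a b h => by
  refine code_inj.1 (Nat.eq_of_testBit_eq fun k => ?_)
  have hb : ∀ (x y : Bool), (bif x then (1 : ZMod 2) else 0) = (bif y then 1 else 0) → x = y := by decide
  rcases Nat.lt_or_ge k 10 with hk | hk
  · refine hb _ _ ?_
    have e := fun i j => congrFun (congrFun h i) j
    interval_cases k
    exacts [e 0 1, e 0 2, e 0 3, e 0 4, e 1 2, e 1 3, e 1 4, e 2 3, e 2 4, e 3 4]
  · rw [Nat.testBit_lt_two_pow (lt_of_lt_of_le a.code.isLt (Nat.pow_le_pow_right (by norm_num : 2 > 0) hk)),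
      Nat.testBit_lt_two_pow (lt_of_lt_of_le b.code.isLt (Nat.pow_le_pow_right (by norm_num : 2 > 0) hk))]

/-- The inverse: the seventh power. -/
def invM (a : Mdl) : Mdl := a * (a * a) * (a * a * (a * a))

instance : Inv Mdl := ⟨invM⟩

theorem one_mul_mdl : ∀ a : Mdl, (1 : Mdl) * a = a := by
  rw [forall_mdl]
  decide +kernel

theorem inv_mul_mdl : ∀ a : Mdl, a⁻¹ * a = 1 := by
  rw [forall_mdl]
  decide +kernel

instance : Group Mdl :=
  Group.ofLeftAxioms (fun a b c => matM_injective (by simp only [matM_mul, mul_assoc])) one_mul_mdl inv_mul_mdl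

theorem card_mdl : Nat.card Mdl = 1024 := by
  rw [Nat.card_congr (⟨Mdl.code, Mdl.mk, fun _ => rfl, fun _ => rfl⟩ : Mdl ≃ Fin 1024), Nat.card_fin]

theorem matM_one : matM 1 = 1 := by decide +kernel

theorem matM_det (a : Mdl) : (matM a).det = 1 := by
  rw [Matrix.det_of_isUpperTriangular]
  · simp [Fin.prod_univ_five, matM, matN]
  · intro i j h
    fin_cases i <;> fin_cases j <;> simp_all [matM, matN]

/-- The model in the special linear group. -/
def embS : Mdl →* Matrix.SpecialLinearGroup (Fin 5) (ZMod 2) :=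
  MonoidHom.mk' (fun a => ⟨matM a, matM_det a⟩) fun a b => Subtype.ext (matM_mul a b)

theorem embS_injective : Function.Injective embS := fun _ _ h => matM_injective (congrArg Subtype.val h)

end Cfsg.Lib.LFiveType
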