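import Cfsg.Agent.LFiveType.Bridge
import Cfsg.Agent.LFiveType.Local
import Cfsg.Agent.LFiveType.FactsMove
import Cfsg.Agent.Components.Misc.ExtremalTransfer
import Cfsg.Agent.InvolCalc.Classes

/-!
# The transfer moves 12 and 45 inside the centraliser of the centre
-/

set_option autoImplicit false
set_option linter.unusedSectionVars false
set_option linter.style.haveILetI false
set_option maxRecDepth 100000

namespace Cfsg.Lib.LFiveType

open Subgroup

namespace Setting

variable {G : Type*} [Group G] [Finite G] (S : Setting G)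

theorem Q_closed {g x : G} (hg : g * S.z = S.z * g) (hx : x ∈ S.Q) (hy : g * x * g⁻¹ ∈ (S.syl : Subgroup G)) :
    g * x * g⁻¹ ∈ S.Q := S.Q_closed_of (fun _ h => S.wc_A2 h) (fun _ h => S.wc_A3 h) hg hx hy

theorem perfect (S : Setting G) [IsSimpleGroup G] : commutator G = ⊤ := by
  refine ((Subgroup.Normal.eq_bot_or_eq_top (inferInstance : (commutator G).Normal))).resolve_left fun h => ?_
  have h1 : ∀ a b : G, a * b = b * a := fun a b => by
    have : a * b * a⁻¹ * b⁻¹ ∈ commutator G := by
      rw [commutator_def, ← commutatorElement_def]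
      exact commutator_mem_commutator (mem_top a) (mem_top b)
    rw [h, mem_bot] at this
    exact mul_inv_eq_iff_eq_mul.1 (mul_inv_eq_one.1 this)
  have := h1 (S.e (ofN 1)) (S.e (ofN 16))
  rw [← map_mul, ← map_mul] at this
  exact absurd (S.inj this) (by decide +kernel)

/-- Thompson's transfer, corrected into the centraliser of the centre. -/
theorem exists_move [IsSimpleGroup G] {k : ℕ} (hk : k = 0 ∨ k = 9) :
    ∃ g : G, g * S.z = S.z * g ∧ ∃ y : Mdl, inMask mQ y.code.val = true ∧ y.code.val.testBit k = false ∧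
      g * S.e (ofN (2 ^ k)) * g⁻¹ = S.e y := by
  classical
  haveI : Fact (Nat.Prime 2) := ⟨Nat.prime_two⟩
  set T : Subgroup G := (bitHom k hk).ker.map S.e with hT
  have hTS : T ≤ (S.syl : Subgroup G) := S.map_le_syl _
  let q : (S.syl : Subgroup G) →* Multiplicative (ZMod 2) :=
    (bitHom k hk).comp ((MulEquiv.subgroupCongr S.range_eq.symm).trans (MonoidHom.ofInjective S.inj).symm).toMonoidHom
  have hq : T.subgroupOf (S.syl : Subgroup G) = q.ker := by
    ext ⟨x, hx⟩
    obtain ⟨a, rfl⟩ := S.exists_code hx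
    rw [mem_subgroupOf]
    show S.e a ∈ T ↔ bitHom k hk ((MonoidHom.ofInjective S.inj).symm ⟨S.e a, ⟨a, rfl⟩⟩) = 1
    rw [show (MonoidHom.ofInjective S.inj).symm ⟨S.e a, ⟨a, rfl⟩⟩ = a from
      (MulEquiv.symm_apply_eq _).2 (Subtype.ext rfl)]
    exact S.mem_map_iff
  haveI hTn : (T.subgroupOf (S.syl : Subgroup G)).Normal := hq ▸ MonoidHom.normal_ker q
  have hcyc : IsCyclic (↥(S.syl : Subgroup G) ⧸ T.subgroupOf (S.syl : Subgroup G)) := by
    have e := (QuotientGroup.quotientMulEquivOfEq hq).trans (QuotientGroup.quotientKerEquivRange q)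
    exact isCyclic_of_surjective e.symm e.symm.surjective
  set c := S.e (ofN (2 ^ k)) with hc
  have hkc : (ofN (2 ^ k)).code.val = 2 ^ k := ofN_code (by rcases hk with rfl | rfl <;> norm_num)
  have hc2 : c * c = 1 := by
    rw [hc, ← map_mul]
    rcases hk with rfl | rfl <;> rw [← map_one S.e] <;> congr 1
  have hc1 : c ≠ 1 := fun h => by
    have := S.inj (h.trans (map_one S.e).symm)
    rcases hk with rfl | rfl <;> exact absurd this (by decide)
  have hcT : c ∉ T := fun h => by
    rw [hT, hc, S.mem_map_iff, mem_bitHom_ker, hkc] at h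
    rcases hk with rfl | rfl <;> exact absurd h (by decide)
  obtain ⟨g, hgT, -, hmap⟩ := Cfsg.Lib.Misc.ExtremalTransfer.extremal S.syl T hTS hcyc S.perfect c
    (orderOf_eq_prime (by rw [pow_two, hc2]) hc1) (S.e_mem _) hcT
  obtain ⟨a, ha, hga⟩ := hgT
  rw [SetLike.mem_coe, mem_bitHom_ker] at ha
  -- the image of a witness
  have im : ∀ {x : Mdl}, Nat.beq (mulN (2 ^ k) x.code.val) (mulN x.code.val (2 ^ k)) = true →
      ∃ b : Mdl, S.e b = g * S.e x * g⁻¹ ∧ b.code.val ∈ centCodes a.code.val := by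
    intro x hx
    have hcx : S.e x * c = c * S.e x := by
      rw [hc, ← map_mul, ← map_mul]
      exact congrArg _ (code_inj.1 (by rw [code_mul, code_mul, hkc, Nat.eq_of_beq_eq_true hx]))
    obtain ⟨h1, h2⟩ := mem_inf.1 (hmap ⟨S.e x, mem_inf.2 ⟨S.e_mem x, mem_centralizer_singleton_iff.2 hcx⟩, rfl⟩)
    obtain ⟨b, hb⟩ := S.exists_code h1
    refine ⟨b, hb, List.mem_filter.2 ⟨List.mem_range.2 b.code.isLt, ?_⟩⟩
    have h3 := mem_centralizer_singleton_iff.1 h2
    rw [← hga] at h3
    change (MulAut.conj g).toMonoidHom (S.e x) * S.e a = S.e a * (MulAut.conj g).toMonoidHom (S.e x) at h3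
    rw [show (MulAut.conj g).toMonoidHom (S.e x) = S.e b from hb.symm, ← map_mul, ← map_mul] at h3
    rw [Nat.beq_eq, ← code_mul, ← code_mul, S.inj h3]
  obtain ⟨u0, v0, hu, hv, huv⟩ : ∃ u0 v0 : Mdl, Nat.beq (mulN (2 ^ k) u0.code.val) (mulN u0.code.val (2 ^ k)) = true ∧
      Nat.beq (mulN (2 ^ k) v0.code.val) (mulN v0.code.val (2 ^ k)) = true ∧
      u0 * u0 * v0 * (u0 * u0)⁻¹ * v0⁻¹ = zM := by
    rcases hk with rfl | rfl
    · exact ⟨ofN 134, ofN 512, by decide +kernel, by decide +kernel, by decide +kernel⟩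
    · exact ⟨ofN 336, ofN 1, by decide +kernel, by decide +kernel, by decide +kernel⟩
  obtain ⟨b, hb, hbC⟩ := im hu
  obtain ⟨d, hd, hdC⟩ := im hv
  set w := b * b * d * (b * b)⁻¹ * d⁻¹ with hw
  have hwz : S.e w = g * S.z * g⁻¹ := by
    rw [z, ← huv, hw]
    simp only [map_mul, map_inv, hb, hd]
    group
  have ha2 : mulN a.code.val a.code.val = 0 := by
    have h : a * a = 1 := S.inj (by
      rw [map_mul, map_one, hga, show g * c * g⁻¹ * (g * c * g⁻¹) = g * (c * c) * g⁻¹ by group, hc2, mul_one,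
        mul_inv_cancel])
    rw [← code_mul, h, code_one]
  have hQc : c ∈ S.Q := S.mem_map_iff.2 (by
    show inMask mQ _ = true
    rw [hkc]
    rcases hk with rfl | rfl <;> decide +kernel)
  have fin : ∀ g' : G, g' * S.z = S.z * g' → ∀ y : Mdl, y.code.val.testBit k = false → g' * c * g'⁻¹ = S.e y →
      ∃ g : G, g * S.z = S.z * g ∧ ∃ y : Mdl, inMask mQ y.code.val = true ∧ y.code.val.testBit k = false ∧
        g * c * g⁻¹ = S.e y := by
    intro g' hg' y hy hgy
    have := S.Q_closed hg' hQc (by rw [hgy]; exact S.e_mem y)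
    rw [hgy] at this
    exact ⟨g', hg', y, S.mem_map_iff.1 this, hy, hgy⟩
  by_cases haR : inMask mR a.code.val = true
  · have hwW : w ∈ WM := by
      have h := List.all_eq_true.1 gamma_ok (b * b).code.val (List.mem_eraseDups.2
        (List.mem_map.2 ⟨b.code.val, List.mem_range.2 b.code.isLt, (code_mul b b).symm⟩))
      show inMask mW w.code.val = true
      rw [hw, code_comm]
      exact List.all_eq_true.1 h _ (List.mem_range.2 d.code.isLt)
    obtain ⟨h, hR, hh⟩ := S.fusion_R (g := g⁻¹) (x := S.e w) (S.mem_map_iff.2 hwW) (by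
      rw [hwz, show g⁻¹ * (g * S.z * g⁻¹) * g⁻¹⁻¹ = S.z by group]
      exact S.mem_map_iff.2 (show inMask mW zM.code.val = true by decide +kernel))
    rw [hwz] at hh
    have hh' : h * g * S.z * (h * g)⁻¹ = S.z := by
      rw [show h * g * S.z * (h * g)⁻¹ = h * (g * S.z * g⁻¹) * h⁻¹ by group, hh]
      group
    obtain ⟨y, hy, hye⟩ := (hR (S.e a)).1 (S.mem_map_iff.2 haR)
    refine fin (h * g) (mul_inv_eq_iff_eq_mul.1 hh') y ?_ ?_
    · rcases hk with rfl | rfl
      exacts [(mem_RM_iff.1 hy).1, (mem_RM_iff.1 hy).2]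
    · rw [hye, hga]; group
  · refine fin g ?_ a ha hga.symm
    have hchk : moveChk k = true := by rcases hk with rfl | rfl; exacts [move_ok.1, move_ok.2]
    have h := List.all_eq_true.1 hchk _ (List.mem_range.2 a.code.isLt)
    simp only [Bool.not_eq_true] at haR
    rw [ha, ha2, haR] at h
    simp only [Bool.false_or, Nat.beq_refl, Bool.not_true, moveAt, List.all_eq_true] at h
    have h8 := h (b * b).code.val (List.mem_eraseDups.2 (List.mem_map.2 ⟨b.code.val, hbC, (code_mul b b).symm⟩))
      _ hdC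
    have hw8 : inMask 8 w.code.val = true := by rw [hw, code_comm]; exact h8
    have : ∀ n < 1024, inMask 8 n = true → n = 0 ∨ n = 8 := by decide +kernel
    rcases this _ w.code.isLt hw8 with e | e
    · exfalso
      rw [show w = 1 from code_inj.1 e, map_one] at hwz
      exact S.z_ne_one (by
        calc S.z = g⁻¹ * (g * S.z * g⁻¹) * g := by group
          _ = 1 := by rw [← hwz]; group)
    · rw [show w = zM from code_inj.1 e] at hwz
      exact mul_inv_eq_iff_eq_mul.1 hwz.symm

end Setting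

end Cfsg.Lib.LFiveType
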