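import Cfsg.Agent.LFiveType.Setting
import Cfsg.Agent.Classical.SL
import Cfsg.Prelude.Def_Sporadic
import Mathlib.LinearAlgebra.Matrix.ProjectiveSpecialLinearGroup

/-!
# From the hypothesis on a Sylow 2-subgroup to the coordinates, and back from SL(5, 2) to PSL(5, F)
-/

set_option autoImplicit false

namespace Cfsg.Lib.LFiveType

open Matrix

universe u v

theorem card_SL_five : Nat.card (SpecialLinearGroup (Fin 5) (ZMod 2)) = 9999360 := by
  have h := Cfsg.Lib.Classical.card_SL_mul_eq_prod (F := ZMod 2) (n := 5) (by norm_num)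
  rw [ZMod.card, Fin.prod_univ_five] at h
  generalize Nat.card (SpecialLinearGroup (Fin 5) (ZMod 2)) = c at h ⊢
  norm_num at h
  omega

theorem card_embS_range : Nat.card embS.range = 1024 := by
  rw [← Nat.card_congr (MonoidHom.ofInjective embS_injective).toEquiv, card_mdl]

/-- The model as a Sylow 2-subgroup of SL(5, 2). -/
theorem exists_sylow_model : ∃ P : Sylow 2 (SpecialLinearGroup (Fin 5) (ZMod 2)),
    (P : Subgroup (SpecialLinearGroup (Fin 5) (ZMod 2))) = embS.range := by
  have : Fact (Nat.Prime 2) := ⟨Nat.prime_two⟩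
  have hp : IsPGroup 2 embS.range := IsPGroup.of_card (n := 10) (by rw [card_embS_range]; norm_num)
  refine ⟨hp.toSylow fun h => ?_, rfl⟩
  have h1 := embS.range.card_mul_index
  rw [card_embS_range, card_SL_five] at h1
  omega

theorem center_SL_five : Subgroup.center (SpecialLinearGroup (Fin 5) (ZMod 2)) = ⊥ := by
  refine (Subgroup.eq_bot_iff_forall _).2 fun x hx => ?_
  obtain ⟨r, hr, hs⟩ := Matrix.SpecialLinearGroup.mem_center_iff.1 hx
  have : r = 1 := by
    rw [Fintype.card_fin] at hr
    clear hs; revert r; decide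
  subst this
  exact Subtype.ext (by rw [← hs]; simp)

theorem psl_five_equiv {F : Type v} [Field F] [Fintype F] (hF : Fintype.card F = 2) :
    Nonempty (ProjectiveSpecialLinearGroup (Fin 5) F ≃* SpecialLinearGroup (Fin 5) (ZMod 2)) := by
  let e : F ≃+* ZMod 2 := (ZMod.ringEquivOfPrime F Nat.prime_two hF).symm
  let f : SpecialLinearGroup (Fin 5) F ≃* SpecialLinearGroup (Fin 5) (ZMod 2) :=
    { toFun := SpecialLinearGroup.map e.toRingHom
      invFun := SpecialLinearGroup.map e.symm.toRingHom
      left_inv := fun m => Subtype.ext (Matrix.ext fun i j => e.symm_apply_apply _)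
      right_inv := fun m => Subtype.ext (Matrix.ext fun i j => e.apply_symm_apply _)
      map_mul' := map_mul _ }
  have hc : Subgroup.center (SpecialLinearGroup (Fin 5) F) = ⊥ := by
    refine (Subgroup.eq_bot_iff_forall _).2 fun x hx => f.injective ?_
    have h : f x ∈ Subgroup.center (SpecialLinearGroup (Fin 5) (ZMod 2)) := Subgroup.mem_center_iff.2 fun g => by
      obtain ⟨g, rfl⟩ := f.surjective g
      rw [← map_mul, ← map_mul, Subgroup.mem_center_iff.1 hx g]
    rw [center_SL_five, Subgroup.mem_bot] at h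
    rw [h, map_one]
  exact ⟨((QuotientGroup.quotientMulEquivOfEq hc).trans QuotientGroup.quotientBot).trans f⟩

/-- S0512 from the theorem on settings. -/
theorem of_setting_result {G : Type u} [Group G] [Finite G] [IsSimpleGroup G] {F : Type v} [Field F] [Fintype F]
    (hF : Fintype.card F = 2) (T : Sylow 2 G) (P : Sylow 2 (ProjectiveSpecialLinearGroup (Fin 5) F))
    (hT : Nonempty ((T : Subgroup G) ≃* (P : Subgroup (ProjectiveSpecialLinearGroup (Fin 5) F))))
    (main : ∀ _S : Setting G,
      Nonempty (G ≃* SpecialLinearGroup (Fin 5) (ZMod 2)) ∨ Cfsg.IsM24 G ∨ Cfsg.IsHe G) :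
    Nonempty (G ≃* ProjectiveSpecialLinearGroup (Fin 5) F) ∨ Cfsg.IsM24 G ∨ Cfsg.IsHe G := by
  have : Fact (Nat.Prime 2) := ⟨Nat.prime_two⟩
  obtain ⟨ψ⟩ := psl_five_equiv hF
  obtain ⟨Q, hQ⟩ := exists_sylow_model
  obtain ⟨t⟩ := hT
  let P' : Sylow 2 (SpecialLinearGroup (Fin 5) (ZMod 2)) := P.mapSurjective (f := ψ.toMonoidHom) ψ.surjective
  let i : Mdl ≃* (T : Subgroup G) :=
    ((((MonoidHom.ofInjective embS_injective).trans (MulEquiv.subgroupCongr hQ.symm)).trans (Q.equiv P')).trans
      ((P : Subgroup (ProjectiveSpecialLinearGroup (Fin 5) F)).equivMapOfInjective ψ.toMonoidHom ψ.injective).symm).trans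
        t.symm
  have S : Setting G :=
    { e := (T : Subgroup G).subtype.comp i.toMonoidHom
      inj := (T : Subgroup G).subtype_injective.comp i.injective
      syl := T
      range_eq := by
        rw [MonoidHom.range_comp, MonoidHom.range_eq_top.2 i.surjective, ← MonoidHom.range_eq_map,
          Subgroup.range_subtype] }
  rcases main S with ⟨⟨k⟩⟩ | h
  · exact Or.inl ⟨k.trans ψ.symm⟩
  · exact Or.inr h

end Cfsg.Lib.LFiveType
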