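import Cfsg.Agent.LFiveType.FactsCent

/-!
# Finite data for the recursion: pure abelian subgroups up to conjugacy, with certificates
-/

set_option autoImplicit false
set_option maxRecDepth 100000
set_option Elab.async false

namespace Cfsg.Lib.LFiveType

/-- z and the classes of 14, 25 and 24. -/
def zMask : ℕ := 7360198307048065029934624620675715688448774695782720856767472279892934478438496306637611739022585347226933979317349336793710860752893844060806273230741889549207826821387945192178358632534358168227656813769589448426691679698148656052110925592126896340990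
/-- The class of 13+24. -/
def dMask : ℕ := 109111355330644560471249586376075043448669097241782965917224308950254779776973775027429471102041521575222844486010751142798541509450209384528343990272
/-- The class of 24+35. -/
def dMask' : ℕ := 134661257059040648510654434158150240155291143295981570497666783098780796702795535198932616406820299176846961185650416322069448976215420509477965841922872566175613138501457121790137567948914162567261986448335181279606775487301158828820253545853252596897943408638001414144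

/-- The conjugates of z, by the two optional classes. -/
def zCode (b1 b2 : Bool) (n : ℕ) : Bool := zMask.testBit n || (b1 && dMask.testBit n) || (b2 && dMask'.testBit n)

/-- A certificate at a node. -/
inductive RecCert where
  | fus (a d j : ℕ)
  | comm (i j : ℕ)
  | exc1
  | exc2
  | impure (x : ℕ)

/-- A node: elements, steps (coset representative, conjugator, target), certificates for ff, tf, ft, tt. -/
structure RecNode where
  els : List ℕ
  steps : List (ℕ × ℕ × ℕ)
  certs : RecCert × RecCert × RecCert × RecCert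

/-- The nodes. -/
def recNodes : List RecNode := [
  ⟨[0],
    [(20, 0, 1), (22, 1, 1), (24, 0, 2), (26, 1, 2), (28, 512, 1), (30, 513, 1), (34, 0, 3), (38, 1, 3), (40, 0, 4), (42, 256, 3), (44, 1, 4), (46, 257, 3), (50, 129, 1), (52, 128, 1), (56, 128, 2), (58, 641, 1), (60, 640, 1), (62, 129, 2), (66, 0, 5), (68, 0, 6), (70, 128, 5), (74, 1, 5), (76, 1, 6), (78, 129, 5), (82, 257, 2), (84, 256, 1), (86, 769, 1), (88, 256, 2), (92, 768, 1), (94, 257, 1), (98, 512, 3), (100, 513, 4), (102, 640, 3), (104, 512, 4), (106, 641, 3), (110, 513, 3), (114, 897, 1), (116, 384, 1), (118, 385, 2), (120, 384, 2), (122, 385, 1), (124, 896, 1), (129, 0, 7), (133, 2, 7), (136, 0, 8), (137, 64, 7), (140, 2, 8), (141, 66, 7), (163, 16, 7), (167, 17, 7), (168, 16, 8), (171, 80, 7), (172, 17, 8), (175, 81, 7), (192, 0, 9), (196, 2, 9), (200, 1, 9), (204, 3, 9), (224, 16, 9), (228, 18, 9), (232, 19, 9), (236, 17, 9), (257, 0, 10), (260, 0, 11), (261, 32, 10), (265, 2, 10), (268,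 2, 11), (269, 34, 10), (288, 0, 12), (292, 1, 12), (296, 2, 12), (300, 3, 12), (323, 16, 10), (324, 16, 11), (327, 48, 10), (331, 17, 10), (332, 17, 11), (335, 49, 10), (352, 16, 12), (356, 19, 12), (360, 18, 12), (364, 17, 12), (385, 512, 7), (388, 514, 8), (389, 544, 7), (392, 512, 8), (393, 546, 7), (397, 514, 7), (416, 528, 9), (420, 529, 9), (424, 531, 9), (428, 530, 9), (448, 512, 9), (452, 515, 9), (456, 513, 9), (460, 514, 9), (483, 528, 7), (484, 529, 8), (487, 560, 7), (488, 528, 8), (491, 561, 7), (495, 529, 7), (513, 0, 13), (514, 0, 14), (515, 16, 13), (521, 4, 13), (522, 4, 14), (523, 20, 13), (528, 0, 15), (530, 1, 15), (536, 4, 15), (538, 5, 15), (578, 32, 14), (581, 32, 13), (583, 48, 13), (586, 33, 14), (589, 33, 13), (591, 49, 13), (592, 32, 15), (594, 37, 15), (600, 36, 15), (602, 33, 15), (769, 128, 13), (774, 128, 14), (775, 176, 13), (777, 130, 13), (782, 130, 14), (783, 178, 13), (816, 128, 15), (822, 129, 15), (824, 130, 15), (830,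 131, 15), (835, 144, 13), (837, 160, 13), (838, 144, 14), (843, 145, 13), (845, 161, 13), (846, 145, 14), (880, 144, 15), (886, 147, 15), (888, 146, 15), (894, 145, 15)],
    (.fus 1 0 20, .fus 1 0 24, .fus 1 0 20, .fus 1 0 24)⟩,
  ⟨[0, 20],
    [(38, 0, 16), (40, 0, 17), (42, 0, 18), (44, 0, 19), (46, 0, 20), (66, 0, 21), (70, 0, 22), (74, 0, 23), (76, 0, 24), (98, 0, 25), (102, 897, 20), (104, 896, 17), (110, 0, 26)],
    (.fus 2 0 38, .impure 20, .fus 2 0 38, .impure 20)⟩,
  ⟨[0, 24],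
    [(34, 641, 25), (38, 0, 27), (42, 129, 18), (44, 128, 19), (68, 768, 24), (70, 257, 22), (74, 0, 28), (76, 256, 24), (78, 769, 22), (98, 385, 25), (100, 896, 19), (106, 897, 18), (110, 512, 27), (514, 0, 29), (522, 4, 29), (578, 32, 29), (586, 36, 29)],
    (.fus 2 0 34, .fus 2 0 74, .fus 2 0 34, .fus 2 0 74)⟩,
  ⟨[0, 34],
    [(22, 1, 16), (24, 641, 25), (26, 1, 27), (28, 512, 25), (30, 513, 26), (68, 0, 30), (70, 0, 31), (74, 129, 31), (76, 129, 30), (84, 256, 18), (86, 384, 20), (88, 385, 18), (94, 257, 20), (129, 0, 32), (133, 2, 32), (137, 64, 32), (141, 66, 32), (145, 0, 33), (149, 2, 33), (153, 64, 33), (157, 66, 33)],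
    (.fus 2 34 4, .impure 34, .fus 2 34 4, .impure 34)⟩,
  ⟨[0, 40],
    [(20, 0, 17), (22, 1, 19), (26, 129, 19), (28, 128, 17), (66, 641, 31), (70, 513, 31), (74, 897, 31), (76, 0, 34), (78, 769, 31), (82, 385, 19), (84, 256, 17), (92, 384, 17), (94, 257, 19), (192, 0, 35), (196, 2, 35), (200, 16, 35), (204, 18, 35), (260, 0, 36), (268, 2, 36), (324, 16, 36), (332, 18, 36), (388, 0, 37), (392, 2, 37), (448, 18, 37), (460, 16, 37)],
    (.fus 2 0 20, .fus 2 40 4, .fus 2 0 20, .fus 2 40 4)⟩,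
  ⟨[0, 66],
    [(20, 0, 21), (22, 1, 23), (26, 1, 28), (28, 257, 21), (30, 513, 23), (38, 128, 31), (40, 641, 31), (42, 385, 31), (44, 896, 31), (52, 128, 22), (56, 385, 22), (58, 641, 22), (62, 896, 22), (257, 0, 38), (261, 32, 38), (265, 2, 38), (269, 34, 38), (273, 0, 39), (277, 32, 39), (281, 2, 39), (285, 34, 39), (528, 0, 40), (530, 32, 40), (536, 4, 40), (538, 36, 40), (769, 0, 41), (775, 34, 41), (777, 2, 41), (783, 32, 41), (785, 0, 42), (791, 34, 42), (793, 2, 42), (799, 32, 42)],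
    (.fus 2 66 4, .fus 2 66 4, .fus 2 66 4, .fus 2 66 4)⟩,
  ⟨[0, 68],
    [(22, 1, 24), (24, 768, 24), (26, 257, 24), (28, 512, 24), (34, 0, 30), (38, 128, 30), (42, 256, 30), (44, 1, 34), (46, 384, 30), (50, 129, 24), (56, 896, 24), (60, 640, 24), (62, 385, 24), (136, 0, 43), (140, 2, 43), (168, 16, 43), (172, 18, 43), (288, 0, 44), (292, 16, 44), (296, 2, 44), (300, 18, 44), (388, 515, 43), (392, 513, 43), (416, 529, 43), (428, 531, 43), (513, 0, 45), (515, 16, 45), (521, 4, 45), (523, 20, 45), (545, 0, 46), (547, 16, 46), (553, 4, 46), (555, 20, 46), (769, 128, 45), (775, 146, 45), (777, 130, 45), (783, 144, 45), (801, 128, 46), (807, 146, 46), (809, 130, 46), (815, 144, 46)],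
    (.fus 2 0 22, .fus 2 0 44, .fus 2 0 22, .fus 2 0 44)⟩,
  ⟨[0, 129],
    [(34, 0, 32), (38, 1, 32), (42, 256, 32), (46, 257, 32), (260, 0, 47), (261, 0, 48), (265, 34, 48), (268, 34, 47)],
    (.fus 1 129 4, .impure 129, .fus 1 129 4, .impure 129)⟩,
  ⟨[0, 136],
    [(68, 0, 43), (76, 1, 43), (100, 515, 37), (104, 514, 37), (257, 546, 48), (261, 514, 48), (265, 610, 48), (268, 0, 49), (269, 578, 48), (288, 0, 50), (292, 1, 50), (296, 0, 51), (300, 1, 51), (324, 0, 52), (332, 1, 52), (352, 0, 53), (364, 1, 53)],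
    (.fus 1 0 68, .fus 1 136 4, .fus 1 0 257, .fus 1 136 4)⟩,
  ⟨[0, 192],
    [(40, 0, 35), (44, 17, 35), (76, 3, 43), (104, 530, 37), (260, 0, 54), (268, 0, 55), (292, 529, 50), (296, 528, 51), (324, 514, 52), (352, 0, 56), (356, 0, 57), (360, 531, 57), (364, 0, 58)],
    (.fus 4 0 40, .fus 4 0 40, .impure 192, .impure 192)⟩,
  ⟨[0, 257],
    [(66, 0, 38), (70, 128, 38), (74, 1, 38), (78, 129, 38), (133, 32, 48), (136, 546, 48), (137, 98, 48), (140, 608, 48), (578, 0, 59), (583, 129, 59), (586, 1, 59), (591, 128, 59)],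
    (.fus 1 257 4, .fus 1 257 4, .fus 1 257 4, .fus 1 257 4)⟩,
  ⟨[0, 260],
    [(40, 0, 36), (44, 1, 36), (100, 515, 36), (104, 514, 36), (129, 0, 47), (133, 32, 47), (137, 64, 47), (140, 2, 49), (141, 96, 47), (168, 16, 52), (172, 17, 52), (192, 0, 54), (196, 2, 55), (200, 1, 54), (204, 3, 55), (224, 530, 52), (236, 531, 52), (514, 0, 60), (515, 0, 61), (522, 4, 60), (523, 4, 61), (578, 32, 60), (583, 32, 61), (586, 33, 60), (591, 33, 61), (642, 0, 62), (643, 0, 63), (650, 4, 62), (651, 4, 63), (706, 32, 62), (711, 32, 63), (714, 33, 62), (719, 33, 63)],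
    (.fus 1 0 40, .fus 1 0 40, .fus 1 0 129, .fus 1 0 140)⟩,
  ⟨[0, 288],
    [(44, 3, 36), (68, 0, 44), (76, 17, 44), (100, 529, 36), (136, 0, 50), (140, 2, 51), (168, 16, 53), (196, 530, 51), (200, 528, 50), (224, 16, 56), (228, 515, 57), (232, 19, 58), (236, 17, 57), (528, 0, 64), (536, 4, 64), (592, 32, 64), (600, 36, 64), (656, 0, 65), (664, 4, 65), (720, 32, 65), (728, 36, 65)],
    (.fus 4 0 44, .fus 4 0 44, .impure 288, .impure 288)⟩,
  ⟨[0, 513],
    [(68, 0, 45), (70, 128, 41), (76, 1, 45), (78, 129, 41), (324, 16, 61), (327, 180, 59), (332, 17, 61), (335, 181, 59)],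
    (.fus 1 513 2, .fus 1 513 2, .fus 1 513 2, .fus 1 513 2)⟩,
  ⟨[0, 514],
    [(24, 0, 29), (26, 1, 29), (82, 261, 29), (88, 260, 29), (260, 0, 60), (261, 32, 59), (268, 2, 60), (269, 34, 59), (324, 16, 60), (327, 48, 59), (332, 17, 60), (335, 49, 59)],
    (.fus 1 0 24, .fus 1 0 24, .fus 1 0 260, .fus 1 0 260)⟩,
  ⟨[0, 528],
    [(26, 5, 29), (66, 0, 40), (74, 33, 40), (82, 289, 29), (288, 0, 64), (296, 2, 64), (352, 16, 64), (360, 18, 64)],
    (.fus 2 0 26, .fus 2 0 26, .impure 528, .impure 528)⟩,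
  ⟨[0, 20, 38, 50],
    [],
    (.fus 36 20 8, .impure 20, .fus 36 20 8, .impure 20)⟩,
  ⟨[0, 20, 40, 60],
    [(70, 0, 66), (74, 0, 67)],
    (.fus 2 0 70, .impure 20, .fus 2 0 70, .impure 20)⟩,
  ⟨[0, 20, 42, 62],
    [(66, 896, 66), (76, 0, 68)],
    (.fus 2 0 66, .impure 20, .fus 2 0 66, .impure 20)⟩,
  ⟨[0, 20, 44, 56],
    [(66, 385, 66), (74, 257, 67)],
    (.fus 2 0 66, .impure 20, .fus 2 0 66, .impure 20)⟩,
  ⟨[0, 20, 46, 58],
    [(70, 896, 67), (76, 641, 68)],
    (.fus 2 0 70, .impure 20, .fus 2 0 70, .impure 20)⟩,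
  ⟨[0, 20, 66, 86],
    [(42, 896, 66), (44, 385, 66)],
    (.fus 2 66 4, .impure 20, .fus 2 66 4, .impure 20)⟩,
  ⟨[0, 20, 70, 82],
    [(40, 0, 66), (46, 896, 67)],
    (.fus 2 82 4, .impure 20, .fus 2 82 4, .impure 20)⟩,
  ⟨[0, 20, 74, 94],
    [(40, 0, 67), (44, 257, 67)],
    (.fus 2 74 6, .impure 20, .fus 2 74 6, .impure 20)⟩,
  ⟨[0, 20, 76, 88],
    [(42, 0, 68), (46, 641, 68)],
    (.fus 2 88 6, .impure 20, .fus 2 88 6, .impure 20)⟩,
  ⟨[0, 20, 98, 118],
    [(40, 0, 67), (46, 641, 68)],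
    (.fus 2 98 4, .impure 20, .fus 2 98 4, .impure 20)⟩,
  ⟨[0, 20, 110, 122],
    [(40, 0, 66), (44, 385, 66)],
    (.fus 2 110 6, .impure 20, .fus 2 110 6, .impure 20)⟩,
  ⟨[0, 24, 38, 62],
    [(68, 768, 68), (76, 897, 68)],
    (.fus 2 38 4, .impure 38, .fus 2 38 4, .impure 38)⟩,
  ⟨[0, 24, 74, 82],
    [],
    (.fus 72 24 4, .fus 72 24 512, .fus 72 24 4, .comm 4 512)⟩,
  ⟨[0, 24, 514, 538],
    [],
    (.fus 2 514 8, .fus 2 514 8, .impure 538, .impure 538)⟩,
  ⟨[0, 34, 68, 102],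
    [(26, 896, 68), (28, 385, 68)],
    (.fus 2 34 4, .impure 34, .fus 2 34 4, .impure 34)⟩,
  ⟨[0, 34, 70, 100],
    [(24, 641, 67), (30, 513, 66)],
    (.fus 2 34 4, .impure 34, .fus 2 34 4, .impure 34)⟩,
  ⟨[0, 34, 129, 167],
    [],
    (.exc1, .impure 34, .exc1, .impure 34)⟩,
  ⟨[0, 34, 145, 183],
    [],
    (.exc1, .impure 34, .exc1, .impure 34)⟩,
  ⟨[0, 40, 76, 100],
    [],
    (.fus 72 40 2, .fus 2 40 128, .fus 72 40 2, .comm 2 128)⟩,
  ⟨[0, 40, 192, 232],
    [(268, 0, 69), (324, 0, 70)],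
    (.fus 4 0 268, .fus 4 0 268, .impure 192, .impure 192)⟩,
  ⟨[0, 40, 260, 300],
    [(196, 2, 69), (200, 16, 70)],
    (.fus 4 260 8, .fus 4 260 8, .impure 300, .impure 300)⟩,
  ⟨[0, 40, 388, 428],
    [(192, 0, 70), (200, 16, 69)],
    (.fus 4 388 12, .fus 4 388 12, .impure 428, .impure 428)⟩,
  ⟨[0, 66, 257, 331],
    [],
    (.comm 4 512, .comm 4 512, .comm 4 512, .comm 4 512)⟩,
  ⟨[0, 66, 273, 347],
    [],
    (.comm 4 512, .comm 4 512, .comm 4 512, .comm 4 512)⟩,
  ⟨[0, 66, 528, 594],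
    [],
    (.fus 2 66 8, .fus 2 66 8, .impure 528, .impure 528)⟩,
  ⟨[0, 66, 769, 843],
    [],
    (.comm 6 257, .comm 6 257, .comm 6 257, .comm 6 257)⟩,
  ⟨[0, 66, 785, 859],
    [],
    (.comm 6 273, .comm 6 273, .comm 6 273, .comm 6 273)⟩,
  ⟨[0, 68, 136, 204],
    [(292, 0, 71), (296, 529, 71)],
    (.fus 4 68 8, .fus 4 68 8, .impure 204, .impure 204)⟩,
  ⟨[0, 68, 288, 356],
    [(140, 531, 71), (168, 16, 71)],
    (.fus 4 68 8, .fus 4 68 8, .impure 288, .impure 288)⟩,
  ⟨[0, 68, 513, 589],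
    [],
    (.comm 2 256, .comm 2 256, .comm 2 256, .comm 2 256)⟩,
  ⟨[0, 68, 545, 621],
    [],
    (.comm 2 256, .comm 2 256, .comm 2 256, .comm 2 256)⟩,
  ⟨[0, 129, 260, 389],
    [],
    (.fus 1 129 4, .impure 129, .fus 1 129 4, .impure 129)⟩,
  ⟨[0, 129, 261, 388],
    [],
    (.fus 1 129 4, .impure 129, .fus 1 129 4, .impure 129)⟩,
  ⟨[0, 136, 268, 388],
    [],
    (.fus 264 136 1, .fus 1 136 32, .fus 264 136 1, .comm 1 32)⟩,
  ⟨[0, 136, 288, 424],
    [(76, 1, 71), (100, 531, 69)],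
    (.fus 4 0 76, .fus 4 0 76, .impure 288, .impure 288)⟩,
  ⟨[0, 136, 296, 416],
    [(68, 529, 71), (100, 515, 70)],
    (.fus 4 0 68, .fus 4 0 68, .impure 296, .impure 296)⟩,
  ⟨[0, 136, 324, 460],
    [(100, 531, 69), (104, 514, 70)],
    (.fus 4 324 8, .fus 4 324 8, .impure 460, .impure 460)⟩,
  ⟨[0, 136, 352, 488],
    [(68, 0, 71), (76, 528, 71)],
    (.fus 4 488 12, .fus 4 488 12, .impure 352, .impure 352)⟩,
  ⟨[0, 192, 260, 452],
    [(44, 17, 70), (104, 530, 70)],
    (.fus 4 260 8, .fus 4 260 8, .impure 192, .impure 192)⟩,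
  ⟨[0, 192, 268, 460],
    [(40, 0, 69), (104, 514, 69)],
    (.fus 4 268 8, .fus 4 268 8, .impure 192, .impure 192)⟩,
  ⟨[0, 192, 352, 416],
    [],
    (.fus 320 192 4, .fus 320 192 4, .impure 192, .impure 192)⟩,
  ⟨[0, 192, 356, 420],
    [(76, 3, 71), (104, 514, 69)],
    (.fus 4 0 76, .fus 4 0 76, .impure 192, .impure 192)⟩,
  ⟨[0, 192, 364, 428],
    [(40, 0, 70), (104, 530, 70)],
    (.fus 4 0 40, .fus 4 0 40, .impure 192, .impure 192)⟩,
  ⟨[0, 257, 578, 843],
    [],
    (.comm 5 66, .comm 5 66, .comm 5 66, .comm 5 66)⟩,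
  ⟨[0, 260, 514, 782],
    [],
    (.comm 1 64, .comm 1 64, .comm 1 64, .comm 1 64)⟩,
  ⟨[0, 260, 515, 783],
    [],
    (.comm 1 68, .comm 1 68, .comm 1 68, .comm 1 68)⟩,
  ⟨[0, 260, 642, 910],
    [],
    (.comm 1 64, .comm 1 64, .comm 1 64, .comm 1 64)⟩,
  ⟨[0, 260, 643, 911],
    [],
    (.comm 1 68, .comm 1 68, .comm 1 68, .comm 1 68)⟩,
  ⟨[0, 288, 528, 880],
    [],
    (.exc2, .exc2, .impure 288, .impure 288)⟩,
  ⟨[0, 288, 656, 1008],
    [],
    (.exc2, .exc2, .impure 288, .impure 288)⟩,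
  ⟨[0, 20, 40, 60, 70, 82, 110, 122],
    [],
    (.fus 80 60 4, .impure 20, .fus 80 60 4, .impure 20)⟩,
  ⟨[0, 20, 40, 60, 74, 94, 98, 118],
    [],
    (.fus 72 40 4, .impure 20, .fus 72 40 4, .impure 20)⟩,
  ⟨[0, 20, 42, 62, 76, 88, 102, 114],
    [],
    (.fus 90 42 4, .impure 20, .fus 90 42 4, .impure 20)⟩,
  ⟨[0, 40, 192, 232, 268, 292, 460, 484],
    [],
    (.fus 264 232 8, .fus 264 232 8, .impure 192, .impure 192)⟩,
  ⟨[0, 40, 192, 232, 324, 364, 388, 428],
    [],
    (.fus 320 192 8, .fus 320 192 8, .impure 192, .impure 192)⟩,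
  ⟨[0, 68, 136, 204, 292, 352, 428, 488],
    [],
    (.fus 4 68 8, .fus 4 68 8, .impure 204, .impure 204)⟩]

/-- The certificate of a combination. -/
def RecNode.cert (E : RecNode) (b1 b2 : Bool) : RecCert :=
  bif b1 then (bif b2 then E.certs.2.2.2 else E.certs.2.1) else (bif b2 then E.certs.2.2.1 else E.certs.1)

/-- Commutation of codes. -/
def commN (a b : ℕ) : Bool := Nat.beq (mulN a b) (mulN b a)

/-- An element whose coset is an involution of the centraliser modulo the node. -/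
def invOver (els : List ℕ) (a : ℕ) : Bool :=
  Nat.blt a 1024 && !els.contains a && els.contains (mulN a a) && els.all (commN a)

/-- The coset has no conjugate of z with both optional classes off. -/
def pureOver (els : List ℕ) (a : ℕ) : Bool := els.all fun d => !zCode false false (mulN a d)

/-- Every pure extension of a node is a step. -/
def coverOK (E : RecNode) : Bool := (List.range 1024).all fun n =>
  !(invOver E.els n && pureOver E.els n) || E.steps.any fun s => (E.els.map (mulN n)).contains s.1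

/-- The conjugate by a code. -/
def conjN (g x : ℕ) : ℕ := mulN (mulN g x) (invN g)

/-- A step leads to the conjugate node. -/
def stepOK (els : List ℕ) (s : ℕ × ℕ × ℕ) : Bool :=
  Nat.blt s.2.1 1024 && match recNodes[s.2.2]? with
  | none => false
  | some F =>
    let im := ((els ++ els.map (mulN s.1)).map (conjN s.2.1))
    F.els.all (fun x => im.contains x) && im.all (fun x => F.els.contains x)

/-- The certificate proves its claim. -/
def certOK (b1 b2 : Bool) (els : List ℕ) : RecCert → Bool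
  | .fus a d j => invOver els a && invOver els j && els.contains d && zCode b1 b2 a && zCode b1 b2 (mulN a d) &&
      els.all fun d' => !(zCode b1 b2 (mulN j d') && zCode b1 b2 (mulN (mulN j d') d))
  | .comm i j => invOver els i && invOver els j && !els.contains (cmN i j)
  | .exc1 => !b1 && els.contains 34 && els.all (commN 4) && els.all fun x => Nat.beq x 0 || !inMask mQ x
  | .exc2 => !b2 && els.contains 288 && els.all (commN 64) && els.all fun x => Nat.beq x 0 || !inMask mQ x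
  | .impure x => els.contains x && zCode b1 b2 x

/-- All checks at the nodes. -/
def recChk : Bool := recNodes.all fun E =>
  (E.els.all fun x => Nat.blt x 1024) && coverOK E && E.steps.all (stepOK E.els) &&
    certOK false false E.els E.certs.1 && certOK true false E.els E.certs.2.1 &&
    certOK false true E.els E.certs.2.2.1 && certOK true true E.els E.certs.2.2.2

theorem recChk_ok : recChk = true := by decide +kernel

theorem recNodes_head : (recNodes.head?.map fun E => E.els) = some [0] := by decide +kernel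

end Cfsg.Lib.LFiveType
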