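import Cfsg.Agent.LFiveType.FactsQ
import Cfsg.Agent.LFiveType.RecData
import Cfsg.Agent.LFiveType.Bridge

/-!
# Pure abelian subgroups of the Sylow subgroup reach the nodes
-/

set_option autoImplicit false
set_option linter.unusedSectionVars false
set_option linter.style.haveILetI false
set_option maxRecDepth 100000

namespace Cfsg.Lib.LFiveType

open Subgroup

universe u

theorem code_conj (g x : Mdl) : (g * x * g⁻¹).code.val = conjN g.code.val x.code.val := by
  rw [code_mul, code_mul, code_inv, conjN]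

theorem commN_iff (a b : Mdl) : commN a.code.val b.code.val = true ↔ a * b = b * a := by
  rw [commN, Nat.beq_eq, ← code_mul, ← code_mul, code_inj]

theorem node_lt {E : RecNode} (hE : E ∈ recNodes) {x : ℕ} (hx : x ∈ E.els) : x < 1024 := by
  have h := List.all_eq_true.1 recChk_ok E hE
  simp only [Bool.and_eq_true, List.all_eq_true, Nat.blt_eq] at h
  exact h.1.1.1.1.1.1 x hx

theorem node_cover {E : RecNode} (hE : E ∈ recNodes) : coverOK E = true := by
  have h := List.all_eq_true.1 recChk_ok E hE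
  simp only [Bool.and_eq_true] at h
  exact h.1.1.1.1.1.2

theorem node_step {E : RecNode} (hE : E ∈ recNodes) {s : ℕ × ℕ × ℕ} (hs : s ∈ E.steps) :
    stepOK E.els s = true := by
  have h := List.all_eq_true.1 recChk_ok E hE
  simp only [Bool.and_eq_true, List.all_eq_true] at h
  exact h.1.1.1.1.2 s hs

theorem node_cert {E : RecNode} (hE : E ∈ recNodes) (b1 b2 : Bool) : certOK b1 b2 E.els (E.cert b1 b2) = true := by
  have h := List.all_eq_true.1 recChk_ok E hE
  simp only [Bool.and_eq_true] at h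
  cases b1 <;> cases b2
  exacts [h.1.1.1.2, h.1.2, h.1.1.2, h.2]

theorem zCode_mono {b1 b2 : Bool} {n : ℕ} (h : zCode false false n = true) : zCode b1 b2 n = true := by
  simp only [zCode, Bool.false_and, Bool.or_false] at h
  simp [zCode, h]

namespace Setting

variable {G : Type u} [Group G] [Finite G] (S : Setting G)

/-- The node describes the subgroup. -/
def IsNode (D : Subgroup G) (E : RecNode) : Prop :=
  E ∈ recNodes ∧ D ≤ (S.syl : Subgroup G) ∧ ∀ a : Mdl, S.e a ∈ D ↔ a.code.val ∈ E.els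

/-- An abelian 2-subgroup without conjugates of the central involution. -/
structure Pure (D : Subgroup G) : Prop where
  comm : ∀ x ∈ D, ∀ y ∈ D, x * y = y * x
  two : IsPGroup 2 D
  noz : ∀ x ∈ D, ¬ IsConj S.z x

variable {S}

theorem Pure.map {D : Subgroup G} (h : S.Pure D) (n : G) : S.Pure (D.map (MulAut.conj n).toMonoidHom) := by
  refine ⟨?_, h.two.map _, ?_⟩
  · rintro _ ⟨x, hx, rfl⟩ _ ⟨y, hy, rfl⟩
    rw [← map_mul, ← map_mul, h.comm x hx y hy]
  · rintro _ ⟨x, hx, rfl⟩ hc
    exact h.noz x hx (hc.trans (isConj_iff.2 ⟨n⁻¹, by show n⁻¹ * (n * x * n⁻¹) * n⁻¹⁻¹ = x; group⟩))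

theorem Pure.mono {D D' : Subgroup G} (h : S.Pure D) (hle : D' ≤ D) : S.Pure D' :=
  ⟨fun x hx y hy => h.comm x (hle hx) y (hle hy), h.two.to_le hle, fun x hx => h.noz x (hle hx)⟩

/-- The subgroup of a commuting element of square inside. -/
def extendBy (D : Subgroup G) (i : G) (hsq : i * i ∈ D) (hcm : ∀ d ∈ D, i * d = d * i) : Subgroup G where
  carrier := {x | x ∈ D ∨ i * x ∈ D}
  one_mem' := Or.inl (one_mem D)
  mul_mem' := by
    rintro a b (ha | ha) (hb | hb)
    · exact Or.inl (mul_mem ha hb)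
    · refine Or.inr ?_
      rw [← mul_assoc, hcm a ha, mul_assoc]
      exact mul_mem ha hb
    · refine Or.inr ?_
      rw [← mul_assoc]
      exact mul_mem ha hb
    · refine Or.inl ?_
      have h1 : i⁻¹ * (i * a) = i⁻¹ * (i * a) := rfl
      have hci : i⁻¹ * (i * a) = (i * a) * i⁻¹ := (Commute.inv_left (hcm _ ha : Commute i (i * a))).eq
      rw [show a * b = i⁻¹ * (i * a) * (i⁻¹ * (i * b)) by group, hci,
        show i * a * i⁻¹ * (i⁻¹ * (i * b)) = i * a * (i * i)⁻¹ * (i * b) by group]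
      exact mul_mem (mul_mem ha (inv_mem hsq)) hb
  inv_mem' := by
    rintro a (ha | ha)
    · exact Or.inl (inv_mem ha)
    · refine Or.inr ?_
      have hci : i * (i * a)⁻¹ = (i * a)⁻¹ * i := (Commute.inv_right (hcm _ ha : Commute i (i * a))).eq
      rw [show i * a⁻¹ = i * (i * a)⁻¹ * i by group, hci, mul_assoc]
      exact mul_mem (inv_mem ha) hsq

theorem mem_extendBy {D : Subgroup G} {i : G} {hsq : i * i ∈ D} {hcm : ∀ d ∈ D, i * d = d * i} {x : G} :
    x ∈ extendBy D i hsq hcm ↔ x ∈ D ∨ i * x ∈ D := Iff.rfl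

theorem extendBy_facts {D : Subgroup G} {i : G} (hsq : i * i ∈ D) (hcm : ∀ d ∈ D, i * d = d * i) :
    D ≤ extendBy D i hsq hcm ∧ i ∈ extendBy D i hsq hcm ∧ (i ∉ D → Nat.card D < Nat.card (extendBy D i hsq hcm)) ∧
      (IsPGroup 2 D → IsPGroup 2 (extendBy D i hsq hcm)) ∧
      ((∀ x ∈ D, ∀ y ∈ D, x * y = y * x) → ∀ x ∈ extendBy D i hsq hcm, ∀ y ∈ extendBy D i hsq hcm, x * y = y * x) := by
  have hle : D ≤ extendBy D i hsq hcm := fun x hx => Or.inl hx
  have hi : i ∈ extendBy D i hsq hcm := Or.inr hsq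
  refine ⟨hle, hi, fun hn => ?_, fun hp => ?_, fun hc => ?_⟩
  · refine lt_of_le_of_ne (card_le_of_le hle) fun e => hn ?_
    rw [eq_of_le_of_card_ge hle e.ge]
    exact hi
  · rintro ⟨x, hx⟩
    have hx2 : x * x ∈ D := by
      rcases hx with hx | hx
      · exact mul_mem hx hx
      · have hci : i⁻¹ * (i * x) = (i * x) * i⁻¹ := (Commute.inv_left (hcm _ hx : Commute i (i * x))).eq
        rw [show x * x = i⁻¹ * (i * x) * (i⁻¹ * (i * x)) by group, hci,
          show i * x * i⁻¹ * (i * x * i⁻¹) = i * x * (i⁻¹ * (i * x)) * i⁻¹ by group, hci,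
          show i * x * (i * x * i⁻¹) * i⁻¹ = i * x * (i * x) * (i * i)⁻¹ by group]
        exact mul_mem (mul_mem hx hx) (inv_mem hsq)
    obtain ⟨k, hk⟩ := hp ⟨x * x, hx2⟩
    refine ⟨k + 1, Subtype.ext ?_⟩
    show x ^ 2 ^ (k + 1) = 1
    rw [pow_succ', pow_mul, pow_two]
    exact congrArg Subtype.val hk
  · intro x hx y hy
    have key : ∀ y ∈ extendBy D i hsq hcm, ∀ d ∈ D, d * y = y * d := by
      intro y hy d hd
      rcases hy with hy | hy
      · exact hc d hd y hy
      · have e1 : Commute d (i⁻¹ * (i * y)) :=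
          Commute.mul_right (Commute.inv_right (hcm d hd).symm) (hc d hd _ hy)
        rwa [inv_mul_cancel_left] at e1
    have keyi : ∀ y ∈ extendBy D i hsq hcm, i * y = y * i := by
      intro y hy
      rcases hy with hy | hy
      · exact hcm y hy
      · have e1 : Commute i (i⁻¹ * (i * y)) :=
          Commute.mul_right ((Commute.refl i).inv_right) (hcm _ hy)
        rwa [inv_mul_cancel_left] at e1
    rcases hx with hx | hx
    · exact key y hy x hx
    · have e1 : Commute y (i⁻¹ * (i * x)) :=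
        Commute.mul_right (Commute.inv_right (keyi y hy).symm) (key y hy _ hx).symm
      rw [inv_mul_cancel_left] at e1
      exact e1.eq.symm

theorem isNode_bot : ∃ E, S.IsNode ⊥ E := by
  obtain ⟨E, hE, he⟩ : ∃ E ∈ recNodes, E.els = [0] := by
    have h := recNodes_head
    cases hh : recNodes.head? with
    | none => rw [hh] at h; cases h
    | some E => exact ⟨E, List.mem_of_mem_head? hh, by rw [hh] at h; exact Option.some.inj h⟩
  refine ⟨E, hE, bot_le, fun a => ?_⟩
  rw [he, mem_bot, List.mem_singleton]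
  exact ⟨fun h => by rw [S.inj (h.trans (map_one _).symm)]; rfl, fun h => by
    rw [code_inj.1 (h.trans code_one.symm), map_one]⟩

/-- Every pure abelian subgroup of the Sylow subgroup is conjugate inside it to a node. -/
theorem exists_node {b1 b2 : Bool} (hZ : ∀ a : Mdl, IsConj S.z (S.e a) ↔ zCode b1 b2 a.code.val = true) :
    ∀ D : Subgroup G, D ≤ (S.syl : Subgroup G) → S.Pure D →
      ∃ g : Mdl, ∃ E, S.IsNode (D.map (MulAut.conj (S.e g)).toMonoidHom) E := by
  suffices ∀ (n : ℕ) (D : Subgroup G), Nat.card D = n → D ≤ (S.syl : Subgroup G) → S.Pure D →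
      ∃ g : Mdl, ∃ E, S.IsNode (D.map (MulAut.conj (S.e g)).toMonoidHom) E from fun D => this _ D rfl
  intro n
  induction n using Nat.strong_induction_on with
  | _ n ih =>
  intro D hn hDS hp
  haveI : Fact (Nat.Prime 2) := ⟨Nat.prime_two⟩
  obtain ⟨k, hk⟩ := IsPGroup.iff_card.1 hp.two
  rcases k with _ | k
  · rw [pow_zero] at hk
    obtain rfl : D = ⊥ := eq_bot_of_card_eq D hk
    obtain ⟨E, hE⟩ := isNode_bot (S := S)
    exact ⟨1, E, by rwa [Subgroup.map_bot]⟩
  obtain ⟨B, hB⟩ := Sylow.exists_subgroup_card_pow_prime 2 (G := D) (n := k) ⟨2, by rw [hk, pow_succ]⟩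
  set D₀ := B.map D.subtype with hD₀
  have hD₀D : D₀ ≤ D := map_subtype_le _
  have hc₀ : Nat.card D₀ = 2 ^ k := by rw [hD₀, card_map_of_injective D.subtype_injective, hB]
  obtain ⟨g₀, E, hE, hES, hmem⟩ := ih (Nat.card D₀) (by
    rw [hc₀, ← hn, hk]; exact Nat.pow_lt_pow_right (by norm_num) (by omega)) D₀ rfl (hD₀D.trans hDS) (hp.mono hD₀D)
  set c := (MulAut.conj (S.e g₀)).toMonoidHom with hc
  set D' := D.map c with hD'
  set D₀' := D₀.map c
  have hp' : S.Pure D' := hp.map _
  have hD'S : D' ≤ (S.syl : Subgroup G) := by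
    rintro _ ⟨x, hx, rfl⟩
    exact mul_mem (mul_mem (S.e_mem _) (hDS hx)) (inv_mem (S.e_mem _))
  have hle' : D₀' ≤ D' := map_mono hD₀D
  have hidx : Nat.card D' = 2 * Nat.card D₀' := by
    rw [card_map_of_injective (MulAut.conj (S.e g₀)).injective, card_map_of_injective (MulAut.conj (S.e g₀)).injective,
      hk, hc₀, pow_succ, mul_comm]
  obtain ⟨x, hx, hx0⟩ : ∃ x ∈ D', x ∉ D₀' := by
    by_contra hcon
    push Not at hcon
    have := card_le_of_le (show D' ≤ D₀' from hcon)
    have := Nat.card_pos (α := D₀')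
    omega
  have hindex : (D₀'.subgroupOf D').index = 2 := by
    have h1 := (D₀'.subgroupOf D').card_mul_index
    rw [Nat.card_congr (subgroupOfEquivOfLe hle').toEquiv, hidx] at h1
    exact Nat.eq_of_mul_eq_mul_left Nat.card_pos (h1.trans (mul_comm _ _))
  have hmix : ∀ p q : G, p ∈ D' → q ∈ D' → p ∉ D₀' → q ∉ D₀' → p * q ∈ D₀' := fun p q hp hq hp0 hq0 =>
    (mul_mem_iff_of_index_two hindex (a := ⟨p, hp⟩) (b := ⟨q, hq⟩)).2 (iff_of_false hp0 hq0)
  obtain ⟨a, rfl⟩ := S.exists_code (hD'S hx)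
  have hinv : invOver E.els a.code.val = true := by
    simp only [invOver, Bool.and_eq_true, Nat.blt_eq, Bool.not_eq_true', Bool.eq_false_iff, ne_eq,
      List.contains_iff_mem, List.all_eq_true]
    refine ⟨⟨⟨a.code.isLt, fun h => hx0 ((hmem a).2 h)⟩, ?_⟩, fun d hd => ?_⟩
    · rw [← code_mul, ← hmem, map_mul]
      exact hmix _ _ hx hx hx0 hx0
    · have hd' : S.e (ofN d) ∈ D₀' := (hmem _).2 (by rwa [ofN_code (node_lt hE hd)])
      rw [← ofN_code (node_lt hE hd), commN_iff]
      exact S.inj (by rw [map_mul, map_mul]; exact hp'.comm _ hx _ (hle' hd'))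
  have hpure : pureOver E.els a.code.val = true := by
    rw [pureOver, List.all_eq_true]
    intro d hd
    rw [Bool.not_eq_true']
    by_contra hz
    have hd' : S.e (ofN d) ∈ D₀' := (hmem _).2 (by rwa [ofN_code (node_lt hE hd)])
    refine hp'.noz _ (mul_mem hx (hle' hd')) ?_
    rw [← map_mul, hZ, code_mul, ofN_code (node_lt hE hd)]
    exact zCode_mono (Bool.eq_true_of_not_eq_false hz)
  have hcov := List.all_eq_true.1 (node_cover hE) _ (List.mem_range.2 a.code.isLt)
  rw [hinv, hpure] at hcov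
  simp only [Bool.and_self, Bool.not_true, Bool.false_or, List.any_eq_true, List.contains_iff_mem,
    List.mem_map] at hcov
  obtain ⟨⟨r, g, tgt⟩, hs, d, hd, hr⟩ := hcov
  have hst := node_step hE hs
  simp only [stepOK] at hst
  cases hF : recNodes[tgt]? with
  | none => rw [hF] at hst; simp at hst
  | some F =>
  rw [hF] at hst
  simp only [Bool.and_eq_true, Nat.blt_eq, List.all_eq_true, List.contains_iff_mem, List.mem_map, List.mem_append]
    at hst
  obtain ⟨hg, h1, h2⟩ := hst
  have hFm : F ∈ recNodes := List.mem_of_getElem? hF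
  set m := a * ofN d with hm
  have hmr : m.code.val = r := by rw [hm, code_mul, ofN_code (node_lt hE hd), hr]
  have hd0 : S.e (ofN d) ∈ D₀' := (hmem _).2 (by rwa [ofN_code (node_lt hE hd)])
  have hmD : S.e m ∈ D' ∧ S.e m ∉ D₀' := by
    rw [hm, map_mul]
    exact ⟨mul_mem hx (hle' hd0), fun h => hx0 ((mul_mem_cancel_right hd0).1 h)⟩
  have hD'mem : ∀ b : Mdl, S.e b ∈ D' ↔ (b.code.val ∈ E.els ∨ ∃ y ∈ E.els, mulN r y = b.code.val) := by
    intro b
    constructor
    · intro hb
      by_cases hb0 : S.e b ∈ D₀'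
      · exact Or.inl ((hmem b).1 hb0)
      · refine Or.inr ⟨(m⁻¹ * b).code.val, (hmem _).1 ?_, ?_⟩
        · rw [map_mul, map_inv]
          exact hmix _ _ (inv_mem hmD.1) hb (fun h => hmD.2 (by simpa using inv_mem h)) hb0
        · rw [← hmr, ← code_mul, mul_inv_cancel_left]
    · rintro (hb | ⟨y, hy, hb⟩)
      · exact hle' ((hmem b).2 hb)
      · have e : b = m * ofN y := code_inj.1 (by rw [code_mul, hmr, ofN_code (node_lt hE hy), hb])
        rw [e, map_mul]
        exact mul_mem hmD.1 (hle' ((hmem _).2 (by rwa [ofN_code (node_lt hE hy)])))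
  refine ⟨ofN g * g₀, F, hFm, ?_, fun b => ?_⟩
  · rintro _ ⟨y, hy, rfl⟩
    exact mul_mem (mul_mem (S.e_mem _) (hDS hy)) (inv_mem (S.e_mem _))
  · have e : S.e b ∈ D.map (MulAut.conj (S.e (ofN g * g₀))).toMonoidHom ↔
        S.e ((ofN g)⁻¹ * b * ofN g) ∈ D' := by
      rw [hD', hc]
      constructor
      · rintro ⟨y, hy, hye⟩
        refine ⟨y, hy, ?_⟩
        simp only [MulEquiv.coe_toMonoidHom, MulAut.conj_apply, map_mul S.e, map_inv S.e] at hye ⊢
        rw [← hye]; group
      · rintro ⟨y, hy, hye⟩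
        refine ⟨y, hy, ?_⟩
        simp only [MulEquiv.coe_toMonoidHom, MulAut.conj_apply, map_mul S.e, map_inv S.e] at hye ⊢
        calc S.e (ofN g) * S.e g₀ * y * (S.e (ofN g) * S.e g₀)⁻¹
            = S.e (ofN g) * (S.e g₀ * y * (S.e g₀)⁻¹) * (S.e (ofN g))⁻¹ := by group
          _ = _ := by rw [hye]; group
    rw [e, hD'mem]
    set y := (ofN g)⁻¹ * b * ofN g with hy
    have hby : b = ofN g * y * (ofN g)⁻¹ := by rw [hy]; group
    have hcode : b.code.val = conjN g y.code.val := by
      rw [hby, code_conj, ofN_code hg]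
    constructor
    · intro hh
      rw [hcode]
      exact h2 _ ⟨y.code.val, hh, rfl⟩
    · intro hh
      obtain ⟨z, hz, hze⟩ := h1 _ hh
      have hz1 : z < 1024 := by
        rcases hz with hz | ⟨w, hw, rfl⟩
        · exact node_lt hE hz
        · rw [← hmr]; exact mulN_lt m.code.isLt (node_lt hE hw)
      have hyz : y = ofN z := by
        have e3 : ofN g * ofN z * (ofN g)⁻¹ = b := code_inj.1 (by
          rw [code_conj, ofN_code hg, ofN_code hz1, hze])
        rw [hy, ← e3]; group
      rw [hyz, ofN_code hz1]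
      exact hz

end Setting

end Cfsg.Lib.LFiveType
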