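import Cfsg.Agent.LFiveType.Model
import Mathlib.GroupTheory.Sylow

/-!
# A group with the Sylow 2-subgroup of L5(2): the named subgroups
-/

set_option autoImplicit false
set_option maxRecDepth 100000
set_option Elab.async false

namespace Cfsg.Lib.LFiveType

/-- A code has all its bits inside a mask. -/
def inMask (m n : ℕ) : Bool := Nat.beq (n &&& m) n

/-- The codes inside a mask. -/
def maskList (m : ℕ) : List ℕ := (List.range 1024).filter (inMask m)

/-- Closure of a mask under products. -/
def maskOK (m : ℕ) : Bool := (maskList m).all fun a => (maskList m).all fun b => inMask m (mulN a b)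

/-- The mask of A2: 13, 14, 15, 23, 24, 25. -/
def mA2 : ℕ := 126
/-- The mask of A3: 14, 15, 24, 25, 34, 35. -/
def mA3 : ℕ := 492
/-- The mask of R = A2 A3. -/
def mR : ℕ := 510
/-- The mask of W = Z(R): 14, 15, 24, 25. -/
def mW : ℕ := 108
/-- The mask of Q: 12, 13, 14, 15, 25, 35, 45. -/
def mQ : ℕ := 847
/-- The mask of the first row: 12, 13, 14, 15. -/
def mE : ℕ := 15

theorem maskOK_all : maskOK mA2 = true ∧ maskOK mA3 = true ∧ maskOK mR = true ∧ maskOK mW = true ∧
    maskOK mQ = true ∧ maskOK mE = true := by decide +kernel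

theorem inMask_mul {m : ℕ} (h : maskOK m = true) {a b : Mdl} (ha : inMask m a.code.val = true)
    (hb : inMask m b.code.val = true) : inMask m (a * b).code.val = true := by
  simp only [maskOK, maskList, List.all_eq_true, List.mem_filter, List.mem_range] at h
  rw [code_mul]
  exact h _ ⟨a.code.isLt, ha⟩ _ ⟨b.code.isLt, hb⟩

/-- The subgroup of a mask. -/
def maskSub (m : ℕ) (h : maskOK m = true) : Subgroup Mdl where
  carrier := {a | inMask m a.code.val = true}
  one_mem' := by simp [inMask, code_one]
  mul_mem' := fun ha hb => inMask_mul h ha hb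
  inv_mem' := fun {a} ha => by
    show inMask m (invM a).code.val = true
    exact inMask_mul h (inMask_mul h ha (inMask_mul h ha ha)) (inMask_mul h (inMask_mul h ha ha) (inMask_mul h ha ha))

theorem mem_maskSub {m : ℕ} {h : maskOK m = true} {a : Mdl} : a ∈ maskSub m h ↔ inMask m a.code.val = true := Iff.rfl

/-- A2 in the model. -/
def A2M : Subgroup Mdl := maskSub mA2 maskOK_all.1
/-- A3 in the model. -/
def A3M : Subgroup Mdl := maskSub mA3 maskOK_all.2.1
/-- R in the model. -/
def RM : Subgroup Mdl := maskSub mR maskOK_all.2.2.1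
/-- W in the model. -/
def WM : Subgroup Mdl := maskSub mW maskOK_all.2.2.2.1
/-- Q in the model. -/
def QM : Subgroup Mdl := maskSub mQ maskOK_all.2.2.2.2.1
/-- The first row in the model. -/
def EM : Subgroup Mdl := maskSub mE maskOK_all.2.2.2.2.2

/-- The central involution. -/
def zM : Mdl := ofN 8

/-- A code of W with non-zero determinant (a non-singular vector). -/
def nonsing (n : ℕ) : Bool := inMask mW n && ((n.testBit 2 && n.testBit 6) ^^ (n.testBit 3 && n.testBit 5))

/-- The hypothesis: a copy of the model is a Sylow 2-subgroup. -/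
structure Setting (G : Type*) [Group G] where
  e : Mdl →* G
  inj : Function.Injective e
  syl : Sylow 2 G
  range_eq : e.range = (syl : Subgroup G)

namespace Setting

variable {G : Type*} [Group G] (S : Setting G)

/-- The central involution. -/
def z : G := S.e zM
/-- A2. -/
def A2 : Subgroup G := A2M.map S.e
/-- A3. -/
def A3 : Subgroup G := A3M.map S.e
/-- R. -/
def R : Subgroup G := RM.map S.e
/-- W. -/
def W : Subgroup G := WM.map S.e
/-- Q. -/
def Q : Subgroup G := QM.map S.e
/-- The first row. -/
def E : Subgroup G := EM.map S.e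

theorem e_mem (a : Mdl) : S.e a ∈ (S.syl : Subgroup G) := S.range_eq ▸ ⟨a, rfl⟩

theorem exists_code {x : G} (h : x ∈ (S.syl : Subgroup G)) : ∃ a, S.e a = x := by
  rw [← S.range_eq] at h
  exact h

theorem mem_map_iff {M : Subgroup Mdl} {a : Mdl} : S.e a ∈ M.map S.e ↔ a ∈ M := by
  rw [Subgroup.mem_map]
  exact ⟨fun ⟨b, hb, h⟩ => S.inj h ▸ hb, fun h => ⟨a, h, rfl⟩⟩

theorem map_le_syl (M : Subgroup Mdl) : M.map S.e ≤ (S.syl : Subgroup G) :=
  S.range_eq ▸ Subgroup.map_le_range _ _

theorem zM_central : ∀ a : Mdl, a * zM = zM * a := by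
  rw [forall_mdl]
  decide +kernel

theorem z_central {x : G} (h : x ∈ (S.syl : Subgroup G)) : x * S.z = S.z * x := by
  obtain ⟨a, rfl⟩ := S.exists_code h
  rw [z, ← map_mul, ← map_mul, zM_central]

theorem zM_order : zM ≠ 1 ∧ zM * zM = 1 := by decide +kernel

theorem z_ne_one : S.z ≠ 1 := fun h => zM_order.1 (S.inj (h.trans (map_one _).symm))

theorem z_sq : S.z * S.z = 1 := by rw [z, ← map_mul, zM_order.2, map_one]

end Setting

end Cfsg.Lib.LFiveType
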