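import Cfsg.Agent.LFiveType.Bar

/-!
# The normaliser of A2 (of A3) keeps the meet with Q
-/

set_option autoImplicit false
set_option linter.unusedSectionVars false
set_option linter.style.haveILetI false
set_option maxRecDepth 100000

namespace Cfsg.Lib.LFiveType

open Subgroup

/-- The sum of two vectors of five bits. -/
def x32 (k l : Fin 32) : Fin 32 := ⟨k.val ^^^ l.val, Nat.xor_lt_two_pow (n := 5) k.isLt l.isLt⟩

theorem x32_facts : ∀ k l : Fin 32, x32 k k = 0 ∧ x32 k 0 = k ∧ x32 (x32 k l) l = k ∧ x32 k l = x32 l k := by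
  decide +kernel

theorem x32_assoc (a b c : Fin 32) : x32 (x32 a b) c = x32 a (x32 b c) := Fin.ext (Nat.xor_assoc _ _ _)

/-- The unit vector. -/
def e32 (i : Fin 5) : Fin 32 := ⟨2 ^ i.val, by revert i; decide⟩

/-- A multiple of a unit vector. -/
def t32 (k : Fin 32) (i : Fin 5) : Fin 32 := if k.val.testBit i.val then e32 i else 0

theorem x32_bits : ∀ k : Fin 32,
    k = x32 (x32 (x32 (x32 (t32 k 0) (t32 k 1)) (t32 k 2)) (t32 k 3)) (t32 k 4) := by
  decide +kernel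

/-- An additive map. -/
def Add32 (p : Fin 32 → Fin 32) : Prop := ∀ k l, p (x32 k l) = x32 (p k) (p l)

/-- A map displacing by at most one vector. -/
def Tv32 (p : Fin 32 → Fin 32) : Prop := ∀ k l, p k = k ∨ p l = l ∨ x32 (p k) k = x32 (p l) l

theorem Add32.zero {p : Fin 32 → Fin 32} (h : Add32 p) : p 0 = 0 := by
  have e := h 0 0
  rw [(x32_facts 0 0).1, (x32_facts (p 0) 0).1] at e
  exact e

theorem Add32.ext {p q : Fin 32 → Fin 32} (hp : Add32 p) (hq : Add32 q) (h : ∀ i, p (e32 i) = q (e32 i))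
    (k : Fin 32) : p k = q k := by
  have ht : ∀ i, p (t32 k i) = q (t32 k i) := fun i => by
    rw [t32]
    split
    · exact h i
    · rw [hp.zero, hq.zero]
  rw [x32_bits k, hp, hp, hp, hp, hq, hq, hq, hq, ht, ht, ht, ht, ht]

theorem bits_choice : ∀ f : Fin 5 → Bool, ∃ w : Fin 32, ∀ i, w.val.testBit i.val = f i := by decide +kernel

/-- The transvection with given centre and functional. -/
def tv32 (a w k : Fin 32) : Fin 32 := if Nat.testBit 2523490710 (k.val &&& w.val) then x32 k a else k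

theorem tv32_val (a w k : Fin 32) : (tv32 a w k).val = tvS5 a.val w.val k.val := by
  rw [tv32, tvS5]
  cases Nat.testBit 2523490710 (k.val &&& w.val) <;> rfl

theorem tv32_add (a w : Fin 32) : Add32 (tv32 a w) := fun k l => by
  have hk : k.val &&& w.val < 32 := Nat.and_lt_two_pow (n := 5) _ w.isLt
  have hl : l.val &&& w.val < 32 := Nat.and_lt_two_pow (n := 5) _ w.isLt
  have e : Nat.testBit 2523490710 ((x32 k l).val &&& w.val) =
      xor (Nat.testBit 2523490710 (k.val &&& w.val)) (Nat.testBit 2523490710 (l.val &&& w.val)) := by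
    rw [show (x32 k l).val = k.val ^^^ l.val from rfl, Nat.and_xor_distrib_right]
    exact parity_xor ⟨_, hk⟩ ⟨_, hl⟩
  unfold tv32
  rw [e]
  cases Nat.testBit 2523490710 (k.val &&& w.val) <;> cases Nat.testBit 2523490710 (l.val &&& w.val) <;>
    refine Fin.ext ?_ <;> simp [x32, Nat.xor_comm, Nat.xor_left_comm]

theorem exists_tv32 {p : Fin 32 → Fin 32} (ha : Add32 p) (ht : Tv32 p) : ∃ a w, ∀ k, p k = tv32 a w k := by
  obtain ⟨w, hw⟩ := bits_choice fun i => decide (p (e32 i) ≠ e32 i)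
  obtain ⟨a, haa⟩ : ∃ a, ∀ i, p (e32 i) ≠ e32 i → x32 (p (e32 i)) (e32 i) = a := by
    by_cases he : ∃ i, p (e32 i) ≠ e32 i
    · obtain ⟨i, hi⟩ := he
      exact ⟨x32 (p (e32 i)) (e32 i), fun j hj =>
        ((ht (e32 j) (e32 i)).resolve_left hj).resolve_left hi⟩
    · push Not at he
      exact ⟨0, fun i hi => absurd (he i) hi⟩
  refine ⟨a, w, ha.ext (tv32_add a w) fun i => ?_⟩
  have hb : Nat.testBit 2523490710 ((e32 i).val &&& w.val) = w.val.testBit i.val := parity_bits w i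
  rw [tv32, hb, hw]
  by_cases hp : p (e32 i) = e32 i
  · simp [hp]
  · simp only [hp, ne_eq, not_false_iff, decide_true, if_true]
    rw [← haa i hp, (x32_facts (e32 i) _).2.2.2, (x32_facts (p (e32 i)) (e32 i)).2.2.1]

/-- Two involutions with product of order dividing four generate a 2-group. -/
theorem isPGroup_pair {K : Type*} [Group K] {x y : K} (hx : orderOf x = 2) (hy : orderOf y = 2)
    (h4 : (x * y) ^ 4 = 1) : IsPGroup 2 (closure ({x, y} : Set K)) := by
  rintro ⟨d, hd⟩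
  refine ⟨2, Subtype.ext ?_⟩
  show d ^ 4 = 1
  by_cases hxy : x = y
  · subst hxy
    rw [Set.pair_eq_singleton, ← zpowers_eq_closure] at hd
    obtain ⟨i, rfl⟩ := hd
    show (x ^ i) ^ 4 = 1
    rw [← zpow_natCast (x ^ i), ← zpow_mul, mul_comm, zpow_mul, zpow_natCast,
      show x ^ 4 = 1 from orderOf_dvd_iff_pow_eq_one.1 (by rw [hx]; norm_num), one_zpow]
  · by_cases hdz : d ∈ zpowers (x * y)
    · obtain ⟨i, rfl⟩ := hdz
      show ((x * y) ^ i) ^ 4 = 1
      rw [← zpow_natCast ((x * y) ^ i), ← zpow_mul, mul_comm, zpow_mul, zpow_natCast, h4, one_zpow]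
    · exact orderOf_dvd_iff_pow_eq_one.1 (by
        rw [Cfsg.Lib.InvolCalc.order_two_of_not_mem hx hy hxy hd hdz]; norm_num)

/-- Commuting elements of square one generate a 2-group. -/
theorem isPGroup_elem {K : Type*} [Group K] {s : Set K} (h1 : ∀ a ∈ s, a * a = 1)
    (h2 : ∀ a ∈ s, ∀ b ∈ s, a * b = b * a) : IsPGroup 2 (closure s) := by
  haveI : IsMulCommutative (closure s) := isMulCommutative_closure h2
  rintro ⟨v, hv⟩
  refine ⟨1, Subtype.ext ?_⟩
  show v ^ 2 = 1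
  induction hv using closure_induction with
  | mem x hx => rw [pow_two]; exact h1 x hx
  | one => exact one_pow _
  | mul a b ha hb iha ihb =>
    have hab : Commute a b := congrArg Subtype.val (IsMulCommutative.is_comm.comm (⟨a, ha⟩ : closure s) ⟨b, hb⟩)
    rw [hab.mul_pow, iha, ihb, one_mul]
  | inv a _ iha => rw [inv_pow, iha, inv_one]

/-- The two sides. -/
def SideData.Valid (d : SideData) : Prop :=
  d ∈ [sideTwo, sideThree] ∧ sideOK d = true ∧ sideTv d = true ∧ sideThreeTv d = true ∧ sidePair d = true ∧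
    sideLink d = true

theorem sideTwo_valid : sideTwo.Valid :=
  ⟨by simp, sideTwo_ok.1, sideTwo_ok.2.1, sideTwo_ok.2.2, sideTwo_pair, side_link.1⟩

theorem sideThree_valid : sideThree.Valid :=
  ⟨by simp, sideThree_ok.1, sideThree_ok.2.1, sideThree_ok.2.2, sideThree_pair, side_link.2⟩

namespace SideData.Valid

variable {d : SideData} (V : d.Valid)
include V

theorem emb_facts (k : Fin 32) : IsB (embS5 d k.val) ∧ inMask d.mask (embS5 d k.val) = true ∧
    idxS5 d (embS5 d k.val) = k.val ∧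
    ∀ l : Fin 32, bm (embS5 d k.val) (embS5 d l.val) = embS5 d (x32 k l).val := by
  have h := V.2.1
  simp only [sideOK, Bool.and_eq_true, List.all_eq_true, List.mem_range, decide_eq_true_eq, Nat.beq_eq] at h
  obtain ⟨⟨⟨⟨⟨h1, h2⟩, h3⟩, h4⟩, h5⟩⟩ := And.intro (h.1.1.1.1 k.val k.isLt) trivial
  exact ⟨⟨h2, h1⟩, h3, h4, fun l => h5 l.val l.isLt⟩

theorem exists_emb {n : ℕ} (hn : IsB n) (hm : inMask d.mask n = true) : ∃ k : Fin 32, embS5 d k.val = n := by
  have h := V.2.1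
  simp only [sideOK, Bool.and_eq_true, List.all_eq_true, Bool.or_eq_true, Bool.not_eq_true',
    List.contains_iff_mem, List.mem_map, List.mem_range] at h
  rcases h.1.1.1.2 n (mem_BL.2 hn) with e | ⟨k, hk, e⟩
  · rw [hm] at e
    exact Bool.noConfusion e
  · exact ⟨⟨k, hk⟩, e⟩

theorem inV_emb (k : Fin 32) :
    inV (embS5 d k.val) = true ↔ ∀ f ∈ d.tvs, actS5 d f k.val = k.val := by
  have h := V.2.1
  simp only [sideOK, Bool.and_eq_true, List.all_eq_true, beq_iff_eq, List.mem_range] at h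
  rw [h.1.1.2 k.val k.isLt]
  simp [List.all_eq_true, Nat.beq_eq]

theorem tvs_lt {f : ℕ} (hf : f ∈ d.tvs) : f < 1024 := by
  have h := V.2.1
  simp only [sideOK, Bool.and_eq_true, List.all_eq_true, decide_eq_true_eq] at h
  exact (h.1.2 f hf).1

theorem tvs_comm {f g : ℕ} (hf : f ∈ d.tvs) (hg : g ∈ d.tvs) (k : Fin 32) :
    actS5 d f (actS5 d g k.val) = actS5 d g (actS5 d f k.val) := by
  have h := V.2.1
  simp only [sideOK, Bool.and_eq_true, List.all_eq_true, Nat.beq_eq, List.mem_range] at h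
  exact (h.1.2 f hf).2 g hg k.val k.isLt

theorem rep_facts {y : ℕ} (hy : y ∈ d.reps) : (∃ k : Fin 32, embS5 d k.val = y) ∧ inV y = false ∧
    ∀ k : Fin 32, embS5 d k.val ∈ cbL y := by
  have h := V.2.1
  simp only [sideOK, Bool.and_eq_true, List.all_eq_true, decide_eq_true_eq, List.contains_iff_mem, List.mem_map,
    List.mem_range, Bool.not_eq_true'] at h
  obtain ⟨⟨⟨-, k, hk, e⟩, h2⟩, h3⟩ := h.2 y hy
  exact ⟨⟨⟨k, hk⟩, e⟩, h2, fun l => h3 l.val l.isLt⟩

end SideData.Valid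

namespace BarGrp

variable {X : Type*} [Group X] [Finite X] (M : BarGrp X)

/-- The element of a vector. -/
def se (d : SideData) (k : Fin 32) : X := M.s (embS5 d k.val)

variable {d : SideData} (V : d.Valid)
include V

theorem se_inj : Function.Injective (M.se d) := fun k l h => Fin.ext (by
  rw [← (V.emb_facts k).2.2.1, ← (V.emb_facts l).2.2.1, M.s_inj (V.emb_facts k).1 (V.emb_facts l).1 h])

theorem se_x32 (k l : Fin 32) : M.se d (x32 k l) = M.se d k * M.se d l := by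
  rw [se, ← (V.emb_facts k).2.2.2 l, M.s_bm (V.emb_facts k).1.1 (V.emb_facts l).1.1]
  rfl

theorem moved_in {g : X} (h : ∀ k, g * M.se d k * g⁻¹ ∈ M.σ.range) (k : Fin 32) :
    ∃ l, g * M.se d k * g⁻¹ = M.se d l := by
  obtain ⟨b, hb, he⟩ := M.wc d V.1 g (fun a ha => by
    have hbn : inMask d.mask (bn a.code.val) = true ∧ IsB (bn a.code.val) := by
      refine ⟨?_, IsB.bn_of a.code.isLt⟩
      simp only [inMask, Nat.beq_eq] at ha ⊢
      rw [bn, Nat.and_right_comm, ha]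
    obtain ⟨j, hj⟩ := V.exists_emb hbn.2 hbn.1
    have e : M.σ a = M.se d j := by rw [se, hj, M.s_bn a.code.isLt, M.s_code]
    rw [e]
    exact h j) (ofN (embS5 d k.val)) (by rw [ofN_code (V.emb_facts k).1.1]; exact (V.emb_facts k).2.1)
  obtain ⟨l, hl⟩ := V.exists_emb (IsB.bn_of b.code.isLt) hb
  exact ⟨l, he.trans (by rw [se, hl, M.s_bn b.code.isLt, M.s_code])⟩

/-- The elements mapping the side to itself. -/
def sideN : Subgroup X where
  carrier := {g | ∀ k, ∃ l, g * M.se d k * g⁻¹ = M.se d l}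
  mul_mem' := fun {g h} hg hh k => by
    obtain ⟨l, hl⟩ := hh k
    obtain ⟨m, hm⟩ := hg l
    exact ⟨m, by rw [show g * h * M.se d k * (g * h)⁻¹ = g * (h * M.se d k * h⁻¹) * g⁻¹ by group, hl, hm]⟩
  one_mem' := fun k => ⟨k, by group⟩
  inv_mem' := fun {g} hg k => by
    choose f hf using hg
    have hinj : Function.Injective f := fun a b e => M.se_inj V
      (mul_left_cancel (mul_right_cancel ((hf a).trans ((congrArg (M.se d) e).trans (hf b).symm))))
    obtain ⟨l, rfl⟩ := (Finite.injective_iff_surjective.1 hinj) k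
    exact ⟨l, by rw [← hf l]; group⟩

theorem range_le_sideN : M.σ.range ≤ M.sideN V := fun _ hx k =>
  M.moved_in V (fun j => mul_mem (mul_mem hx (M.s_mem _)) (inv_mem hx)) k

/-- The permutation of the vectors. -/
noncomputable def th (g : M.sideN V) : Equiv.Perm (Fin 32) :=
  Equiv.ofBijective (fun k => (g.2 k).choose) (Finite.injective_iff_bijective.1 fun a b e => by
    have h1 := (g.2 a).choose_spec
    have e' : (g.2 a).choose = (g.2 b).choose := e
    rw [e', ← (g.2 b).choose_spec] at h1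
    exact M.se_inj V (mul_left_cancel (mul_right_cancel h1)))

theorem th_spec (g : M.sideN V) (k : Fin 32) :
    (g : X) * M.se d k * (g : X)⁻¹ = M.se d (M.th V g k) :=
  (g.2 k).choose_spec

/-- The action on the vectors. -/
noncomputable def thHom : M.sideN V →* Equiv.Perm (Fin 32) :=
  MonoidHom.mk' (M.th V) fun a b => Equiv.ext fun k => M.se_inj V (by
    rw [← M.th_spec, Equiv.Perm.mul_apply, ← M.th_spec, ← M.th_spec, Subgroup.coe_mul]
    group)

theorem th_add (g : M.sideN V) : Add32 (M.thHom V g) := fun k l => M.se_inj V (by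
  show M.se d (M.th V g (x32 k l)) = _
  rw [← M.th_spec, M.se_x32 V, M.se_x32 V]
  show _ = M.se d (M.th V g k) * M.se d (M.th V g l)
  rw [← M.th_spec, ← M.th_spec]
  group)

theorem th_code {t : ℕ} (ht : t < 1024) (k : Fin 32) :
    (M.thHom V ⟨M.s t, M.range_le_sideN V (M.s_mem t)⟩ k).val = actS5 d t k.val := by
  set l := M.thHom V ⟨M.s t, M.range_le_sideN V (M.s_mem t)⟩ k
  have h1 : M.s (cjB t (embS5 d k.val)) = M.se d l := by
    rw [(M.s_cjB ht (V.emb_facts k).1.1).2]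
    exact M.th_spec V ⟨M.s t, M.range_le_sideN V (M.s_mem t)⟩ k
  rw [actS5, M.s_inj (M.s_cjB ht (V.emb_facts k).1.1).1 (V.emb_facts l).1 h1, (V.emb_facts l).2.2.1]

/-- The permutation of one of the three. -/
noncomputable def tvP (f : ℕ) : Equiv.Perm (Fin 32) := M.thHom V ⟨M.s f, M.range_le_sideN V (M.s_mem f)⟩

theorem tvP_facts {f : ℕ} (hf : f ∈ d.tvs) :
    Tv32 (M.tvP V f) ∧ M.tvP V f * M.tvP V f = 1 ∧ M.tvP V f ≠ 1 ∧
      ∀ g ∈ d.tvs, M.tvP V f * M.tvP V g = M.tvP V g * M.tvP V f ∧ (M.tvP V f = M.tvP V g → f = g) := by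
  have h := V.2.2.2.1
  simp only [sideThreeTv, Bool.and_eq_true, List.all_eq_true, List.any_eq_true, Bool.or_eq_true, List.mem_range,
    Nat.beq_eq, Bool.not_eq_true', Bool.eq_false_iff, ne_eq] at h
  obtain ⟨⟨⟨⟨h1, h2⟩, -⟩, h3⟩, h4⟩ := h
  have hc : ∀ g ∈ d.tvs, ∀ k : Fin 32, (M.tvP V g k).val = actS5 d g k.val :=
    fun g hg k => M.th_code V (V.tvs_lt hg) k
  refine ⟨fun k l => ?_, Equiv.ext fun k => Fin.ext ?_, fun e => ?_,
    fun g hg => ⟨Equiv.ext fun k => Fin.ext ?_, fun e => ?_⟩⟩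
  · rcases h1 f hf k.val k.isLt l.val l.isLt with (e | e) | e
    · exact Or.inl (Fin.ext ((hc f hf k).trans e))
    · exact Or.inr (Or.inl (Fin.ext ((hc f hf l).trans e)))
    · refine Or.inr (Or.inr (Fin.ext ?_))
      show (M.tvP V f k).val ^^^ k.val = (M.tvP V f l).val ^^^ l.val
      rw [hc f hf k, hc f hf l, e]
  · rw [Equiv.Perm.mul_apply, hc f hf, hc f hf]
    exact h2 f hf k.val k.isLt
  · obtain ⟨k, hk, hne⟩ := h3 f hf
    have := hc f hf ⟨k, hk⟩
    rw [e] at this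
    exact hne this.symm
  · rw [Equiv.Perm.mul_apply, Equiv.Perm.mul_apply, hc f hf, hc g hg, hc g hg, hc f hf]
    exact V.tvs_comm hf hg k
  · rcases h4 f hf g hg with e' | ⟨k, hk, hne⟩
    · exact e'
    · refine absurd ?_ hne
      rw [← hc f hf ⟨k, hk⟩, ← hc g hg ⟨k, hk⟩, e]

/-- The transvections in the image of the Sylow subgroup are the three. -/
theorem tv_of_range {x : M.sideN V} (hx : (x : X) ∈ M.σ.range) (ht : Tv32 (M.thHom V x))
    (h1 : M.thHom V x ≠ 1) : ∃ f ∈ d.tvs, M.thHom V x = M.tvP V f := by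
  obtain ⟨t, ht', e⟩ := M.exists_bar hx
  obtain rfl : x = ⟨M.s t, M.range_le_sideN V (M.s_mem t)⟩ := Subtype.ext e.symm
  have hc : ∀ i : Fin 5, actS5 d t (2 ^ i.val) = (M.thHom V ⟨M.s t, M.range_le_sideN V (M.s_mem t)⟩ (e32 i)).val :=
    fun i => (M.th_code V ht'.1 (e32 i)).symm
  have h := all_BL V.2.2.1 ht'
  simp only [Bool.or_eq_true, Bool.not_eq_true', Bool.eq_false_iff, ne_eq, List.all_eq_true, List.any_eq_true,
    List.mem_range, Nat.beq_eq] at h
  rcases h with (h | h) | h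
  · exfalso
    refine h fun i hi j hj => ?_
    rcases ht (e32 ⟨i, hi⟩) (e32 ⟨j, hj⟩) with e | e | e
    · exact Or.inl (Or.inl ((hc ⟨i, hi⟩).trans (congrArg Fin.val e)))
    · exact Or.inl (Or.inr ((hc ⟨j, hj⟩).trans (congrArg Fin.val e)))
    · refine Or.inr ?_
      rw [hc ⟨i, hi⟩, hc ⟨j, hj⟩]
      exact congrArg Fin.val e
  · exact absurd (Equiv.ext ((M.th_add V _).ext (fun _ _ => rfl)
      fun i => Fin.ext ((hc i).symm.trans (h i.val i.isLt)))) h1
  · obtain ⟨f, hf, he⟩ := h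
    refine ⟨f, hf, Equiv.ext ((M.th_add V _).ext (M.th_add V _) fun i => Fin.ext ?_)⟩
    rw [← hc i, he i.val i.isLt]
    exact (M.th_code V (V.tvs_lt hf) (e32 i)).symm

/-- A 2-group of permutations induced by the normaliser moves into the image of the Sylow subgroup. -/
theorem into_image {P : Subgroup (Equiv.Perm (Fin 32))} (hP : P ≤ (M.thHom V).range) (h2 : IsPGroup 2 P) :
    ∃ n : M.sideN V, ∀ p ∈ P, ∃ x : M.sideN V, (x : X) ∈ M.σ.range ∧
      M.thHom V x = M.thHom V n * p * (M.thHom V n)⁻¹ := by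
  haveI : Fact (Nat.Prime 2) := ⟨Nat.prime_two⟩
  obtain ⟨T, hT⟩ := M.sylow
  have hTN : (T : Subgroup X) ≤ M.sideN V := hT ▸ M.range_le_sideN V
  set R := (T.subtype hTN).mapSurjective (MonoidHom.rangeRestrict_surjective (M.thHom V)) with hR
  obtain ⟨r, -, hr⟩ := Cfsg.Lib.ZStarApps.exists_conj_mem_sylow R (H := ⊤) le_top
    (h2.of_injective (subgroupOfEquivOfLe hP).toMonoidHom (subgroupOfEquivOfLe hP).injective :
      IsPGroup 2 (P.subgroupOf (M.thHom V).range)) le_top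
  obtain ⟨_, n, rfl⟩ := r
  refine ⟨n, fun p hp => ?_⟩
  obtain ⟨x, hx, e⟩ := hr ⟨p, hP hp⟩ hp
  exact ⟨x, hT ▸ hx, congrArg Subtype.val e⟩

theorem conj_tv (n : M.sideN V) {f : ℕ} (hf : f ∈ d.tvs) :
    Tv32 ⇑(M.thHom V n * M.tvP V f * (M.thHom V n)⁻¹ : Equiv.Perm (Fin 32)) ∧
      M.thHom V n * M.tvP V f * (M.thHom V n)⁻¹ ≠ 1 := by
  refine ⟨fun k l => ?_, fun e => (M.tvP_facts V hf).2.2.1 (conj_eq_one_iff.1 e)⟩
  set τ := M.thHom V n with hτ
  have key : ∀ k, x32 ((τ * M.tvP V f * τ⁻¹) k) k = τ (x32 (M.tvP V f (τ⁻¹ k)) (τ⁻¹ k)) := fun k => by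
    rw [M.th_add V n, ← hτ, Equiv.Perm.mul_apply, Equiv.Perm.mul_apply, Equiv.Perm.coe_inv, Equiv.apply_symm_apply]
  rcases (M.tvP_facts V hf).1 (τ⁻¹ k) (τ⁻¹ l) with e | e | e
  · left
    rw [Equiv.Perm.mul_apply, Equiv.Perm.mul_apply, e, Equiv.Perm.coe_inv, Equiv.apply_symm_apply]
  · right; left
    rw [Equiv.Perm.mul_apply, Equiv.Perm.mul_apply, e, Equiv.Perm.coe_inv, Equiv.apply_symm_apply]
  · right; right
    rw [key, key, e]

/-- The normaliser permutes the three transvections. -/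
theorem tvs_stable (n : M.sideN V) {f : ℕ} (hf : f ∈ d.tvs) :
    ∃ g ∈ d.tvs, M.thHom V n * M.tvP V f * (M.thHom V n)⁻¹ = M.tvP V g := by
  set b := M.thHom V n * M.tvP V f * (M.thHom V n)⁻¹ with hb
  obtain ⟨hbt, hb1⟩ := M.conj_tv V n hf
  set m : M.sideN V := n * ⟨M.s f, M.range_le_sideN V (M.s_mem f)⟩ * n⁻¹ with hm
  have hbm : M.thHom V m = b := by rw [hm, map_mul, map_mul, map_inv]; rfl
  have hbb : b * b = 1 := by
    rw [hb, show ∀ τ p : Equiv.Perm (Fin 32), τ * p * τ⁻¹ * (τ * p * τ⁻¹) = τ * (p * p) * τ⁻¹ by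
      intro τ p; group, (M.tvP_facts V hf).2.1, mul_one, mul_inv_cancel]
  have htr : ∀ g ∈ d.tvs, M.tvP V g ∈ (M.thHom V).range := fun g _ => ⟨_, rfl⟩
  have hmove : ∀ (ρ : M.sideN V) (p : Equiv.Perm (Fin 32)),
      (∃ (σ : M.sideN V) (g : ℕ), g ∈ d.tvs ∧ p = M.thHom V σ * M.tvP V g * (M.thHom V σ)⁻¹) →
      (∃ x : M.sideN V, (x : X) ∈ M.σ.range ∧ M.thHom V x = M.thHom V ρ * p * (M.thHom V ρ)⁻¹) →
      ∃ g ∈ d.tvs, M.thHom V ρ * p * (M.thHom V ρ)⁻¹ = M.tvP V g := by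
    rintro ρ p ⟨σ, g, hg, rfl⟩ ⟨x, hx, e⟩
    have e' : M.thHom V x = M.thHom V (ρ * σ) * M.tvP V g * (M.thHom V (ρ * σ))⁻¹ := by
      rw [e, map_mul]; group
    obtain ⟨h1, h2⟩ := M.conj_tv V (ρ * σ) hg
    obtain ⟨g', hg', e''⟩ := M.tv_of_range V hx (e' ▸ h1) (e' ▸ h2)
    exact ⟨g', hg', e ▸ e''⟩
  obtain ⟨a, w, haw⟩ := exists_tv32 (hbm ▸ M.th_add V m : Add32 b) hbt
  have hpair := V.2.2.2.2.1
  have hlink := V.2.2.2.2.2
  simp only [sideLink, Bool.and_eq_true, List.all_eq_true, Nat.beq_eq, List.mem_range] at hlink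
  have htw : ∀ p ∈ d.tvs.zip d.tw, ∀ k : Fin 32, (M.tvP V p.1 k).val = tvS5 p.2.1 p.2.2 k.val := fun p hp k =>
    (M.th_code V (V.tvs_lt (List.of_mem_zip hp).1) k).trans (hlink.2 p hp k.val k.isLt)
  simp only [sidePair, List.all_eq_true, List.mem_range, Bool.or_eq_true, Bool.not_eq_true', Bool.eq_false_iff,
    ne_eq, List.any_eq_true, Bool.and_eq_true, Nat.beq_eq] at hpair
  have hbv : ∀ k : Fin 32, tvS5 a.val w.val k.val = (b k).val := fun k => by rw [haw, tv32_val]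
  rcases hpair a.val a.isLt w.val w.isLt with (hinv | hall) | hord
  · exfalso
    refine hinv fun k hk => ?_
    rw [hbv ⟨k, hk⟩, hbv]
    exact congrArg Fin.val (Equiv.congr_fun hbb ⟨k, hk⟩)
  · have hcomm : ∀ g ∈ d.tvs, b * M.tvP V g = M.tvP V g * b := by
      intro g hg
      obtain ⟨i, hi, rfl⟩ := List.mem_iff_getElem.1 hg
      have hi' : i < d.tw.length := hlink.1.symm ▸ hi
      have hp : (d.tvs[i], d.tw[i]) ∈ d.tvs.zip d.tw :=
        List.mem_iff_getElem.2 ⟨i, by simp [hi, hi'], by simp⟩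
      refine Equiv.ext fun k => Fin.ext ?_
      show (b (M.tvP V d.tvs[i] k)).val = (M.tvP V d.tvs[i] (b k)).val
      rw [← hbv, htw _ hp, htw _ hp, ← hbv]
      exact hall _ (List.getElem_mem hi') k.val k.isLt
    by_contra hne
    push Not at hne
    set s : Set (Equiv.Perm (Fin 32)) := insert b (M.tvP V '' {g | g ∈ d.tvs})
    have hs : ∀ p ∈ s, p ∈ (M.thHom V).range ∧ p * p = 1 ∧
        ∃ (σ : M.sideN V) (g : ℕ), g ∈ d.tvs ∧ p = M.thHom V σ * M.tvP V g * (M.thHom V σ)⁻¹ := by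
      rintro p (rfl | ⟨g, hg, rfl⟩)
      · exact ⟨⟨m, hbm⟩, hbb, n, f, hf, rfl⟩
      · exact ⟨htr g hg, (M.tvP_facts V hg).2.1, 1, g, hg, by rw [map_one]; group⟩
    obtain ⟨ρ, hρ⟩ := M.into_image V (P := closure s) ((closure_le _).2 fun p hp => (hs p hp).1)
      (isPGroup_elem (fun p hp => (hs p hp).2.1) (by
        rintro p (rfl | ⟨g, hg, rfl⟩) q (rfl | ⟨g', hg', rfl⟩)
        exacts [rfl, hcomm g' hg', (hcomm g hg).symm, ((M.tvP_facts V hg).2.2.2 g' hg').1]))
    have hsub : (fun p => M.thHom V ρ * p * (M.thHom V ρ)⁻¹) '' s ⊆ M.tvP V '' {g | g ∈ d.tvs} := by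
      rintro _ ⟨p, hp, rfl⟩
      obtain ⟨g, hg, e⟩ := hmove ρ p (hs p hp).2.2 (hρ p (subset_closure hp))
      exact ⟨g, hg, e.symm⟩
    have h1 := Set.ncard_le_ncard hsub
    rw [Set.ncard_image_of_injective _ (fun p q e => mul_left_cancel (mul_right_cancel e))] at h1
    have hbn : b ∉ M.tvP V '' {g | g ∈ d.tvs} := fun ⟨g, hg, e⟩ => hne g hg e.symm
    rw [Set.ncard_insert_of_notMem hbn] at h1
    omega
  · exfalso
    obtain ⟨q, hq, ⟨k, hk, hne⟩, h4⟩ := hord
    obtain ⟨i, hi, rfl⟩ := List.mem_iff_getElem.1 hq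
    have hi' : i < d.tvs.length := hlink.1 ▸ hi
    have hp : (d.tvs[i], d.tw[i]) ∈ d.tvs.zip d.tw :=
      List.mem_iff_getElem.2 ⟨i, by simp [hi, hi'], by simp⟩
    set g := d.tvs[i] with hgdef
    have hg : g ∈ d.tvs := List.getElem_mem hi'
    set c := M.tvP V g with hc
    have hcv : ∀ k : Fin 32, tvS5 (d.tw[i]).1 (d.tw[i]).2 k.val = (c k).val := fun k => (htw _ hp k).symm
    have hbc : b * c ≠ c * b := fun e => hne (by
      rw [hcv ⟨k, hk⟩, hbv, hbv ⟨k, hk⟩, hcv]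
      exact congrArg Fin.val (Equiv.congr_fun e ⟨k, hk⟩))
    have h4' : (b * c) ^ 4 = 1 := by
      refine Equiv.ext fun k => Fin.ext ?_
      have := h4 k.val k.isLt
      simp only [hcv, hbv] at this
      simpa [pow_succ, Equiv.Perm.mul_apply] using this
    have hc1 := (M.tvP_facts V hg).2.2.1
    obtain ⟨ρ, hρ⟩ := M.into_image V (P := closure {b, c})
      ((closure_le _).2 (Set.insert_subset ⟨m, hbm⟩ (Set.singleton_subset_iff.2 (htr g hg))))
      (isPGroup_pair (orderOf_eq_prime (by rw [pow_two, hbb]) hb1)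
        (orderOf_eq_prime (by rw [pow_two, (M.tvP_facts V hg).2.1]) hc1) h4')
    obtain ⟨g1, hg1, e1⟩ := hmove ρ b ⟨n, f, hf, rfl⟩ (hρ b (subset_closure (Set.mem_insert _ _)))
    obtain ⟨g2, hg2, e2⟩ := hmove ρ c ⟨1, g, hg, by simp [hc]⟩
      (hρ c (subset_closure (Set.mem_insert_of_mem _ rfl)))
    apply hbc
    have e := ((M.tvP_facts V hg1).2.2.2 g2 hg2).1
    rw [← e1, ← e2] at e
    have e' : M.thHom V ρ * (b * c) * (M.thHom V ρ)⁻¹ = M.thHom V ρ * (c * b) * (M.thHom V ρ)⁻¹ := by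
      calc _ = M.thHom V ρ * b * (M.thHom V ρ)⁻¹ * (M.thHom V ρ * c * (M.thHom V ρ)⁻¹) := by group
        _ = M.thHom V ρ * c * (M.thHom V ρ)⁻¹ * (M.thHom V ρ * b * (M.thHom V ρ)⁻¹) := e
        _ = _ := by group
    exact mul_left_cancel (mul_right_cancel e')

/-- The classes of a side moved out do not reach Q. -/
theorem side_kill {y w : ℕ} (hy : y ∈ d.reps) (hw : IsB w) (hwV : inV w = true) {g : X}
    (hg : g * M.s y * g⁻¹ = M.s w) (hc : ∀ c ∈ cbL y, g * M.s c * g⁻¹ ∈ M.σ.range) : False := by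
  obtain ⟨⟨i, hi⟩, hyV, hcl⟩ := V.rep_facts hy
  have hgN : g ∈ M.sideN V := fun k => M.moved_in V (fun j => hc _ (hcl j)) k
  set n : M.sideN V := ⟨g, hgN⟩
  set j := M.thHom V n i with hj
  have hjw : embS5 d j.val = w := M.s_inj (V.emb_facts j).1 hw ((M.th_spec V n i).symm.trans (by
    show g * M.s (embS5 d i.val) * g⁻¹ = M.s w
    rw [hi, hg]))
  rw [← hjw, V.inV_emb] at hwV
  rw [← hi, Bool.eq_false_iff, ne_eq, V.inV_emb] at hyV
  refine hyV fun f hf => ?_
  obtain ⟨f', hf', e⟩ := M.tvs_stable V n hf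
  have h1 : M.tvP V f' j = j := Fin.ext ((M.th_code V (V.tvs_lt hf') j).trans (hwV f' hf'))
  rw [← e, hj, Equiv.Perm.mul_apply, Equiv.Perm.mul_apply, Equiv.Perm.coe_inv, Equiv.symm_apply_apply] at h1
  exact (M.th_code V (V.tvs_lt hf) i).symm.trans (congrArg Fin.val ((M.thHom V n).injective h1))

end BarGrp

end Cfsg.Lib.LFiveType
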